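import Cfsg.Agent.Lib.StabAlt4.Plane
import Mathlib.Algebra.QuadraticAlgebra.Basic
import Mathlib.LinearAlgebra.Matrix.GeneralLinearGroup.Card
import Mathlib.LinearAlgebra.AffineSpace.AffineEquiv

/-!
Degree sixteen: the group is the affine group of the plane over the field with four elements.
-/

set_option autoImplicit false
set_option linter.unusedSectionVars false
set_option linter.style.haveILetI false
set_option maxRecDepth 10000

namespace CfsgLib.StabAlt4

open MulAction CfsgLib.StabAlt5

universe u v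

theorem a4_inv_prod : ∀ x : alternatingGroup (Fin 4), x * x = 1 →
    ∃ y z : alternatingGroup (Fin 4), y * y * y = 1 ∧ z * z * z = 1 ∧ y * z = x := by decide +kernel

variable {G : Type u} [Group G] [Finite G] {Ω : Type v} [Finite Ω] [MulAction G Ω] [FaithfulSMul G Ω]
variable {a b : Ω} {t : G}

/-- The lines through a point. -/
abbrev Lines (t : G) (a : Ω) : Type v :=
  {s : Set Ω // a ∈ s ∧ ∃ y ∈ conjSet t, s = fixedBy Ω y}

omit [Finite G] [Finite Ω] [FaithfulSMul G Ω] in
theorem image_fixedBy (g y : G) : (g • ·) '' fixedBy Ω y = fixedBy Ω (g * y * g⁻¹) := by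
  ext c
  constructor
  · rintro ⟨d, hd, rfl⟩
    exact (fixedBy_conj g y d).mpr hd
  · intro hc
    exact ⟨g⁻¹ • c, (fixedBy_conj g y _).mp (by rwa [smul_inv_smul]), smul_inv_smul g c⟩

/-- The permutation of the lines through `a` by an element fixing `a`. -/
def linePerm (t : G) (a : Ω) : ↥(stabilizer G a) →* Equiv.Perm (Lines t a) :=
  letI : MulAction ↥(stabilizer G a) (Lines t a) :=
    { smul := fun g s => ⟨((g : G) • ·) '' s.1, ⟨a, s.2.1, g.2⟩, by
        obtain ⟨y, ⟨k, hk⟩, hs⟩ := s.2.2
        refine ⟨(g : G) * y * (g : G)⁻¹, ⟨(g : G) * k, by rw [← hk]; group⟩, ?_⟩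
        rw [hs]
        exact image_fixedBy _ _⟩
      one_smul := fun s => Subtype.ext (by
        show ((1 : G) • ·) '' s.1 = s.1
        simp)
      mul_smul := fun g h s => Subtype.ext (by
        show (((g : G) * h) • ·) '' s.1 = ((g : G) • ·) '' (((h : G) • ·) '' s.1)
        rw [Set.image_image]
        simp only [mul_smul]) }
  MulAction.toPermHom ↥(stabilizer G a) (Lines t a)

omit [Finite G] [Finite Ω] [FaithfulSMul G Ω] in
theorem linePerm_apply (g : ↥(stabilizer G a)) (s : Lines t a) :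
    (linePerm t a g s).1 = ((g : G) • ·) '' s.1 := rfl

variable (D : Sixteen G t a b)
include D

theorem Sixteen.line_join {c d : Ω} (hcd : c ≠ d) :
    ∃ y ∈ conjSet t, c ∈ fixedBy Ω y ∧ d ∈ fixedBy Ω y := by
  obtain ⟨k, hkc, hkd⟩ := D.hyp.two a b c d D.hyp.ne hcd
  exact ⟨k * t * k⁻¹, ⟨k, rfl⟩, hkc ▸ (fixedBy_conj k t a).mpr D.inv.mem.1,
    hkd ▸ (fixedBy_conj k t b).mpr D.inv.mem.2⟩

/-- An element fixing `b` and all lines through `a` is trivial. -/
theorem Sixteen.kernel_pair {u : ↥(stabilizer G a)} (hu : u ∈ (linePerm t a).ker) (hub : (u : G) • b = b) :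
    u = 1 := by
  classical
  have hfix : ∀ y ∈ conjSet t, a ∈ fixedBy Ω y →
      fixedBy Ω ((u : G) * y * (u : G)⁻¹) = fixedBy Ω y := by
    intro y hy hay
    have h := congrArg Subtype.val (Equiv.ext_iff.mp (MonoidHom.mem_ker.mp hu) ⟨fixedBy Ω y, hay, y, hy, rfl⟩)
    rw [linePerm_apply, image_fixedBy] at h
    exact h
  obtain ⟨e, he⟩ : ∃ e, e ∉ fixedBy Ω t := by
    by_contra h
    push Not at h
    have := Set.ncard_le_ncard (s := (Set.univ : Set Ω)) (t := fixedBy Ω t) fun c _ => h c
    rw [Set.ncard_univ, D.deg, D.fix] at this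
    omega
  have hea : a ≠ e := fun h => he (h ▸ D.inv.mem.1)
  have heb : b ≠ e := fun h => he (h ▸ D.inv.mem.2)
  obtain ⟨y, hy, hay, hey⟩ := D.line_join hea
  obtain ⟨y', hy', hby', hey'⟩ := D.line_join heb
  obtain ⟨z, hz, hza⟩ := D.free_exists D.hyp.ne
  have hzb : z • b = a := by rw [← hza, ← mul_smul, hz.1, one_smul]
  have huz : (u : G) * z = z * u := D.free_comm hz hza u.2 hub
  have huey : (u : G) • e ∈ fixedBy Ω y := hfix y hy hay ▸ (fixedBy_conj (u : G) y e).mpr hey
  have huey' : (u : G) • e ∈ fixedBy Ω y' := by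
    have h1 := hfix (z * y' * z⁻¹) (conjSet_closed D.hyp z y' hy') (hzb ▸ (fixedBy_conj z y' b).mpr hby')
    have h2 : fixedBy Ω (z * ((u : G) * y' * (u : G)⁻¹) * z⁻¹) = fixedBy Ω (z * y' * z⁻¹) := by
      rw [← h1]
      congr 1
      calc z * ((u : G) * y' * (u : G)⁻¹) * z⁻¹ = (z * u) * y' * (z * u)⁻¹ := by group
        _ = ((u : G) * z) * y' * ((u : G) * z)⁻¹ := by rw [huz]
        _ = _ := by group
    have h3 := (fixedBy_conj z ((u : G) * y' * (u : G)⁻¹) ((u : G) • e)).mpr
      ((fixedBy_conj (u : G) y' e).mpr hey')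
    rw [h2] at h3
    exact (fixedBy_conj z y' _).mp h3
  have hue : (u : G) • e = e := by
    by_contra hne
    have hl := D.line_eq hy hy' (Ne.symm hne) hey huey hey' huey'
    have hl' := D.line_eq hy ⟨1, by group⟩ D.hyp.ne hay (show b ∈ fixedBy Ω y by rw [hl]; exact hby') D.inv.mem.1 D.inv.mem.2
    exact he (hl' ▸ hey)
  exact Subtype.ext (D.reg ⟨u.2, hub⟩ he hue)

theorem Sixteen.card_lineKer : Nat.card (linePerm t a).ker = 3 := by
  classical
  haveI := Fintype.ofFinite (Lines t a)
  have hS : Nat.card (Lines t a) ≤ 5 := by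
    rw [Nat.card_eq_fintype_card, ← Finset.card_univ, ← Finset.card_image_of_injective _ Subtype.val_injective]
    refine D.lines_le (e := a) _ fun s hs => ?_
    obtain ⟨⟨s, hs'⟩, -, rfl⟩ := Finset.mem_image.mp hs
    exact hs'
  have hidx : (linePerm t a).ker.index ∣ 120 := by
    rw [Subgroup.index_ker]
    refine (Subgroup.card_subgroup_dvd_card _).trans ?_
    rw [Nat.card_perm]
    exact (Nat.factorial_dvd_factorial hS).trans (by norm_num [Nat.factorial])
  have hmul := (linePerm t a).ker.card_mul_index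
  rw [D.hyp.card_stab, D.deg] at hmul
  have hle : Nat.card (linePerm t a).ker ≤ 3 := by
    have hlt : (fixedBy Ω t \ {a}).ncard = 3 := by
      rw [Set.ncard_sdiff_singleton_of_mem (show a ∈ fixedBy Ω t from D.inv.mem.1), D.fix]
    rw [← hlt, ← Nat.card_coe_set_eq]
    refine Nat.card_le_card_of_injective (fun k => ⟨((k : ↥(stabilizer G a)) : G) • b, ?_, ?_⟩) fun k k' h => ?_
    · have h := congrArg Subtype.val (Equiv.ext_iff.mp (MonoidHom.mem_ker.mp k.2)
        ⟨fixedBy Ω t, D.inv.mem.1, t, ⟨1, by group⟩, rfl⟩)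
      rw [linePerm_apply, Equiv.Perm.one_apply] at h
      exact h.subset (Set.mem_image_of_mem _ (show b ∈ fixedBy Ω t from D.inv.mem.2))
    · intro h
      have hb : ((k : ↥(stabilizer G a)) : G) • b = ((k : ↥(stabilizer G a)) : G) • a :=
        (Set.mem_singleton_iff.mp h).trans (k : ↥(stabilizer G a)).2.symm
      exact D.hyp.ne (MulAction.injective _ hb).symm
    · have h' : ((k : ↥(stabilizer G a)) : G) • b = ((k' : ↥(stabilizer G a)) : G) • b := congrArg Subtype.val h
      have := D.kernel_pair (u := (k : ↥(stabilizer G a))⁻¹ * k') (mul_mem (inv_mem k.2) k'.2) (by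
        rw [Subgroup.coe_mul, Subgroup.coe_inv, mul_smul, ← h', inv_smul_smul])
      exact Subtype.ext (inv_mul_eq_one.mp this)
  have hpos : 0 < Nat.card (linePerm t a).ker := Nat.card_pos
  generalize Nat.card (linePerm t a).ker = k at *
  generalize (linePerm t a).ker.index = i at *
  obtain ⟨j, hj⟩ := hidx
  interval_cases k
  · obtain rfl : i = 180 := by omega
    omega
  · obtain rfl : i = 90 := by omega
    omega
  · rfl

/-- An element of order three fixing only `a`, central in the stabiliser of `a`. -/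
theorem Sixteen.exists_omega : ∃ w : G, w • a = a ∧ (∀ c, w • c = c → c = a) ∧ w * w * w = 1 ∧
    ∀ g : G, g • a = a → g * w = w * g := by
  classical
  have h3 := D.card_lineKer
  set K := (linePerm t a).ker with hK
  haveI : Fact (Nat.Prime 3) := ⟨Nat.prime_three⟩
  haveI : IsCyclic K := isCyclic_of_prime_card h3
  obtain ⟨e⟩ := D.hyp.iso
  -- conjugation on the kernel is trivial
  set f : ↥(stabilizer G a) →* MulAut K := MulAut.conjNormal with hf
  have hidx : f.ker.index ∣ 2 := by
    rw [Subgroup.index_ker]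
    refine (Subgroup.card_subgroup_dvd_card _).trans ?_
    rw [IsCyclic.card_mulAut, h3, Nat.totient_prime Nat.prime_three]
  have hsq : ∀ g : ↥(stabilizer G a), g * g ∈ f.ker := fun g => by
    refine MonoidHom.mem_ker.mpr ?_
    have h2 : Nat.card (MulAut K) = 2 := by rw [IsCyclic.card_mulAut, h3, Nat.totient_prime Nat.prime_three]
    rw [map_mul, ← pow_two, ← h2, pow_card_eq_one']
  have hthree : ∀ g : ↥(stabilizer G a), g * g * g = 1 → g ∈ f.ker := fun g hg => by
    have := hsq (g * g)
    rwa [← mul_assoc, hg, one_mul] at this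
  have hA : (pairStab G a b).subgroupOf (stabilizer G a) ≤ f.ker := by
    intro g hg
    rcases a4_sq_or_cube (e ⟨g, hg⟩) with h | h
    · obtain ⟨y, z, hy, hz, hyz⟩ := a4_inv_prod _ h
      obtain ⟨y, rfl⟩ := e.surjective y
      obtain ⟨z, rfl⟩ := e.surjective z
      simp only [← map_mul, MulEquiv.map_eq_one_iff, e.injective.eq_iff] at hy hz hyz
      have hg' : g = (⟨y, y.2.1⟩ : ↥(stabilizer G a)) * ⟨z, z.2.1⟩ :=
        Subtype.ext (congrArg Subtype.val hyz).symm
      rw [hg']
      exact mul_mem (hthree _ (Subtype.ext (show (y : G) * y * y = 1 from congrArg Subtype.val hy)))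
        (hthree _ (Subtype.ext (show (z : G) * z * z = 1 from congrArg Subtype.val hz)))
    · rw [← map_mul, ← map_mul, MulEquiv.map_eq_one_iff] at h
      exact hthree g (Subtype.ext (show (g : G) * g * g = 1 from congrArg Subtype.val h))
  have hker : f.ker = ⊤ := by
    have h12 := Subgroup.card_dvd_of_le hA
    rw [Nat.card_congr (Subgroup.subgroupOfEquivOfLe inf_le_left).toEquiv, card_A e] at h12
    have hmul := f.ker.card_mul_index
    rw [D.hyp.card_stab, D.deg] at hmul
    rcases (Nat.dvd_prime Nat.prime_two).mp hidx with h | h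
    · exact Subgroup.index_eq_one.mp h
    · rw [h] at hmul
      omega
  -- a generator
  haveI : Nontrivial K := Finite.one_lt_card_iff_nontrivial.mp (by omega)
  obtain ⟨w, w1⟩ := exists_ne (1 : K)
  refine ⟨((w : ↥(stabilizer G a)) : G), (w : ↥(stabilizer G a)).2, fun c hc => ?_, ?_, fun g hg => ?_⟩
  · by_contra hca
    obtain ⟨g, hga, hgb⟩ := D.hyp.two a c a b (Ne.symm hca) D.hyp.ne
    let g' : ↥(stabilizer G a) := ⟨g, hga⟩
    have hmem : g' * w * g'⁻¹ ∈ K := (MonoidHom.normal_ker _).conj_mem _ w.2 _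
    have h1 := D.kernel_pair hmem (by
      show (g * ((w : ↥(stabilizer G a)) : G) * g⁻¹) • b = b
      rw [mul_smul, mul_smul, ← hgb, inv_smul_smul, hc])
    exact w1 (Subtype.ext (conj_eq_one_iff.mp h1))
  · have h := pow_card_eq_one' (x := w)
    rw [h3, pow_succ, pow_two] at h
    exact congrArg (fun k : K => ((k : ↥(stabilizer G a)) : G)) h
  · let g' : ↥(stabilizer G a) := ⟨g, hg⟩
    have h : f g' = 1 := MonoidHom.mem_ker.mp (hker ▸ Subgroup.mem_top g')
    have h' := congrArg (fun k : K => ((k : ↥(stabilizer G a)) : G)) (DFunLike.congr_fun h w)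
    rw [hf] at h'
    simp only [MulAut.conjNormal_apply, Subgroup.coe_mul, Subgroup.coe_inv, MulAut.one_apply] at h'
    exact mul_inv_eq_iff_eq_mul.mp h'

omit D

/-- The field with four elements. -/
abbrev F4 : Type := QuadraticAlgebra (ZMod 2) 1 1

instance f4Fact : Fact (∀ r : ZMod 2, r ^ 2 ≠ 1 + 1 * r) := ⟨by decide⟩

noncomputable instance f4Fintype : Fintype F4 := Fintype.ofEquiv _ (QuadraticAlgebra.equivProd 1 1).symm

theorem card_f4 : Nat.card F4 = 4 := by
  rw [Nat.card_congr (QuadraticAlgebra.equivProd (1 : ZMod 2) 1), Nat.card_prod, Nat.card_zmod]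

/-- Affine bijections of a plane with four-element field: at most 2880. -/
theorem card_affine_le : Finite ((Fin 2 → F4) ≃ᵃ[F4] (Fin 2 → F4)) ∧
    Nat.card ((Fin 2 → F4) ≃ᵃ[F4] (Fin 2 → F4)) ≤ 2880 := by
  classical
  let m : ((Fin 2 → F4) ≃ᵃ[F4] (Fin 2 → F4)) → (Fin 2 → F4) × ((Fin 2 → F4) ≃ₗ[F4] (Fin 2 → F4)) :=
    fun f => (f 0, f.linear)
  have hm : Function.Injective m := fun f g h => by
    obtain ⟨h0, hl⟩ := Prod.ext_iff.mp h
    ext p : 1
    have hf := f.map_vadd 0 p
    have hg := g.map_vadd 0 p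
    simp only [vadd_eq_add, add_zero] at hf hg
    simp only [hf, hg, show f.linear = g.linear from hl, show f 0 = g 0 from h0]
  have hGL : Nat.card ((Fin 2 → F4) ≃ₗ[F4] (Fin 2 → F4)) = 180 := by
    rw [← Nat.card_congr ((Matrix.GeneralLinearGroup.toLin (n := Fin 2) (R := F4)).trans
      (LinearMap.GeneralLinearGroup.generalLinearEquiv F4 (Fin 2 → F4))).toEquiv, Matrix.card_GL_field]
    simp [Fin.prod_univ_two, ← Nat.card_eq_fintype_card, card_f4]
  haveI : Finite ((Fin 2 → F4) ≃ₗ[F4] (Fin 2 → F4)) := Nat.finite_of_card_ne_zero (by omega)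
  refine ⟨Finite.of_injective m hm, (Nat.card_le_card_of_injective m hm).trans ?_⟩
  rw [Nat.card_prod, hGL, Nat.card_fun, card_f4, Nat.card_fin]
  norm_num

variable (D : Sixteen G t a b)
include D

theorem Sixteen.affine : ∃ (F : Type) (_ : Field F) (_ : Fintype F), Fintype.card F = 4 ∧
    Nonempty (G ≃* ((Fin 2 → F) ≃ᵃ[F] (Fin 2 → F))) := by
  classical
  obtain ⟨w, hwa, hwfix, hw3, hwc⟩ := D.exists_omega
  set E := D.trans with hE
  haveI : E.Normal := D.trans_normal
  letI : CommGroup E := { (inferInstance : Group E) with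
    mul_comm := fun ⟨x, hx⟩ ⟨y, hy⟩ => Subtype.ext (by
      show x * y = y * x
      rcases hx with rfl | hx
      · simp
      rcases hy with rfl | hy
      · simp
      exact D.free_commute hy hx) }
  have hsq : ∀ x : E, x * x = 1 := fun x => Subtype.ext (by
    rcases x.2 with h | h
    · show (x : G) * x = 1
      rw [h, one_mul]
    · exact h.1)
  have hinjE : ∀ x y : E, (x : G) • a = (y : G) • a → x = y := fun x y h => by
    obtain ⟨z, -, huniq⟩ := D.trans_regular a ((y : G) • a)
    exact Subtype.ext ((huniq _ ⟨x.2, h⟩).trans (huniq _ ⟨y.2, rfl⟩).symm)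
  have hsurjE : ∀ c : Ω, ∃ x : E, (x : G) • a = c := fun c => by
    obtain ⟨x, hx, -⟩ := D.trans_regular a c
    exact ⟨⟨x, hx.1⟩, hx.2⟩
  letI : Module (ZMod 2) (Additive E) := AddCommGroup.zmodModule fun x => by
    rw [two_nsmul]; exact hsq (Additive.toMul x)
  -- conjugation as linear maps
  let C : G → Module.End (ZMod 2) (Additive E) := fun g =>
    AddMonoidHom.toZModLinearMap 2 (MonoidHom.toAdditive ((MulAut.conjNormal g : MulAut E).toMonoidHom))
  have hC : ∀ g (x : E), ((Additive.toMul (C g (Additive.ofMul x)) : E) : G) = g * x * g⁻¹ := fun g x =>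
    MulAut.conjNormal_apply g x
  have hu : C w * C w = (1 : ZMod 2) • (1 : Module.End (ZMod 2) (Additive E)) + (1 : ZMod 2) • C w := by
    rw [one_smul, one_smul]
    refine LinearMap.ext fun v => ?_
    obtain ⟨x, rfl⟩ := Additive.ofMul.surjective v
    set x1 := Additive.toMul (C w (Additive.ofMul x)) with hx1
    set x2 := Additive.toMul (C w (Additive.ofMul x1)) with hx2
    have e1 : (x1 : G) = w * x * w⁻¹ := hC w x
    have e2 : (x2 : G) = w * x1 * w⁻¹ := hC w x1
    show Additive.ofMul x2 = Additive.ofMul (x * x1)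
    refine congrArg Additive.ofMul ?_
    have hp : ((x * x1 * x2 : E) : G) • a = a := by
      refine hwfix _ ?_
      have hc : w * ((x * x1 * x2 : E) : G) * w⁻¹ = ((x * x1 * x2 : E) : G) := by
        have hr : ((x * x1 * x2 : E) : G) = ((x1 * x2 * x : E) : G) := by
          rw [mul_comm x x1, mul_assoc, mul_comm x x2, ← mul_assoc]
        conv_rhs => rw [hr]
        simp only [Subgroup.coe_mul, e2, e1]
        calc w * ((x : G) * (w * x * w⁻¹) * (w * (w * x * w⁻¹) * w⁻¹)) * w⁻¹
            = (w * x * w⁻¹) * (w * (w * x * w⁻¹) * w⁻¹) * ((w * w * w) * x * (w * w * w)⁻¹) := by group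
          _ = _ := by rw [hw3]; group
      calc w • ((x * x1 * x2 : E) : G) • a = (w * ((x * x1 * x2 : E) : G) * w⁻¹) • w • a := by
            rw [← mul_smul, ← mul_smul, inv_mul_cancel_right]
        _ = _ := by rw [hc, hwa]
    have h1 : x * x1 * x2 = 1 := hinjE _ 1 (by rw [hp, Subgroup.coe_one, one_smul])
    rw [eq_inv_of_mul_eq_one_right h1, inv_eq_of_mul_eq_one_left (hsq _)]
  let φ : F4 →ₐ[ZMod 2] Module.End (ZMod 2) (Additive E) := QuadraticAlgebra.lift ⟨C w, hu⟩
  letI : Module F4 (Additive E) := Module.compHom (Additive E) φ.toRingHom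
  have hsmul : ∀ (r : F4) (v : Additive E), r • v = r.re • v + r.im • C w v := fun r v => rfl
  have hcard : Nat.card (Additive E) = 16 := by
    rw [← D.deg]
    exact Nat.card_congr (Additive.toMul.trans (Equiv.ofBijective (fun x : E => (x : G) • a)
      ⟨fun x y h => hinjE x y h, hsurjE⟩))
  haveI : Module.Finite F4 (Additive E) := Module.Finite.of_finite
  have hrank : Module.finrank F4 (Additive E) = 2 := by
    have h := Module.natCard_eq_pow_finrank (K := F4) (V := Additive E)
    rw [hcard, card_f4] at h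
    exact Nat.pow_right_injective (show 2 ≤ 4 by norm_num) (show 4 ^ _ = 4 ^ 2 from h.symm)
  let e : Additive E ≃ₗ[F4] (Fin 2 → F4) := (Module.finBasisOfFinrankEq F4 (Additive E) hrank).equivFun
  -- conjugations commute with that of `w`
  have hcomm : ∀ g (v : Additive E), C g (C w v) = C w (C g v) := by
    intro g v
    obtain ⟨x, rfl⟩ := Additive.ofMul.surjective v
    obtain ⟨τ, hτ⟩ := hsurjE (g • a)
    have hh : ((τ : G)⁻¹ * g) * w = w * ((τ : G)⁻¹ * g) :=
      hwc _ (by rw [mul_smul, ← hτ, inv_smul_smul])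
    have hτc : ∀ y : E, (τ : G) * y * (τ : G)⁻¹ = y := fun y => by
      rw [show (τ : G) * y = y * τ from congrArg Subtype.val (mul_comm τ y), mul_inv_cancel_right]
    refine Additive.toMul.injective (Subtype.ext ?_)
    have key : ∀ y : E, g * (y : G) * g⁻¹ = ((τ : G)⁻¹ * g) * y * ((τ : G)⁻¹ * g)⁻¹ := fun y => by
      have h := hτc (Additive.toMul (C ((τ : G)⁻¹ * g) (Additive.ofMul y)))
      rw [hC] at h
      rw [← h]
      group
    have l := key (Additive.toMul (C w (Additive.ofMul x)))
    rw [hC] at l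
    show ((Additive.toMul (C g (Additive.ofMul (Additive.toMul (C w (Additive.ofMul x))))) : E) : G) =
      ((Additive.toMul (C w (Additive.ofMul (Additive.toMul (C g (Additive.ofMul x))))) : E) : G)
    rw [hC, hC, hC, hC, l, key x]
    calc ((τ : G)⁻¹ * g) * (w * x * w⁻¹) * ((τ : G)⁻¹ * g)⁻¹
        = (((τ : G)⁻¹ * g) * w) * x * (((τ : G)⁻¹ * g) * w)⁻¹ := by group
      _ = (w * ((τ : G)⁻¹ * g)) * x * (w * ((τ : G)⁻¹ * g))⁻¹ := by rw [hh]
      _ = _ := by group
  let L : G → (Additive E ≃ₗ[F4] Additive E) := fun g =>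
    { MulEquiv.toAdditive (MulAut.conjNormal g : MulAut E) with
      map_smul' := fun r v => by
        show C g (r • v) = r • C g v
        rw [hsmul, hsmul, map_add, map_smul, map_smul, hcomm] }
  have hL : ∀ g v, L g v = C g v := fun _ _ => rfl
  choose τ hτ using hsurjE
  let Ψ : G → ((Fin 2 → F4) ≃ᵃ[F4] (Fin 2 → F4)) := fun g =>
    (e.symm.trans ((L g).trans e)).toAffineEquiv.trans
      (AffineEquiv.constVAdd F4 (Fin 2 → F4) (e (Additive.ofMul (τ (g • a)))))
  let pt : (Fin 2 → F4) → Ω := fun x => ((Additive.toMul (e.symm x) : E) : G) • a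
  have hpt : Function.Injective pt := fun x y h =>
    e.symm.injective (Additive.toMul.injective (hinjE _ _ h))
  have hkey : ∀ g x, pt (Ψ g x) = g • pt x := by
    intro g x
    show ((Additive.toMul (e.symm (e (Additive.ofMul (τ (g • a))) + e (L g (e.symm x)))) : E) : G) • a = _
    rw [← map_add e, e.symm_apply_apply, add_comm, hL]
    obtain ⟨y, hy⟩ := Additive.ofMul.surjective (e.symm x)
    rw [← hy]
    show ((((Additive.toMul (C g (Additive.ofMul y))) : E) : G) * (τ (g • a) : G)) • a =
      g • ((Additive.toMul (e.symm x) : E) : G) • a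
    rw [hC, mul_smul, hτ, ← hy]
    show (g * (y : G) * g⁻¹) • g • a = g • (y : G) • a
    rw [mul_smul, mul_smul, inv_smul_smul]
  let Φ : G →* ((Fin 2 → F4) ≃ᵃ[F4] (Fin 2 → F4)) :=
    { toFun := Ψ
      map_one' := by
        ext x : 1
        refine hpt ?_
        rw [hkey, one_smul]
        rfl
      map_mul' := fun g h => by
        ext x : 1
        refine hpt ?_
        show pt (Ψ (g * h) x) = pt (Ψ g (Ψ h x))
        rw [hkey, hkey, hkey, mul_smul] }
  have hΦ : Function.Injective Φ := by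
    refine (injective_iff_map_eq_one Φ).mpr fun g hg => eq_of_smul_eq_smul (α := Ω) fun c => ?_
    have hpc : pt (e (Additive.ofMul (τ c))) = c := by
      show ((Additive.toMul (e.symm (e (Additive.ofMul (τ c)))) : E) : G) • a = c
      rw [e.symm_apply_apply]
      exact hτ c
    have hgc : Ψ g (e (Additive.ofMul (τ c))) = e (Additive.ofMul (τ c)) := DFunLike.congr_fun hg _
    rw [one_smul]
    conv_lhs => rw [← hpc, ← hkey, hgc, hpc]
  obtain ⟨hfin, hle⟩ := card_affine_le
  haveI := hfin
  have hG : Nat.card G = 2880 := by rw [D.hyp.card_group, D.deg]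
  have hbij : Function.Bijective Φ := (Nat.bijective_iff_injective_and_card Φ).mpr
    ⟨hΦ, le_antisymm (Nat.card_le_card_of_injective Φ hΦ) (hG ▸ hle)⟩
  exact ⟨F4, inferInstance, inferInstance, by rw [← Nat.card_eq_fintype_card, card_f4],
    ⟨MulEquiv.ofBijective Φ hbij⟩⟩

end CfsgLib.StabAlt4
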