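import Mathlib

/-!
A subgroup isomorphic to the alternating group of degree four: involutions and their four groups.
-/

set_option autoImplicit false
set_option linter.unusedSectionVars false
set_option maxRecDepth 10000

namespace CfsgLib.StabAlt4

universe u

local notation "A4" => alternatingGroup (Fin 4)

theorem a4_conj : ∀ x y : A4, x * x = 1 → x ≠ 1 → y * y = 1 → y ≠ 1 → ∃ g : A4, g * x * g⁻¹ = y := by
  decide +kernel

theorem a4_count : (Finset.univ.filter fun x : A4 => x * x = 1 ∧ x ≠ 1).card = 3 := by decide +kernel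

theorem a4_cent_count : ∀ x : A4, x * x = 1 → x ≠ 1 →
    (Finset.univ.filter fun y => y * x = x * y).card = 4 := by decide +kernel

theorem a4_norm_count : ∀ x : A4, x * x = 1 → x ≠ 1 →
    (Finset.univ.filter fun g => g * x * g⁻¹ * x = x * (g * x * g⁻¹)).card = 12 := by decide +kernel

theorem a4_cent_sq : ∀ x : A4, x * x = 1 → x ≠ 1 → ∀ y : A4, y * x = x * y → y * y = 1 := by decide +kernel

theorem a4_cent_eq : ∀ x y : A4, x * x = 1 → x ≠ 1 → y * y = 1 → y ≠ 1 → y * x = x * y →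
    ∀ z : A4, z * x = x * z → z * y = y * z := by decide +kernel

theorem a4_card : Nat.card A4 = 12 := by
  rw [Nat.card_eq_fintype_card]
  decide +kernel

variable {G : Type u} [Group G] {A : Subgroup G}

/-- Transfer of a count to a subgroup. -/
theorem ncard_transfer [Finite G] (e : ↥A ≃* A4) (P : A4 → Prop) [DecidablePred P] (Q : G → Prop)
    (h : ∀ x : A, Q x ↔ P (e x)) : {x : G | x ∈ A ∧ Q x}.ncard = (Finset.univ.filter P).card := by
  rw [← Set.ncard_coe_finset]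
  refine Set.ncard_congr (fun x hx => e ⟨x, hx.1⟩) (fun x hx => ?_) (fun x y hx hy he => ?_) fun y hy => ?_
  · simpa using (h ⟨x, hx.1⟩).mp hx.2
  · exact congrArg Subtype.val (e.injective he)
  · exact ⟨(e.symm y : A), ⟨(e.symm y).2, (h _).mpr (by simpa using hy)⟩, by simp⟩

theorem sq_map (e : ↥A ≃* A4) {x : G} (hx : x ∈ A) (h : x * x = 1) (h1 : x ≠ 1) :
    e ⟨x, hx⟩ * e ⟨x, hx⟩ = 1 ∧ e ⟨x, hx⟩ ≠ 1 := by
  constructor
  · rw [← map_mul, ← map_one e]
    exact congrArg e (Subtype.ext h)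
  · exact fun he => h1 (congrArg Subtype.val (e.map_eq_one_iff.mp he))

theorem comm_map (e : ↥A ≃* A4) {x y : G} (hx : x ∈ A) (hy : y ∈ A) :
    (e ⟨y, hy⟩ * e ⟨x, hx⟩ = e ⟨x, hx⟩ * e ⟨y, hy⟩) ↔ y * x = x * y := by
  rw [← map_mul, ← map_mul, e.injective.eq_iff, Subtype.ext_iff]
  rfl

variable (e : ↥A ≃* A4)
include e

theorem card_A : Nat.card A = 12 := (Nat.card_congr e.toEquiv).trans a4_card

theorem conj_A {x y : G} (hx : x ∈ A) (hy : y ∈ A) (x2 : x * x = 1) (x1 : x ≠ 1) (y2 : y * y = 1) (y1 : y ≠ 1) :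
    ∃ g ∈ A, g * x * g⁻¹ = y := by
  obtain ⟨g, hg⟩ := a4_conj _ _ (sq_map e hx x2 x1).1 (sq_map e hx x2 x1).2 (sq_map e hy y2 y1).1
    (sq_map e hy y2 y1).2
  refine ⟨(e.symm g : A), (e.symm g).2, ?_⟩
  have := congrArg e.symm hg
  simp only [map_mul, map_inv, MulEquiv.symm_apply_apply] at this
  exact congrArg Subtype.val this

theorem ncard_inv [Finite G] : {x : G | x ∈ A ∧ (x * x = 1 ∧ x ≠ 1)}.ncard = 3 := by
  rw [← a4_count]
  refine ncard_transfer e _ _ fun x => ?_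
  refine and_congr ?_ (not_congr ?_)
  · rw [← map_mul, e.map_eq_one_iff]
    exact ⟨fun h => Subtype.ext h, fun h => congrArg Subtype.val h⟩
  · rw [e.map_eq_one_iff]
    exact ⟨fun h => Subtype.ext h, fun h => congrArg Subtype.val h⟩

theorem card_centA [Finite G] {x : G} (hx : x ∈ A) (x2 : x * x = 1) (x1 : x ≠ 1) :
    Nat.card ↥(A ⊓ Subgroup.centralizer ({x} : Set G)) = 4 := by
  rw [← a4_cent_count _ (sq_map e hx x2 x1).1 (sq_map e hx x2 x1).2,
    ← ncard_transfer e _ (fun y : G => y * x = x * y) fun y => (comm_map e hx y.2).symm,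
    ← Nat.card_coe_set_eq]
  exact Nat.card_congr (Equiv.subtypeEquivRight fun y => by
    simp [Subgroup.mem_centralizer_singleton_iff])

theorem cent_sq {x y : G} (hx : x ∈ A) (hy : y ∈ A) (x2 : x * x = 1) (x1 : x ≠ 1) (hc : y * x = x * y) :
    y * y = 1 := by
  have := a4_cent_sq _ (sq_map e hx x2 x1).1 (sq_map e hx x2 x1).2 _ ((comm_map e hx hy).mpr hc)
  rw [← map_mul, e.map_eq_one_iff] at this
  exact congrArg Subtype.val this

theorem cent_eq {x y z : G} (hx : x ∈ A) (hy : y ∈ A) (hz : z ∈ A) (x2 : x * x = 1) (x1 : x ≠ 1) (y1 : y ≠ 1)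
    (hyx : y * x = x * y) (hzx : z * x = x * z) : z * y = y * z :=
  (comm_map e hy hz).mp (a4_cent_eq _ _ (sq_map e hx x2 x1).1 (sq_map e hx x2 x1).2
    (sq_map e hy (cent_sq e hx hy x2 x1 hyx) y1).1 (sq_map e hy (cent_sq e hx hy x2 x1 hyx) y1).2
    ((comm_map e hx hy).mpr hyx) _ ((comm_map e hx hz).mpr hzx))

theorem ncard_norm [Finite G] {x : G} (hx : x ∈ A) (x2 : x * x = 1) (x1 : x ≠ 1) :
    {g : G | g ∈ A ∧ g * x * g⁻¹ * x = x * (g * x * g⁻¹)}.ncard = 12 := by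
  rw [← a4_norm_count _ (sq_map e hx x2 x1).1 (sq_map e hx x2 x1).2]
  refine ncard_transfer e _ _ fun g => ?_
  have h := comm_map e hx (mul_mem (mul_mem g.2 hx) (inv_mem g.2))
  rw [← h, show (⟨(g : G) * x * (g : G)⁻¹, _⟩ : A) = g * ⟨x, hx⟩ * g⁻¹ from rfl, map_mul, map_mul, map_inv]

end CfsgLib.StabAlt4
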