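import Cfsg.Agent.Lib.StabAlt5.EqualTools

/-!
Groups with a Sylow four group moved by its normaliser: orders in the absence of a perfect subgroup through it.
-/

set_option autoImplicit false
set_option linter.unusedSectionVars false
set_option linter.style.haveILetI false

namespace CfsgLib.StabAlt4

open CfsgLib.StabAlt5
open scoped commutatorElement

universe u

variable {M : Type u} [Group M] [Finite M] {V : Subgroup M} {t g₀ : M}

theorem norm_index_three (hV : Nat.card V = 4) (hsq : ∀ v ∈ V, v * v = 1) (h8 : ¬ 8 ∣ Nat.card M) (ht : t ∈ V)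
    (t1 : t ≠ 1) (hg₀ : g₀ ∈ Subgroup.normalizer (V : Set M)) (hmove : g₀ * t ≠ t * g₀) :
    Nat.card ↥(Subgroup.normalizer (V : Set M)) = 3 * Nat.card ↥(Subgroup.centralizer (V : Set M)) ∧
      ∀ g ∈ Subgroup.normalizer (V : Set M), g * t = t * g → g ∈ Subgroup.centralizer (V : Set M) := by
  classical
  have key : ∀ g ∈ Subgroup.normalizer (V : Set M), g * t = t * g → g ∈ Subgroup.centralizer (V : Set M) := by
    intro g hg hgt
    refine Subgroup.mem_centralizer_iff.mpr fun v hv => ?_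
    by_contra hne
    exact (four_cycle hV hsq h8 hg ⟨v, hv, fun e => hne e.symm⟩ ht t1).1 hgt
  refine ⟨?_, key⟩
  obtain ⟨-, hcyc⟩ := four_cycle hV hsq h8 hg₀ ⟨t, ht, hmove⟩ ht t1
  set N := Subgroup.normalizer (V : Set M) with hN
  set C := Subgroup.centralizer (V : Set M) with hC
  have hconj : ∀ v ∈ V, g₀ * v * g₀⁻¹ ∈ V := fun v hv => (Subgroup.mem_normalizer_iff.mp hg₀ v).mp hv
  have h2 : g₀ * g₀ * t * (g₀ * g₀)⁻¹ ≠ t := by
    intro e
    have hgg : g₀ * g₀ ∈ C := key _ (mul_mem hg₀ hg₀) (mul_inv_eq_iff_eq_mul.mp e)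
    -- then the orbit would have two elements only
    obtain ⟨w, hw, w1, wt, wg⟩ : ∃ w ∈ V, w ≠ 1 ∧ w ≠ t ∧ w ≠ g₀ * t * g₀⁻¹ := by
      by_contra hno
      push Not at hno
      have hsub : (V : Set M) ⊆ {1, t, g₀ * t * g₀⁻¹} := fun w hw => by
        by_cases w1 : w = 1
        · exact Or.inl w1
        by_cases wt : w = t
        · exact Or.inr (Or.inl wt)
        · exact Or.inr (Or.inr (hno w hw w1 wt))
      have h4 : (V : Set M).ncard = 4 := (Nat.card_coe_set_eq _).symm.trans hV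
      have h3 := Set.ncard_le_ncard hsub (Set.toFinite _)
      have := (Set.ncard_insert_le (1 : M) {t, g₀ * t * g₀⁻¹}).trans
        (Nat.add_le_add_right ((Set.ncard_insert_le _ _).trans (by rw [Set.ncard_singleton])) 1)
      omega
    rcases hcyc w hw w1 with e' | e' | e'
    · exact wt e'
    · exact wg e'.symm
    · exact wt (e'.symm.trans e)
  have hinjt : ∀ i j : Fin 3, g₀ ^ (i : ℕ) * t * (g₀ ^ (i : ℕ))⁻¹ = g₀ ^ (j : ℕ) * t * (g₀ ^ (j : ℕ))⁻¹ → i = j := by
    have h1 : g₀ * t * g₀⁻¹ ≠ t := fun e => hmove (mul_inv_eq_iff_eq_mul.mp e)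
    have h12 : g₀ * t * g₀⁻¹ ≠ g₀ * g₀ * t * (g₀ * g₀)⁻¹ := fun e => h1 (by
      rw [show g₀ * g₀ * t * (g₀ * g₀)⁻¹ = g₀ * (g₀ * t * g₀⁻¹) * g₀⁻¹ by group] at e
      exact (mul_left_cancel (mul_right_cancel e)).symm)
    intro i j e
    fin_cases i <;> fin_cases j <;> first | rfl | (exfalso; simp [pow_two] at e)
    all_goals first
      | exact h1 (by simpa [mul_assoc] using e.symm)
      | exact h1 (by simpa [mul_assoc] using e)
      | exact h2 (by simpa [mul_assoc] using e.symm)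
      | exact h2 (by simpa [mul_assoc] using e)
      | exact h12 (by simpa [mul_assoc] using e.symm)
      | exact h12 (by simpa [mul_assoc] using e)
  have hCN : C ≤ N := Subgroup.centralizer_le_normalizer _
  have hpc : ∀ (i : ℕ) (c : C), g₀ ^ i * (c : M) * t * (g₀ ^ i * (c : M))⁻¹ = g₀ ^ i * t * (g₀ ^ i)⁻¹ := by
    intro i c
    rw [mul_assoc (g₀ ^ i) (c : M) t, ← Subgroup.mem_centralizer_iff.mp c.2 t ht, mul_inv_rev]
    group
  rw [← Nat.card_fin 3, ← Nat.card_prod]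
  symm
  refine Nat.card_eq_of_bijective (fun q : Fin 3 × ↥C =>
    (⟨g₀ ^ (q.1 : ℕ) * q.2, mul_mem (pow_mem hg₀ _) (hCN q.2.2)⟩ : N)) ⟨?_, ?_⟩
  · intro q q' e
    have e' : g₀ ^ (q.1 : ℕ) * (q.2 : M) = g₀ ^ (q'.1 : ℕ) * q'.2 := congrArg Subtype.val e
    have hij : q.1 = q'.1 := hinjt _ _ (by rw [← hpc (q.1 : ℕ) q.2, e', hpc])
    refine Prod.ext hij (Subtype.ext ?_)
    rw [hij] at e'
    exact mul_left_cancel e'
  · intro g
    have hgt : (g : M) * t * (g : M)⁻¹ ∈ V := (Subgroup.mem_normalizer_iff.mp g.2 t).mp ht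
    obtain ⟨i, hi⟩ : ∃ i : Fin 3, g₀ ^ (i : ℕ) * t * (g₀ ^ (i : ℕ))⁻¹ = (g : M) * t * (g : M)⁻¹ := by
      rcases hcyc _ hgt (fun e => t1 (conj_eq_one_iff.mp e)) with e | e | e
      · exact ⟨0, by simpa using e.symm⟩
      · exact ⟨1, by simpa using e⟩
      · exact ⟨2, by simpa [pow_two] using e⟩
    refine ⟨(i, ⟨(g₀ ^ (i : ℕ))⁻¹ * g, key _ (mul_mem (inv_mem (pow_mem hg₀ _)) g.2) ?_⟩), Subtype.ext (by simp)⟩
    calc (g₀ ^ (i : ℕ))⁻¹ * g * t = (g₀ ^ (i : ℕ))⁻¹ * ((g : M) * t * (g : M)⁻¹) * g := by group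
      _ = (g₀ ^ (i : ℕ))⁻¹ * (g₀ ^ (i : ℕ) * t * (g₀ ^ (i : ℕ))⁻¹) * g := by rw [hi]
      _ = t * ((g₀ ^ (i : ℕ))⁻¹ * g) := by group

/-- The order when no perfect subgroup contains the four group. -/
theorem solvable_numerics (hV : Nat.card V = 4) (hsq : ∀ v ∈ V, v * v = 1) (h8 : ¬ 8 ∣ Nat.card M) (ht : t ∈ V)
    (t1 : t ≠ 1) (hg₀ : g₀ ∈ Subgroup.normalizer (V : Set M)) (hmove : g₀ * t ≠ t * g₀)
    (hsolv : ¬ ∃ R : Subgroup M, Group.IsPerfect R ∧ V ≤ R) :
    Nat.card M * Nat.card ↥(Subgroup.normalizer (V : Set M)) ^ 2 =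
      27 * Nat.card ↥(Subgroup.centralizer ({t} : Set M)) ^ 3 := by
  classical
  haveI : Fact (Nat.Prime 2) := ⟨Nat.prime_two⟩
  obtain ⟨hN3, hkey⟩ := norm_index_three hV hsq h8 ht t1 hg₀ hmove
  obtain ⟨-, hcyc⟩ := four_cycle hV hsq h8 hg₀ ⟨t, ht, hmove⟩ ht t1
  -- a normal subgroup meets the four group trivially or contains it
  have hdich : ∀ K : Subgroup M, K.Normal → (∀ u ∈ V, u ∈ K → u = 1) ∨ V ≤ K := by
    intro K hK
    by_cases h : ∀ u ∈ V, u ∈ K → u = 1
    · exact Or.inl h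
    push Not at h
    obtain ⟨u, hu, huK, u1⟩ := h
    right
    have htK : t ∈ K := by
      rcases hcyc u hu u1 with rfl | e | e
      · exact huK
      · have := hK.conj_mem u huK g₀⁻¹
        rwa [← e, show g₀⁻¹ * (g₀ * t * g₀⁻¹) * g₀⁻¹⁻¹ = t by group] at this
      · have := hK.conj_mem u huK (g₀ * g₀)⁻¹
        rwa [← e, show (g₀ * g₀)⁻¹ * (g₀ * g₀ * t * (g₀ * g₀)⁻¹) * (g₀ * g₀)⁻¹⁻¹ = t by group] at this
    intro v hv
    by_cases v1 : v = 1
    · rw [v1]; exact one_mem _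
    rcases hcyc v hv v1 with rfl | e | e
    · exact htK
    · exact e ▸ hK.conj_mem t htK g₀
    · exact e ▸ hK.conj_mem t htK (g₀ * g₀)
  obtain ⟨n, hn⟩ := CfsgLib.GW.exists_perfect_derived M
  have hex : ∃ i, ∀ u ∈ V, u ∈ derivedSeries M i → u = 1 :=
    ⟨n, (hdich _ (derivedSeries_normal M n)).resolve_right fun h => hsolv ⟨_, hn, h⟩⟩
  obtain ⟨i, hi, hmin⟩ : ∃ i, (∀ u ∈ V, u ∈ derivedSeries M i → u = 1) ∧
      ∀ i' < i, ¬ ∀ u ∈ V, u ∈ derivedSeries M i' → u = 1 :=
    ⟨Nat.find hex, Nat.find_spec hex, fun i' h => Nat.find_min hex h⟩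
  obtain ⟨i, rfl⟩ : ∃ i', i = i' + 1 := by
    refine ⟨i - 1, ?_⟩
    rcases Nat.eq_zero_or_pos i with rfl | h
    · exact absurd (hi t ht (by rw [derivedSeries_zero]; trivial)) t1
    · omega
  set X := derivedSeries M (i + 1) with hX
  set D := derivedSeries M i with hD
  haveI hXn : X.Normal := derivedSeries_normal _ _
  haveI hDn : D.Normal := derivedSeries_normal _ _
  have hVD : V ≤ D := (hdich D hDn).resolve_left (hmin i (Nat.lt_succ_self i))
  have hXodd : Odd (Nat.card X) := by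
    refine Nat.not_even_iff_odd.mp fun h => ?_
    obtain ⟨s, hs⟩ := exists_prime_orderOf_dvd_card' 2 (even_iff_two_dvd.mp h)
    have hs' : orderOf (s : M) = 2 := by rwa [Subgroup.orderOf_coe]
    obtain ⟨g, hg⟩ := exists_conj_le hV h8 (S := Subgroup.zpowers (s : M))
      (IsPGroup.of_card (n := 1) (by rw [Nat.card_zpowers, hs', pow_one]))
    have := hi _ (hg _ (Subgroup.mem_zpowers _)) (hXn.conj_mem _ s.2 g)
    rw [conj_eq_one_iff] at this
    rw [this, orderOf_one] at hs'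
    omega
  have hcommX : ∀ x ∈ D, ∀ y ∈ D, x * y * x⁻¹ * y⁻¹ ∈ X := fun x hx y hy => by
    have h : ⁅x, y⁆ ∈ X := by rw [hX, derivedSeries_succ]; exact Subgroup.commutator_mem_commutator hx hy
    rwa [commutatorElement_def] at h
  -- Frattini
  have hfrat : ∀ g : M, ∃ x ∈ X, x * g ∈ Subgroup.normalizer (V : Set M) := by
    intro g
    set VX := V ⊔ X with hVX
    have hVXmem : ∀ y ∈ VX, ∃ v ∈ V, ∃ x ∈ X, y = v * x := by
      intro y hy
      rw [hVX, ← SetLike.mem_coe, Subgroup.mul_normal V X] at hy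
      obtain ⟨v, hv, x, hx, rfl⟩ := hy
      exact ⟨v, hv, x, hx, rfl⟩
    -- conjugates of the four group lie in it
    have hle : V.map (MulAut.conj g).toMonoidHom ≤ VX := by
      have hleD : V.map (MulAut.conj g).toMonoidHom ≤ D := by
        rintro _ ⟨v, hv, rfl⟩
        exact hDn.conj_mem v (hVD hv) g
      obtain ⟨d, hd⟩ := exists_conj_le (M := ↥D) (V := V.subgroupOf D) (by
          rw [Nat.card_congr (Subgroup.subgroupOfEquivOfLe hVD).toEquiv, hV])
        (fun h => h8 (h.trans (Subgroup.card_subgroup_dvd_card D)))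
        (S := (V.map (MulAut.conj g).toMonoidHom).subgroupOf D)
        (IsPGroup.of_card (n := 2) (by rw [Nat.card_congr (Subgroup.subgroupOfEquivOfLe hleD).toEquiv,
          Subgroup.card_map_of_injective (MulAut.conj g).injective, hV]; rfl))
      intro y hy
      have hyD := hleD hy
      have h1 : (d : M) * y * (d : M)⁻¹ ∈ V := hd ⟨y, hyD⟩ hy
      have h2 := hcommX (d : M) d.2 y hyD
      rw [show y = ((d : M) * y * (d : M)⁻¹ * y⁻¹)⁻¹ * ((d : M) * y * (d : M)⁻¹) by group]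
      exact mul_mem (Subgroup.mem_sup_right (inv_mem h2)) (Subgroup.mem_sup_left h1)
    obtain ⟨k, hk⟩ := exists_conj_le (M := ↥VX) (V := V.subgroupOf VX) (by
        rw [Nat.card_congr (Subgroup.subgroupOfEquivOfLe (le_sup_left : V ≤ VX)).toEquiv, hV])
      (fun h => h8 (h.trans (Subgroup.card_subgroup_dvd_card VX)))
      (S := (V.map (MulAut.conj g).toMonoidHom).subgroupOf VX)
      (IsPGroup.of_card (n := 2) (by rw [Nat.card_congr (Subgroup.subgroupOfEquivOfLe hle).toEquiv,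
        Subgroup.card_map_of_injective (MulAut.conj g).injective, hV]; rfl))
    have hkg : (k : M) * g ∈ Subgroup.normalizer (V : Set M) := StabAlt5.mem_normalizer_of_le fun v hv => by
      have h := hk ⟨g * v * g⁻¹, hle ⟨v, hv, rfl⟩⟩ ⟨v, hv, rfl⟩
      rw [show (k : M) * g * v * ((k : M) * g)⁻¹ = (k : M) * (g * v * g⁻¹) * (k : M)⁻¹ by group]
      exact h
    obtain ⟨v, hv, x, hx, e⟩ := hVXmem _ k.2
    refine ⟨x, hx, ?_⟩
    have := mul_mem (inv_mem (Subgroup.le_normalizer hv)) hkg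
    rwa [e, ← mul_assoc, ← mul_assoc, inv_mul_cancel, one_mul] at this
  -- `X ∩ N(V) = X ∩ C(V)`
  have hXN : X ⊓ Subgroup.normalizer (V : Set M) = X ⊓ Subgroup.centralizer (V : Set M) := by
    refine le_antisymm ?_ (inf_le_inf_left _ (Subgroup.centralizer_le_normalizer _))
    rintro x ⟨hx, hxN⟩
    refine ⟨hx, Subgroup.mem_centralizer_iff.mpr fun v hv => ?_⟩
    have h1 : x * v * x⁻¹ * v⁻¹ ∈ X := by
      rw [show x * v * x⁻¹ * v⁻¹ = x * (v * x⁻¹ * v⁻¹) by group]
      exact mul_mem hx (hXn.conj_mem _ (inv_mem hx) v)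
    have h2 : x * v * x⁻¹ * v⁻¹ ∈ V := mul_mem ((Subgroup.mem_normalizer_iff.mp hxN v).mp hv) (inv_mem hv)
    have h3 := hi _ h2 h1
    exact (mul_inv_eq_iff_eq_mul.mp (mul_inv_eq_one.mp h3)).symm
  set d := Nat.card ↥(X ⊓ Subgroup.centralizer (V : Set M)) with hd
  set c := Nat.card ↥(X ⊓ Subgroup.centralizer ({t} : Set M)) with hc
  have hidx : Nat.card ↥(Subgroup.normalizer (V : Set M)) = X.index * d := by
    rw [card_supplement X (Subgroup.normalizer (V : Set M)) hfrat, hXN]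
  have hM : Nat.card M = Nat.card X * X.index := (Subgroup.card_mul_index X).symm
  -- the centraliser of the involution
  have hCt : Nat.card ↥(Subgroup.centralizer ({t} : Set M)) * d =
      c * Nat.card ↥(Subgroup.centralizer (V : Set M)) := by
    set C := Subgroup.centralizer ({t} : Set M) with hC
    let XC := X.subgroupOf C
    have hCVC : Subgroup.centralizer (V : Set M) ≤ C :=
      Subgroup.centralizer_le (Set.singleton_subset_iff.mpr ht)
    have hfr : ∀ g : ↥C, ∃ l ∈ XC, l * g ∈ (Subgroup.centralizer (V : Set M)).subgroupOf C := by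
      intro g
      obtain ⟨x, hx, hxg⟩ := hfrat (g : M)
      have hgt : (g : M) * t = t * g := Subgroup.mem_centralizer_singleton_iff.mp g.2
      have h1 : x * g * t * (x * g)⁻¹ * t⁻¹ ∈ X := by
        rw [mul_assoc x, hgt, show x * (t * g) * (x * g)⁻¹ * t⁻¹ = x * (t * x⁻¹ * t⁻¹) by group]
        exact mul_mem hx (hXn.conj_mem _ (inv_mem hx) t)
      have h2 : x * g * t * (x * g)⁻¹ * t⁻¹ ∈ V :=
        mul_mem ((Subgroup.mem_normalizer_iff.mp hxg t).mp ht) (inv_mem ht)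
      have hcV : x * g ∈ Subgroup.centralizer (V : Set M) :=
        hkey _ hxg (mul_inv_eq_iff_eq_mul.mp (mul_inv_eq_one.mp (hi _ h2 h1)))
      have hxC : x ∈ C := by
        have := mul_mem (hCVC hcV) (inv_mem g.2)
        rwa [mul_inv_cancel_right] at this
      exact ⟨⟨x, hxC⟩, hx, hcV⟩
    have h := card_supplement XC ((Subgroup.centralizer (V : Set M)).subgroupOf C) hfr
    rw [Nat.card_congr (Subgroup.subgroupOfEquivOfLe hCVC).toEquiv] at h
    have e1 : Nat.card ↥(XC ⊓ (Subgroup.centralizer (V : Set M)).subgroupOf C) = d :=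
      Nat.card_congr
        { toFun := fun g => ⟨(g.1 : M), g.2.1, g.2.2⟩
          invFun := fun g => ⟨⟨g.1, hCVC g.2.2⟩, g.2.1, g.2.2⟩
          left_inv := fun _ => rfl
          right_inv := fun _ => rfl }
    have e2 : Nat.card XC = c :=
      Nat.card_congr
        { toFun := fun g => ⟨(g.1 : M), g.2, g.1.2⟩
          invFun := fun g => ⟨⟨g.1, g.2.2⟩, g.2.1⟩
          left_inv := fun _ => rfl
          right_inv := fun _ => rfl }
    rw [h, e1, ← Subgroup.card_mul_index XC, e2]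
    ring
  -- the order formula on `X`
  obtain ⟨v, hv, v1, vt⟩ : ∃ v ∈ V, v ≠ 1 ∧ v ≠ t :=
    ⟨g₀ * t * g₀⁻¹, (Subgroup.mem_normalizer_iff.mp hg₀ t).mp ht, fun e => t1 (conj_eq_one_iff.mp e),
      fun e => hmove (mul_inv_eq_iff_eq_mul.mp e)⟩
  have htv : t * v ∈ V := mul_mem ht hv
  have htv1 : t * v ≠ 1 := fun e => vt (by
    rw [eq_inv_of_mul_eq_one_right e, inv_eq_of_mul_eq_one_left (hsq t ht)])
  have hlist : ∀ a, a ∈ V ↔ a = 1 ∨ a = t ∨ a = v ∨ a = t * v := by
    have hsub : ({1, t, v, t * v} : Set M) ⊆ (V : Set M) := by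
      rintro y (rfl | rfl | rfl | rfl)
      exacts [one_mem _, ht, hv, htv]
    have d2 : t * v ≠ t := fun e => v1 (mul_eq_left.mp e)
    have d3 : t * v ≠ v := fun e => t1 (mul_eq_right.mp e)
    have h4 : ({1, t, v, t * v} : Set M).ncard = 4 := by
      rw [Set.ncard_insert_of_notMem (by simp [t1.symm, v1.symm, htv1.symm]),
        Set.ncard_insert_of_notMem (by simp [Ne.symm vt, d2.symm]),
        Set.ncard_insert_of_notMem (by simp [d3.symm]), Set.ncard_singleton]
    have heq := Set.eq_of_subset_of_ncard_le hsub (by rw [h4]; exact ((Nat.card_coe_set_eq _).symm.trans hV).le)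
    intro a
    rw [← SetLike.mem_coe, ← heq]
    rfl
  have hceq : ∀ w ∈ V, w ≠ 1 → Nat.card ↥(X ⊓ Subgroup.centralizer ({w} : Set M)) = c := by
    intro w hw w1
    obtain ⟨h, hh⟩ : ∃ h : M, h * t * h⁻¹ = w := by
      rcases hcyc w hw w1 with rfl | e | e
      · exact ⟨1, by simp⟩
      · exact ⟨g₀, e⟩
      · exact ⟨g₀ * g₀, e⟩
    symm
    refine Nat.card_congr ((MulAut.conj h).toEquiv.subtypeEquiv fun x => ?_)
    show x ∈ X ⊓ _ ↔ h * x * h⁻¹ ∈ X ⊓ _
    rw [Subgroup.mem_inf, Subgroup.mem_inf, Subgroup.mem_centralizer_singleton_iff,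
      Subgroup.mem_centralizer_singleton_iff, ← hh, conj_mul, conj_mul]
    exact and_congr ⟨fun hx => hXn.conj_mem x hx h, fun hx => by
        simpa [mul_assoc] using hXn.conj_mem _ hx h⁻¹⟩
      ⟨fun e => by rw [e], fun e => mul_left_cancel (mul_right_cancel e)⟩
  have hform := four_formula hXodd (hsq t ht) (hsq v hv) (four_comm' hsq ht hv) t1 v1 (Ne.symm vt)
    (fun x hx => hXn.conj_mem x hx t) (fun x hx => hXn.conj_mem x hx v) hlist
  rw [hceq v hv v1, hceq _ htv htv1, ← hc, ← hd] at hform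
  have hd0 : 0 < d := Nat.card_pos
  refine Nat.eq_of_mul_eq_mul_right (pow_pos hd0 3) ?_
  rw [hM, hidx]
  have e3 : 3 * (Nat.card ↥(Subgroup.centralizer ({t} : Set M)) * d) = c * (X.index * d) := by
    rw [hCt, ← hidx, hN3]; ring
  calc Nat.card X * X.index * (X.index * d) ^ 2 * d ^ 3 =
      (Nat.card X * d ^ 2) * (X.index * d) ^ 3 := by ring
    _ = (c * c * c) * (X.index * d) ^ 3 := by rw [hform]
    _ = (c * (X.index * d)) ^ 3 := by ring
    _ = (3 * (Nat.card ↥(Subgroup.centralizer ({t} : Set M)) * d)) ^ 3 := by rw [e3]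
    _ = _ := by ring

end CfsgLib.StabAlt4
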