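import Cfsg.Agent.Lib.StabAlt4.Cases
import Cfsg.Agent.Lib.StabAlt4.Bridge
import Cfsg.Agent.Lib.StabAlt4.Solv

/-!
Even degree: the possible parameters.
-/

set_option autoImplicit false
set_option linter.unusedSectionVars false
set_option linter.style.haveILetI false

namespace CfsgLib.StabAlt4

open MulAction CfsgLib.StabAlt5

universe u v

/-- The arithmetic without a perfect part. -/
theorem solvable_arith {n m k w : ℕ} (hw : w = 1 ∨ w = 3 ∨ w = 4 ∨ w = 6) (hk : 2 ≤ k) (hmn : m < n)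
    (hforms : m = k ∨ m = k * k ∨ m + k = 2 * (k * k)) (hrel : 3 * (n - m) = w * (m * (m - 1)))
    (h : (n - 1) * ((k - 1) * (k - 1)) = (m - 1) * (m - 1) * (m - 1)) :
    (w = 6 ∧ k = 2 ∧ m = 4) ∨ (w = 4 ∧ k = 6 ∧ m = 36) := by
  obtain ⟨K, rfl⟩ : ∃ K, k = K + 2 := ⟨k - 2, by omega⟩
  have hkk : K + 2 ≤ (K + 2) * (K + 2) := Nat.le_mul_of_pos_left _ (by omega)
  have hm1 : 2 ≤ m := by omega
  obtain ⟨A, rfl⟩ : ∃ A, m = A + 1 := ⟨m - 1, by omega⟩
  obtain ⟨N, rfl⟩ : ∃ N, n = N + 1 := ⟨n - 1, by omega⟩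
  simp only [Nat.add_sub_cancel, show K + 2 - 1 = K + 1 by omega] at hrel h
  have hA : 0 < A := by omega
  have h3 : (3 + w * (A + 1)) * ((K + 1) * (K + 1)) = 3 * (A * A) := by
    have e1 : 3 * N = A * (3 + w * (A + 1)) := by
      have : A * (3 + w * (A + 1)) = 3 * A + w * ((A + 1) * A) := by ring
      omega
    refine Nat.eq_of_mul_eq_mul_left hA ?_
    calc A * ((3 + w * (A + 1)) * ((K + 1) * (K + 1))) = 3 * N * ((K + 1) * (K + 1)) := by rw [e1]; ring
      _ = A * (3 * (A * A)) := by rw [mul_assoc, h]; ring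
  rcases hforms with e | e | e
  · exfalso
    have hAK : A = K + 1 := by omega
    subst hAK
    have h4 : 3 + w * (K + 1 + 1) = 3 := Nat.eq_of_mul_eq_mul_right (Nat.mul_pos hA hA) h3
    have : 0 < w * (K + 1 + 1) := Nat.mul_pos (by omega) (by omega)
    omega
  · have hAK : A = (K + 1) * (K + 3) := by
      have : (K + 2) * (K + 2) = (K + 1) * (K + 3) + 1 := by ring
      omega
    subst hAK
    have h4 : 3 + w * ((K + 1) * (K + 3) + 1) = 3 * ((K + 3) * (K + 3)) :=
      Nat.eq_of_mul_eq_mul_right (Nat.mul_pos (show 0 < K + 1 by omega) (show 0 < K + 1 by omega))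
        (by rw [h3]; ring)
    rcases hw with rfl | rfl | rfl | rfl
    · exfalso; nlinarith only [h4]
    · exfalso; nlinarith only [h4]
    · right
      have : K = 4 := by nlinarith only [h4]
      subst this; exact ⟨rfl, rfl, rfl⟩
    · left
      have : K = 0 := by nlinarith only [h4]
      subst this; exact ⟨rfl, rfl, rfl⟩
  · exfalso
    have hAK : A = (K + 1) * (2 * K + 5) := by
      have : 2 * ((K + 2) * (K + 2)) = (K + 1) * (2 * K + 5) + 1 + (K + 2) := by ring
      omega
    subst hAK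
    have h4 : 3 + w * ((K + 1) * (2 * K + 5) + 1) = 3 * ((2 * K + 5) * (2 * K + 5)) :=
      Nat.eq_of_mul_eq_mul_right (Nat.mul_pos (show 0 < K + 1 by omega) (show 0 < K + 1 by omega))
        (by rw [h3]; ring)
    rcases hw with rfl | rfl | rfl | rfl <;> nlinarith only [h4]

/-- The arithmetic with a perfect part. -/
theorem perfect_arith {m k w q y r F : ℕ} (hw : w = 1 ∨ w = 3 ∨ w = 4 ∨ w = 6) (hq3 : 3 < q)
    (hqy : q = 4 * y + 1 ∨ q + 1 = 4 * y) (hy : Odd y) (hr : 0 < r) (hF : 0 < F)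
    (hm : m = r * F * y + 1) (hk : k = F + 1) (hforms : m = k ∨ m = k * k ∨ m + k = 2 * (k * k))
    (heq : r * r * (q * (q ^ 2 - 1)) = 8 * y * (w * m + 3)) : m = k ∧ q = 5 ∧ r = 1 ∧ w * m = 12 := by
  have hy0 : 0 < y := hy.pos
  have hw6 : w ≤ 6 := by omega
  rcases hforms with e | e | e
  · have hry : r * y = 1 := Nat.eq_of_mul_eq_mul_left hF (by rw [mul_one]; nlinarith)
    obtain ⟨rfl, rfl⟩ := mul_eq_one.mp hry
    have hq : q = 5 := by omega
    subst hq
    norm_num at heq
    exact ⟨e, rfl, rfl, by omega⟩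
  all_goals exfalso
  all_goals subst hk
  · have hry : r * y = F + 2 := Nat.eq_of_mul_eq_mul_left hF (by nlinarith)
    have hm2 : m = (F + 1) * (F + 1) := e
    rcases hqy with rfl | hq1
    · have e2 : (4 * y + 1) * ((4 * y + 1) ^ 2 - 1) = (4 * y + 1) * (8 * y * (2 * y + 1)) := by
        congr 1
        rw [show (4 * y + 1) ^ 2 = 8 * y * (2 * y + 1) + 1 by ring, Nat.add_sub_cancel]
      rw [e2] at heq
      have h2 : r * r * ((4 * y + 1) * (2 * y + 1)) = w * m + 3 :=
        Nat.eq_of_mul_eq_mul_left (show 0 < 8 * y by omega) (by rw [← heq]; ring)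
      have h3 : w * m ≤ 6 * ((r * y) * (r * y)) := Nat.mul_le_mul hw6 (by rw [hm2, hry]; nlinarith)
      nlinarith [Nat.mul_pos hr hy0, Nat.mul_pos hr hr]
    · obtain ⟨z, rfl⟩ : ∃ z, y = z + 3 := ⟨y - 3, by
        have := Nat.odd_iff.mp hy
        omega⟩
      have hq : q = 4 * z + 11 := by omega
      subst hq
      have e2 : (4 * z + 11) ^ 2 - 1 = 8 * (z + 3) * (2 * z + 5) := by
        rw [show (4 * z + 11) ^ 2 = 8 * (z + 3) * (2 * z + 5) + 1 by ring, Nat.add_sub_cancel]
      rw [e2] at heq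
      have h2 : r * r * ((4 * z + 11) * (2 * z + 5)) = w * m + 3 :=
        Nat.eq_of_mul_eq_mul_left (show 0 < 8 * (z + 3) by omega) (by rw [← heq]; ring)
      have h3 : w * m ≤ 6 * ((F + 1) * (F + 1)) := Nat.mul_le_mul hw6 hm2.le
      have h4 : 6 * (r * (z + 3) * (r * (z + 3))) ≤ r * r * ((4 * z + 11) * (2 * z + 5)) := by
        nlinarith [Nat.mul_pos hr hr, Nat.zero_le (r * r * z)]
      rw [hry] at h4
      nlinarith
  · have hry : r * y = 2 * F + 3 := Nat.eq_of_mul_eq_mul_left hF (by nlinarith)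
    have hm2 : m = (F + 1) * (2 * F + 1) := by nlinarith
    have h3 : w * m ≤ 6 * ((F + 1) * (2 * F + 1)) := Nat.mul_le_mul hw6 hm2.le
    rcases hqy with rfl | hq1
    · have e2 : (4 * y + 1) * ((4 * y + 1) ^ 2 - 1) = (4 * y + 1) * (8 * y * (2 * y + 1)) := by
        congr 1
        rw [show (4 * y + 1) ^ 2 = 8 * y * (2 * y + 1) + 1 by ring, Nat.add_sub_cancel]
      rw [e2] at heq
      have h2 : r * r * ((4 * y + 1) * (2 * y + 1)) = w * m + 3 :=
        Nat.eq_of_mul_eq_mul_left (show 0 < 8 * y by omega) (by rw [← heq]; ring)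
      have h4 : 6 * ((r * y) * (r * y)) ≤ r * r * ((4 * y + 1) * (2 * y + 1)) := by
        nlinarith [Nat.mul_pos hr hr]
      rw [hry] at h4
      nlinarith
    · obtain ⟨z, rfl⟩ : ∃ z, y = z + 3 := ⟨y - 3, by
        have := Nat.odd_iff.mp hy
        omega⟩
      have hq : q = 4 * z + 11 := by omega
      subst hq
      have e2 : (4 * z + 11) ^ 2 - 1 = 8 * (z + 3) * (2 * z + 5) := by
        rw [show (4 * z + 11) ^ 2 = 8 * (z + 3) * (2 * z + 5) + 1 by ring, Nat.add_sub_cancel]
      rw [e2] at heq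
      have h2 : r * r * ((4 * z + 11) * (2 * z + 5)) = w * m + 3 :=
        Nat.eq_of_mul_eq_mul_left (show 0 < 8 * (z + 3) by omega) (by rw [← heq]; ring)
      have h4 : 6 * (r * (z + 3) * (r * (z + 3))) ≤ r * r * ((4 * z + 11) * (2 * z + 5)) := by
        nlinarith [Nat.mul_pos hr hr, Nat.zero_le (r * r * z)]
      rw [hry] at h4
      nlinarith

variable {G : Type u} [Group G] [Finite G] {Ω : Type v} [Finite Ω] [MulAction G Ω] [FaithfulSMul G Ω]
variable {a b : Ω} {t : G} (H : Hyp G a b) (T : InvIn t a b)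
include H T

theorem degree_even (hm : Even (fixedBy Ω t).ncard) : Even (Nat.card Ω) := by
  have h := basic_relation H T
  have hlt := fix_lt H T
  obtain ⟨j, hj⟩ := hm
  obtain ⟨i, hi⟩ : ∃ i, swapNum t a b * ((fixedBy Ω t).ncard * ((fixedBy Ω t).ncard - 1)) = 2 * i :=
    ⟨swapNum t a b * (j * ((fixedBy Ω t).ncard - 1)), by rw [hj]; ring⟩
  rw [Nat.even_iff]
  omega

theorem swapNum_mem : swapNum t a b = 1 ∨ swapNum t a b = 3 ∨ swapNum t a b = 4 ∨ swapNum t a b = 6 := by
  rcases swap_cases H T with h | h | h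
  · simp [h.1]
  · rcases h.1 with e | e <;> simp [e]
  · simp [h.1]

/-- An element of the two-point stabiliser normalises the four group and moves the involution. -/
theorem exists_mover : ∃ g ∈ pairStab G a b, g ∈ Subgroup.normalizer (four t a b : Set G) ∧ g * t ≠ t * g := by
  have h12 := card_norm_four H T
  by_contra hno
  push Not at hno
  have hle : Subgroup.normalizer (four t a b : Set G) ⊓ pairStab G a b ≤ four t a b := fun g hg =>
    mem_four.mpr ⟨hg.2, hno g hg.2 hg.1⟩
  have := Subgroup.card_le_of_le hle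
  rw [h12, card_four H T] at this
  omega

/-- The outcome in even degree. -/
theorem even_outcome (hm : Even (fixedBy Ω t).ncard) :
    Nat.card Ω = 6 ∨
    (Nat.card Ω = 16 ∧ (fixedBy Ω t).ncard = 4 ∧ (fixPts Ω (four t a b)).ncard = 4 ∧
      ∃ R : Subgroup G, Group.IsPerfect R ∧ R ≤ stabilizer G a ∧ four t a b ≤ R) ∨
    ((fixedBy Ω t).ncard = 12 ∧ (fixPts Ω (four t a b)).ncard = 12) ∨
    (Nat.card Ω = 28 ∧ (fixedBy Ω t).ncard = 4 ∧ (fixPts Ω (four t a b)).ncard = 2) ∨
    ((fixedBy Ω t).ncard = 36 ∧ (fixPts Ω (four t a b)).ncard = 6) := by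
  classical
  set n := Nat.card Ω with hn
  set m := (fixedBy Ω t).ncard with hmdef
  set k := (fixPts Ω (four t a b)).ncard with hkdef
  have hneven : Even n := degree_even H T hm
  have hm2 : 2 ≤ m := two_le_fix H T
  have hk2 : 2 ≤ k := two_le_fixPts H T
  have hlt : m < n := fix_lt H T
  set M := stabilizer G a with hM
  have hcardM : Nat.card M = (n - 1) * 12 := H.card_stab
  have hAM : pairStab G a b ≤ M := inf_le_left
  have hVA : four t a b ≤ pairStab G a b := inf_le_left
  have h8 : ¬ 8 ∣ Nat.card M := by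
    rw [hcardM]
    rw [Nat.even_iff] at hneven
    omega
  let V' := (four t a b).subgroupOf M
  let t' : M := ⟨t, hAM T.mem⟩
  have hV' : Nat.card V' = 4 := by
    rw [Nat.card_congr (Subgroup.subgroupOfEquivOfLe (hVA.trans hAM)).toEquiv, card_four H T]
  have hsq : ∀ v ∈ V', v * v = 1 := fun v hv => Subtype.ext (four_sq H T hv)
  have hcentM : Nat.card ↥(Subgroup.centralizer ({t'} : Set M)) = (m - 1) * 4 := by
    rw [← (card_cent H T).2]
    exact (Nat.card_congr
      { toFun := fun x => ⟨⟨x.1, x.2.2⟩, Subgroup.mem_centralizer_singleton_iff.mpr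
          (Subtype.ext (Subgroup.mem_centralizer_singleton_iff.mp x.2.1))⟩
        invFun := fun x => ⟨(x.1 : G), Subgroup.mem_centralizer_singleton_iff.mpr
          (congrArg Subtype.val (Subgroup.mem_centralizer_singleton_iff.mp x.2)), x.1.2⟩
        left_inv := fun _ => rfl
        right_inv := fun _ => rfl }).symm
  have hnormM : Nat.card ↥(Subgroup.normalizer (V' : Set M)) = (k - 1) * 12 := by
    rw [← (card_norm H T).2]
    exact (Nat.card_congr
      { toFun := fun x => ⟨⟨x.1, x.2.2⟩, Subgroup.mem_normalizer_iff.mpr fun z =>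
          Subgroup.mem_normalizer_iff.mp x.2.1 (z : G)⟩
        invFun := fun x => ⟨(x.1 : G), StabAlt5.mem_normalizer_of_le fun z hz =>
          (Subgroup.mem_normalizer_iff.mp x.2 ⟨z, hAM (hVA hz)⟩).mp hz, x.1.2⟩
        left_inv := fun _ => rfl
        right_inv := fun _ => rfl }).symm
  obtain ⟨g, hgA, hgN, hgt⟩ := exists_mover H T
  let g' : M := ⟨g, hAM hgA⟩
  have hg'N : g' ∈ Subgroup.normalizer (V' : Set M) :=
    Subgroup.mem_normalizer_iff.mpr fun x => Subgroup.mem_normalizer_iff.mp hgN (x : G)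
  have hg't : g' * t' ≠ t' * g' := fun e => hgt (congrArg Subtype.val e)
  have hrel := basic_relation H T
  rw [← hn, ← hmdef] at hrel
  have hforms : m = k ∨ m = k * k ∨ m + k = 2 * (k * k) := fix_cases H T
  by_cases hperf : ∃ R : Subgroup M, Group.IsPerfect R ∧ V' ≤ R
  swap
  · have h := solvable_numerics (V := V') (t := t') hV' hsq h8 (self_mem_four H T)
      (fun h => T.ne_one (congrArg Subtype.val h)) hg'N hg't hperf
    rw [hcardM, hcentM, hnormM] at h
    have h' : (n - 1) * ((k - 1) * (k - 1)) = (m - 1) * (m - 1) * (m - 1) :=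
      Nat.eq_of_mul_eq_mul_left (show 0 < 1728 by norm_num) (by
        calc 1728 * ((n - 1) * ((k - 1) * (k - 1))) = (n - 1) * 12 * ((k - 1) * 12) ^ 2 := by ring
          _ = _ := by rw [h]; ring)
    rcases solvable_arith (swapNum_mem H T) hk2 hlt hforms hrel h' with ⟨hw, hk, hm4⟩ | ⟨-, hk, hm36⟩
    · refine Or.inr (Or.inr (Or.inr (Or.inl ⟨?_, hm4, hk⟩)))
      rw [hw, hm4] at hrel
      omega
    · exact Or.inr (Or.inr (Or.inr (Or.inr ⟨hm36, hk⟩)))
  obtain ⟨R, hR, hVR⟩ := hperf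
  haveI := hR
  obtain ⟨q, y, c, d, f, O, h3, hqp, hqy, hO, hc, hdc, hd, hf, hcardM', hcent, hnorm⟩ :=
    numerics_of_perfect (M := M) (V := V') hV' hsq h8 R hVR (t := t') (self_mem_four H T)
      (fun h => T.ne_one (congrArg Subtype.val h))
  obtain ⟨r, rfl⟩ := hdc
  have hr : Odd r := hc.of_dvd_nat (dvd_mul_left r d)
  have hm1 : m = r * (f * d) * y + 1 := by
    have e1 : f * (d * r) * (4 * y) = 4 * (r * (f * d) * y) := by ring
    rw [hcentM] at hcent
    omega
  have hk1 : k = f * d + 1 := by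
    have e1 : 12 * f * d = 12 * (f * d) := by ring
    rw [hnormM] at hnorm
    omega
  have hy : Odd y := by
    by_contra hy
    rw [Nat.not_odd_iff_even] at hy
    obtain ⟨j, hj⟩ := hy
    have h8' : 8 ∣ Nat.card ↥(Subgroup.centralizer ({t'} : Set M)) := ⟨f * (d * r) * j, by rw [hcent, hj]; ring⟩
    exact h8 (h8'.trans (Subgroup.card_subgroup_dvd_card _))
  have hOeq : O = r * r * r * d :=
    Nat.eq_of_mul_eq_mul_right (pow_pos hd 2) (by rw [hO]; ring)
  have heq : r * r * (q * (q ^ 2 - 1)) = 8 * y * (swapNum t a b * m + 3) := by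
    refine Nat.eq_of_mul_eq_mul_left (show 0 < r * (f * d) from Nat.mul_pos hr.pos (Nat.mul_pos hf hd)) ?_
    have h2 : (n - 1) * 12 * 2 = r * (f * d) * (r * r * (q * (q ^ 2 - 1))) := by
      rw [← hcardM, hcardM', hOeq]; ring
    rw [← h2]
    have e1 : r * (f * d) * (8 * y * (swapNum t a b * m + 3)) =
        8 * ((r * (f * d) * y) * (swapNum t a b * m + 3)) := by ring
    have e2 : (r * (f * d) * y) * (swapNum t a b * m + 3) =
        swapNum t a b * (m * (r * (f * d) * y)) + 3 * (r * (f * d) * y) := by ring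
    have hm' : m - 1 = r * (f * d) * y := by omega
    rw [hm'] at hrel
    omega
  obtain ⟨hmk, -, -, hwm⟩ :=
    perfect_arith (swapNum_mem H T) h3 hqy hy hr.pos (Nat.mul_pos hf hd) hm1 hk1 hforms heq
  have hmev : m % 2 = 0 := Nat.even_iff.mp hm
  rcases swapNum_mem H T with hw | hw | hw | hw <;> rw [hw] at hwm hrel
  · exact Or.inr (Or.inr (Or.inl ⟨by omega, by omega⟩))
  · refine Or.inr (Or.inl ⟨?_, by omega, by omega, R.map M.subtype, ?_, Subgroup.map_subtype_le _, fun v hv => ?_⟩)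
    · have h4 : m = 4 := by omega
      rw [h4] at hrel
      omega
    · exact Group.IsPerfect.ofSurjective
        (f := (R.equivMapOfInjective M.subtype M.subtype_injective).toMonoidHom)
        (R.equivMapOfInjective M.subtype M.subtype_injective).surjective
    · exact ⟨⟨v, hAM (hVA hv)⟩, hVR (show (⟨v, hAM (hVA hv)⟩ : M) ∈ V' from hv), rfl⟩
  · omega
  · left
    have h2 : m = 2 := by omega
    rw [h2] at hrel
    omega

end CfsgLib.StabAlt4
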