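import Cfsg.Agent.Lib.StabAlt4.Seven
import Cfsg.Agent.Lib.StabAlt4.Bridge
import Cfsg.Agent.Lib.StabAlt5.Exceptional
import Cfsg.Agent.Lib.StabAlt5.Double

/-!
The exceptional parameters in even degree are impossible.
-/

set_option autoImplicit false
set_option linter.unusedSectionVars false
set_option linter.style.haveILetI false

namespace CfsgLib.StabAlt4

open MulAction CfsgLib.StabAlt5

universe u v

section Generic

variable {G : Type u} [Group G] [Finite G] {Ω : Type v} [Finite Ω] [MulAction G Ω]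

/-- The fixed points of a commuting element modulo a prime. -/
theorem fix_cent_mod {p : ℕ} [Fact p.Prime] {g x : G} (hg : orderOf g = p) (hx : Commute x g) :
    (fixedBy Ω x).ncard ≡ (fixedBy Ω x ∩ fixedBy Ω g).ncard [MOD p] := by
  have hZ : IsPGroup p (Subgroup.zpowers g) := IsPGroup.of_card (n := 1) (by rw [Nat.card_zpowers, hg, pow_one])
  let Y : SubMulAction ↥(Subgroup.zpowers g) Ω :=
    { carrier := fixedBy Ω x
      smul_mem' := fun z d hd => by
        show x • (z : G) • d = (z : G) • d
        obtain ⟨i, hi⟩ := Subgroup.mem_zpowers_iff.mp z.2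
        rw [← hi, ← mul_smul, (hx.zpow_right i).eq, mul_smul, show x • d = d from hd] }
  have h := hZ.card_modEq_card_fixedPoints Y
  rw [show Nat.card Y = (fixedBy Ω x).ncard from Nat.card_coe_set_eq _] at h
  refine h.trans (congrArg (fun i => i % p) ?_)
  rw [← Nat.card_coe_set_eq]
  refine Nat.card_congr
    { toFun := fun y => ⟨(y.1 : Ω), y.1.2, congrArg Subtype.val (y.2 ⟨g, Subgroup.mem_zpowers g⟩)⟩
      invFun := fun y => ⟨⟨y.1, y.2.1⟩, fun z => Subtype.ext ?_⟩
      left_inv := fun _ => rfl
      right_inv := fun _ => rfl }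
  obtain ⟨i, hi⟩ := Subgroup.mem_zpowers_iff.mp z.2
  show (z : G) • (y : Ω) = y
  rw [← hi]
  exact (stabilizer G (y : Ω)).zpow_mem (show g ∈ stabilizer G (y : Ω) from y.2.2) i

/-- The index of a centraliser in the normaliser of a subgroup of prime order. -/
theorem card_norm_dvd {Q : Subgroup G} {p : ℕ} [hp : Fact p.Prime] (hQ : Nat.card Q = p) {q : G}
    (hq : q ∈ Q) :
    Nat.card ↥(Subgroup.normalizer (Q : Set G)) ∣
      Nat.card ↥(Subgroup.centralizer ({q} : Set G) ⊓ Subgroup.normalizer (Q : Set G)) * (p - 1) := by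
  haveI : IsCyclic ↥Q := isCyclic_of_prime_card hQ
  rw [← Subgroup.card_mul_index Q.normalizerMonoidHom.ker]
  refine Nat.mul_dvd_mul ?_ ?_
  · rw [← Subgroup.card_map_of_injective (f := (Subgroup.normalizer (Q : Set G)).subtype)
      (Subgroup.normalizer (Q : Set G)).subtype_injective]
    refine Subgroup.card_dvd_of_le ?_
    rintro _ ⟨z, hz, rfl⟩
    have := congrArg (fun f : MulAut ↥Q => ((f ⟨q, hq⟩ : ↥Q) : G)) (MonoidHom.mem_ker.mp hz)
    exact ⟨Subgroup.mem_centralizer_singleton_iff.mpr (mul_inv_eq_iff_eq_mul.mp this), z.2⟩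
  · rw [Subgroup.index_ker]
    refine (Subgroup.card_subgroup_dvd_card _).trans ?_
    rw [IsCyclic.card_mulAut, hQ, Nat.totient_prime hp.out]

end Generic

variable {X : Type u} [Group X] [Finite X] {Δ : Type v} [Finite Δ] [MulAction X Δ] [FaithfulSMul X Δ]

/-- There is no doubly transitive group of degree 36 with these parameters. -/
theorem not_thirty_six {a b : Δ} {s : X} (H : TwoHyp X a b s) (hn : Nat.card Δ = 36)
    (hk : (fixedBy Δ s).ncard = 6) : False := by
  classical
  haveI h5 : Fact (Nat.Prime 5) := ⟨Nat.prime_five⟩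
  obtain ⟨hX, hA⟩ := H.card_group
  obtain ⟨-, hC⟩ := H.card_cent
  rw [hn] at hX hA
  rw [hk] at hC
  replace hX : Nat.card X = 2520 := by omega
  replace hA : Nat.card ↥(stabilizer X a) = 70 := by omega
  replace hC : Nat.card ↥(Subgroup.centralizer ({s} : Set X) ⊓ stabilizer X a) = 10 := by omega
  obtain ⟨z, hz⟩ := exists_prime_orderOf_dvd_card' (G := ↥(Subgroup.centralizer ({s} : Set X) ⊓ stabilizer X a)) 5
    (by rw [hC]; norm_num)
  rw [← Subgroup.orderOf_coe] at hz
  obtain ⟨hzs, hza⟩ := z.2
  have hzs' := Subgroup.mem_centralizer_singleton_iff.mp hzs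
  generalize (z : X) = r at hz hzs hza hzs'
  -- it fixes one point
  have huniq : ∀ c : Δ, r • c = c → c = a := fun c hc => by
    by_contra hca
    obtain ⟨g, hg⟩ := H.of_fix hca hc hza (fun e => by simp [e] at hz)
    have : orderOf r = 2 := orderOf_eq_prime (by rw [pow_two, H.conjSet_sq hg]) (fun e => by simp [e] at hz)
    omega
  set R := Subgroup.zpowers r with hR
  have hR5 : Nat.card R = 5 := by rw [hR, Nat.card_zpowers, hz]
  set N := Subgroup.normalizer (R : Set X) with hN
  have hNa : N ≤ stabilizer X a := fun g hg => by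
    refine huniq (g • a) ?_
    obtain ⟨i, hi⟩ := Subgroup.mem_zpowers_iff.mp
      ((Subgroup.mem_normalizer_iff''.mp hg r).mp (Subgroup.mem_zpowers r))
    have h1 : (r ^ i) • a = a := (stabilizer X a).zpow_mem hza i
    rw [hi, mul_smul, mul_smul, inv_smul_eq_iff] at h1
    exact h1
  have hfac : (Nat.card X).factorization 5 = 1 := by
    have h1 := (Nat.prime_five.pow_dvd_iff_le_factorization (k := 1) Nat.card_pos.ne').mp (by rw [hX]; norm_num)
    have h2 : ¬ 2 ≤ (Nat.card X).factorization 5 := fun h => by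
      have := (Nat.prime_five.pow_dvd_iff_le_factorization (k := 2) Nat.card_pos.ne').mpr h
      rw [hX] at this
      norm_num at this
    omega
  let SR : Sylow 5 X := Sylow.ofCard R (by rw [hR5, hfac, pow_one])
  have hmod := card_sylow_modEq_one 5 X
  rw [show Nat.card (Sylow 5 X) = N.index by rw [Sylow.card_eq_index_normalizer SR]; rfl] at hmod
  have hN70 : Nat.card N = 70 := by
    have hmul := Subgroup.card_mul_index N
    rw [hX] at hmul
    have hd : Nat.card N ∣ 70 := hA ▸ Subgroup.card_dvd_of_le hNa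
    have h5d : 5 ∣ Nat.card N := hR5 ▸ Subgroup.card_dvd_of_le Subgroup.le_normalizer
    have hle := Nat.le_of_dvd (by norm_num) hd
    unfold Nat.ModEq at hmod
    interval_cases hc : Nat.card N <;> omega
  -- it is central in its normaliser
  have hCN : Nat.card ↥(Subgroup.centralizer ({r} : Set X) ⊓ N) = 70 := by
    have h1 := card_norm_dvd (Q := R) hR5 (Subgroup.mem_zpowers r)
    rw [← hN, hN70] at h1
    have h2 : 2 ∣ Nat.card ↥(Subgroup.centralizer ({r} : Set X) ⊓ N) := by
      have hs : s ∈ Subgroup.centralizer ({r} : Set X) ⊓ N :=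
        ⟨Subgroup.mem_centralizer_singleton_iff.mpr hzs'.symm, CfsgLib.StabAlt5.mem_normalizer_of_le fun w hw => by
          obtain ⟨i, rfl⟩ := Subgroup.mem_zpowers_iff.mp hw
          rw [(show Commute s r from hzs'.symm).zpow_right i, mul_inv_cancel_right]
          exact Subgroup.zpow_mem _ (Subgroup.mem_zpowers r) i⟩
      have := Subgroup.orderOf_dvd_natCard _ hs
      rwa [orderOf_eq_prime (by rw [pow_two, H.sq]) H.ne_one] at this
    have h3 : Nat.card ↥(Subgroup.centralizer ({r} : Set X) ⊓ N) ∣ 70 := hN70 ▸ Subgroup.card_dvd_of_le inf_le_right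
    have h4 : 35 ∣ Nat.card ↥(Subgroup.centralizer ({r} : Set X) ⊓ N) :=
      (show Nat.Coprime 35 (5 - 1) by norm_num).dvd_of_dvd_mul_right ((show 35 ∣ 70 by norm_num).trans h1)
    exact Nat.dvd_antisymm h3 ((show Nat.Coprime 2 35 by norm_num).mul_dvd_of_dvd_of_dvd h2 h4)
  have hNC : Subgroup.normalizer ((SR : Subgroup X) : Set X) ≤ Subgroup.centralizer ((SR : Subgroup X) : Set X) := by
    show N ≤ Subgroup.centralizer (R : Set X)
    have heq : Subgroup.centralizer ({r} : Set X) ⊓ N = N :=
      Subgroup.eq_of_le_of_card_ge inf_le_right (by rw [hCN, hN70])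
    intro g hg
    rw [← heq] at hg
    refine Subgroup.mem_centralizer_iff.mpr fun w hw => ?_
    obtain ⟨i, rfl⟩ := Subgroup.mem_zpowers_iff.mp hw
    exact ((Commute.zpow_right (show Commute g r from Subgroup.mem_centralizer_singleton_iff.mp hg.1) i).eq).symm
  set K := (MonoidHom.transferSylow SR hNC).ker with hK
  haveI : K.Normal := MonoidHom.normal_ker _
  have hKc : Nat.card K = 504 := by
    have h := (MonoidHom.ker_transferSylow_isComplement' SR hNC).card_mul_card
    rw [show Nat.card ↥(SR : Subgroup X) = 5 from hR5, hX] at h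
    rw [hK]
    omega
  haveI : Fact (Nat.Prime 2) := ⟨Nat.prime_two⟩
  obtain ⟨P⟩ : Nonempty (Sylow 2 K) := inferInstance
  let π : Equiv.Perm (Sylow 2 K) := MulAction.toPerm (α := MulAut K) (β := Sylow 2 K) (MulAut.conjNormal r)
  have hπ : π ^ 5 = 1 := by
    refine Equiv.ext fun S => ?_
    show ((MulAction.toPermHom (MulAut K) (Sylow 2 K)) (MulAut.conjNormal r) ^ 5) S = S
    rw [← map_pow, ← map_pow, ← hz, pow_orderOf_eq_one, map_one, map_one]; rfl
  have hnot : ¬ 5 ∣ Nat.card (Sylow 2 K) := fun h => by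
    have := (h.trans P.card_dvd_index).trans (Subgroup.index_dvd_card _)
    rw [hKc] at this
    norm_num at this
  obtain ⟨S, hS⟩ : ∃ S, π S = S := by
    haveI := Fintype.ofFinite (Sylow 2 K)
    exact Equiv.Perm.exists_fixed_point_of_prime (p := 5) (n := 1) (by rwa [← Nat.card_eq_fintype_card])
      (by rwa [pow_one])
  set S0 := (S : Subgroup K).map K.subtype with hS0
  have hS0c : Nat.card S0 = 8 := by
    rw [hS0, Subgroup.card_map_of_injective K.subtype_injective, S.card_eq_multiplicity, hKc]
    have h1 := (Nat.Prime.pow_dvd_iff_le_factorization (p := 2) (k := 3) (n := 504) Nat.prime_two (by norm_num)).mp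
      (by norm_num)
    have h2 : ¬ 4 ≤ Nat.factorization 504 2 := fun h => by
      have := (Nat.Prime.pow_dvd_iff_le_factorization (p := 2) (k := 4) (n := 504) Nat.prime_two (by norm_num)).mpr h
      norm_num at this
    rw [show Nat.factorization 504 2 = 3 by omega]
    norm_num
  have hrS : r ∈ Subgroup.normalizer (S0 : Set X) := CfsgLib.StabAlt5.mem_normalizer_of_le fun y hy => by
    obtain ⟨y, hy', rfl⟩ := hy
    refine ⟨(MulAut.conjNormal r : MulAut K) y, ?_, by rw [Subgroup.coe_subtype, MulAut.conjNormal_apply]⟩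
    have h' := Subgroup.smul_mem_pointwise_smul _ (MulAut.conjNormal r : MulAut K) _ hy'
    rwa [← Sylow.pointwise_smul_def, show ((MulAut.conjNormal r : MulAut K) • S) = S from hS] at h'
  letI : MulAction ↥R ↥S0 := MulAction.compHom ↥S0
    (S0.normalizerMonoidHom.comp (Subgroup.inclusion (Subgroup.zpowers_le.mpr hrS)))
  have hmodS := (IsPGroup.of_card (n := 1) (by rw [hR5, pow_one]) : IsPGroup 5 R).card_modEq_card_fixedPoints ↥S0
  have hfix : Nat.card (fixedPoints ↥R ↥S0) ∣ 2 := by
    have e : Nat.card (fixedPoints ↥R ↥S0) = Nat.card ↥(S0 ⊓ Subgroup.centralizer ({r} : Set X)) := by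
      refine Nat.card_congr
        { toFun := fun y => ⟨(y.1 : X), y.1.2, Subgroup.mem_centralizer_singleton_iff.mpr
            (mul_inv_eq_iff_eq_mul.mp (congrArg Subtype.val (y.2 ⟨r, Subgroup.mem_zpowers r⟩) :
              r * (y.1 : X) * r⁻¹ = y.1)).symm⟩
          invFun := fun y => ⟨⟨y.1, y.2.1⟩, fun z => Subtype.ext ?_⟩
          left_inv := fun _ => rfl
          right_inv := fun _ => rfl }
      show (z : X) * (y : X) * (z : X)⁻¹ = y
      obtain ⟨i, hi⟩ := Subgroup.mem_zpowers_iff.mp z.2
      rw [← hi, ((show Commute (y : X) r from Subgroup.mem_centralizer_singleton_iff.mp y.2.2).zpow_right i).symm.eq,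
        mul_inv_cancel_right]
    rw [e]
    have h1 : Nat.card ↥(S0 ⊓ Subgroup.centralizer ({r} : Set X)) ∣ 8 := hS0c ▸ Subgroup.card_dvd_of_le inf_le_left
    have h2 : Nat.card ↥(S0 ⊓ Subgroup.centralizer ({r} : Set X)) ∣ 70 := by
      refine (Subgroup.card_dvd_of_le inf_le_right).trans (hA ▸ Subgroup.card_dvd_of_le fun g hg => ?_)
      refine huniq (g • a) ?_
      rw [← mul_smul, ← Subgroup.mem_centralizer_singleton_iff.mp hg, mul_smul, show r • a = a from hza]
    exact Nat.dvd_gcd h1 h2
  rw [hS0c] at hmodS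
  unfold Nat.ModEq at hmodS
  have := Nat.le_of_dvd (by norm_num) hfix
  omega

variable {G : Type u} [Group G] [Finite G] {Ω : Type v} [Finite Ω] [MulAction G Ω] [FaithfulSMul G Ω]
variable {a b : Ω} {t : G}

/-- The degree 28 is impossible. -/
theorem not_twenty_eight (H : Hyp G a b) (T : InvIn t a b) (h : CaseSix t a b) (hn : Nat.card Ω = 28)
    (hm : (fixedBy Ω t).ncard = 4) : False := by
  classical
  haveI h7 : Fact (Nat.Prime 7) := ⟨by norm_num⟩
  have hG : Nat.card G = 9072 := by rw [H.card_group, hn]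
  obtain ⟨e⟩ := H.iso
  have hA : Nat.card ↥(pairStab G a b) = 12 := card_A e
  obtain ⟨g, hg⟩ := exists_prime_orderOf_dvd_card' (G := G) 7 (by rw [hG]; norm_num)
  have hle : (fixedBy Ω g).ncard ≤ 1 := (Set.ncard_le_one_iff).mpr fun {c d} hc hd => by
    by_contra hcd
    obtain ⟨k, hka, hkb⟩ := H.two c d a b hcd H.ne
    have hm' : k * g * k⁻¹ ∈ pairStab G a b :=
      ⟨by show (k * g * k⁻¹) • a = a; rw [mul_smul, mul_smul, ← hka, inv_smul_smul, hc],
        by show (k * g * k⁻¹) • b = b; rw [mul_smul, mul_smul, ← hkb, inv_smul_smul, hd]⟩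
    have := Subgroup.orderOf_dvd_natCard _ hm'
    rw [hA, show k * g * k⁻¹ = MulAut.conj k g from rfl, MulEquiv.orderOf_eq, hg] at this
    omega
  have h0 : (fixedBy Ω g).ncard = 0 := by
    have hmod : (fixedBy Ω g).ncard ≡ 28 [MOD 7] := hn ▸ fixed_mod 7 hg
    unfold Nat.ModEq at hmod
    omega
  have hodd : ¬ 2 ∣ Nat.card ↥(Subgroup.centralizer ({g} : Set G)) := by
    intro hd
    obtain ⟨x, hx⟩ := exists_prime_orderOf_dvd_card' 2 hd
    rw [← Subgroup.orderOf_coe] at hx
    have hmod := fix_cent_mod (Ω := Ω) hg (x := (x : G)) (Subgroup.mem_centralizer_singleton_iff.mp x.2)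
    rw [involution_fix H T h (x := (x : G)) (by rw [← pow_two, ← hx, pow_orderOf_eq_one])
      (fun e1 => by rw [e1, orderOf_one] at hx; omega), hm,
      (Set.ncard_eq_zero).mp h0, Set.inter_empty, Set.ncard_empty] at hmod
    unfold Nat.ModEq at hmod
    omega
  set P := Subgroup.zpowers g with hP
  have hP7 : Nat.card P = 7 := by rw [hP, Nat.card_zpowers, hg]
  have hfac : (Nat.card G).factorization 7 = 1 := by
    have h1 := (h7.out.pow_dvd_iff_le_factorization (k := 1) Nat.card_pos.ne').mp (by rw [hG]; norm_num)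
    have h2 : ¬ 2 ≤ (Nat.card G).factorization 7 := fun h' => by
      have := (h7.out.pow_dvd_iff_le_factorization (k := 2) Nat.card_pos.ne').mpr h'
      rw [hG] at this
      norm_num at this
    omega
  let SP : Sylow 7 G := Sylow.ofCard P (by rw [hP7, hfac, pow_one])
  set N := Subgroup.normalizer (P : Set G) with hN
  have hmod := card_sylow_modEq_one 7 G
  rw [show Nat.card (Sylow 7 G) = N.index by rw [Sylow.card_eq_index_normalizer SP]; rfl] at hmod
  have hmul := Subgroup.card_mul_index N
  rw [hG] at hmul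
  have hi : N.index = 1 ∨ N.index = 8 ∨ N.index = 36 ∨ N.index = 162 ∨ N.index = 1296 := by
    have hd : N.index ∣ 1296 := by
      refine (h7.out.coprime_iff_not_dvd.mpr fun h' => ?_).symm.dvd_of_dvd_mul_left (m := 7) ?_
      · unfold Nat.ModEq at hmod
        omega
      · exact ⟨Nat.card N, by rw [mul_comm N.index, hmul]⟩
    have hmem : N.index ∈ (Nat.divisors 1296).filter (fun i => i % 7 = 1) :=
      Finset.mem_filter.mpr ⟨Nat.mem_divisors.mpr ⟨hd, by norm_num⟩, hmod⟩
    have hset : (Nat.divisors 1296).filter (fun i => i % 7 = 1) = {1, 8, 36, 162, 1296} := by decide +kernel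
    rw [hset] at hmem
    simpa using hmem
  have hnorm := card_norm_dvd (Q := P) hP7 (Subgroup.mem_zpowers g)
  have hnotfour : ¬ 4 ∣ Nat.card N := fun h4 => by
    have h4' := h4.trans hnorm
    rw [show (7 - 1 : ℕ) = 2 * 3 by norm_num, ← mul_assoc] at h4'
    have h2 := (show Nat.Coprime 4 3 by norm_num).dvd_of_dvd_mul_right h4'
    rw [show (4 : ℕ) = 2 * 2 by norm_num] at h2
    exact hodd ((Nat.dvd_of_mul_dvd_mul_right (by norm_num) h2).trans (Subgroup.card_dvd_of_le inf_le_left))
  rcases hi with hi | hi | hi | hi | hi <;> rw [hi] at hmul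
  · -- normal
    have hN' : N = ⊤ := Subgroup.index_eq_one.mp hi
    haveI : P.Normal := Subgroup.normalizer_eq_top_iff.mp hN'
    have := normal_transitive H P (fun e' => by rw [e', Subgroup.card_bot] at hP7; omega)
    rw [hn, hP7] at this
    norm_num at this
  · -- eight conjugates
    set K := N.normalCore with hK
    have hKidx : K.index ∣ 40320 := by
      rw [hK, Subgroup.normalCore_eq_ker, Subgroup.index_ker]
      refine (Subgroup.card_subgroup_dvd_card _).trans ?_
      rw [Nat.card_perm, show Nat.card (G ⧸ N) = 8 from hi]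
      rfl
    by_cases hKb : K = ⊥
    · rw [hKb, Subgroup.index_bot, hG] at hKidx
      norm_num at hKidx
    · have h28 := (normal_transitive H K hKb).trans (Subgroup.card_dvd_of_le (Subgroup.normalCore_le N))
      rw [hn] at h28
      omega
  · exact hnotfour (by omega)
  · exact hnotfour (by omega)
  · -- self-normalising
    have hNP : N = P := (Subgroup.eq_of_le_of_card_ge Subgroup.le_normalizer (by rw [hP7, ← hN]; omega)).symm
    have hNC : Subgroup.normalizer ((SP : Subgroup G) : Set G) ≤
        Subgroup.centralizer ((SP : Subgroup G) : Set G) := by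
      show N ≤ Subgroup.centralizer (P : Set G)
      rw [hNP]
      intro x hx
      refine Subgroup.mem_centralizer_iff.mpr fun w hw => ?_
      haveI : IsCyclic ↥P := isCyclic_of_prime_card hP7
      exact congrArg (fun q : ↥P => (q : G)) ((IsCyclic.commGroup (α := ↥P)).mul_comm ⟨w, hw⟩ ⟨x, hx⟩)
    set K := (MonoidHom.transferSylow SP hNC).ker with hK
    haveI : K.Normal := MonoidHom.normal_ker _
    have hKc : Nat.card K = 1296 := by
      have h' := (MonoidHom.ker_transferSylow_isComplement' SP hNC).card_mul_card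
      rw [show Nat.card ↥(SP : Subgroup G) = 7 from hP7, hG] at h'
      rw [hK]
      omega
    have := normal_transitive H K (fun e' => by rw [e', Subgroup.card_bot] at hKc; omega)
    rw [hn, hKc] at this
    norm_num at this

/-- Twelve fixed points for the whole four group are impossible. -/
theorem not_twelve (H : Hyp G a b) (T : InvIn t a b) (hm : (fixedBy Ω t).ncard = 12)
    (hk : (fixPts Ω (four t a b)).ncard = 12) : False := by
  obtain ⟨P, p, j, -, hp, hj, hcard, -⟩ := affine_of_eq H T (by rw [hk, hm])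
  rw [Nat.card_coe_set_eq, hm] at hcard
  have h2 : p ∣ 2 ^ 2 * 3 := by
    rw [show (2 : ℕ) ^ 2 * 3 = p ^ j by norm_num; exact hcard]
    exact dvd_pow_self p (by omega)
  rcases hp.dvd_mul.mp h2 with h | h
  · obtain rfl := (Nat.prime_dvd_prime_iff_eq hp Nat.prime_two).mp (hp.dvd_of_dvd_pow h)
    have : 3 ∣ 2 ^ j := ⟨4, by omega⟩
    exact absurd (Nat.prime_three.dvd_of_dvd_pow this) (by norm_num)
  · obtain rfl := (Nat.prime_dvd_prime_iff_eq hp Nat.prime_three).mp h
    have : 2 ∣ 3 ^ j := ⟨6, by omega⟩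
    exact absurd (Nat.prime_two.dvd_of_dvd_pow this) (by norm_num)

end CfsgLib.StabAlt4
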