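import Cfsg.Agent.Lib.StabAlt4.Cases
import Cfsg.Agent.Lib.StabAlt4.Bridge
import Cfsg.Agent.Lib.StabAlt5.Double

/-!
Odd degree: the group on the fixed points of an involution is affine; the central case is impossible and the
case of three swapping conjugates has an isolated involution.
-/

set_option autoImplicit false
set_option linter.unusedSectionVars false
set_option linter.style.haveILetI false

namespace CfsgLib.StabAlt4

open MulAction CfsgLib.StabAlt5

universe u v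

/-- Some involution is isolated modulo the odd core. -/
def HasIsolated (G : Type u) [Group G] : Prop :=
  ∃ J : G, orderOf J = 2 ∧ Subgroup.centralizer ({J} : Set G) ⊔ Cfsg.oddCore G = ⊤

variable {G : Type u} [Group G] [Finite G] {Ω : Type v} [Finite Ω] [MulAction G Ω] [FaithfulSMul G Ω]
variable {a b : Ω} {t : G} (H : Hyp G a b) (T : InvIn t a b)
include H T

theorem degree_odd (hm : Odd (fixedBy Ω t).ncard) : Odd (Nat.card Ω) := by
  have h := basic_relation H T
  have hlt := fix_lt H T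
  obtain ⟨j, hj⟩ := hm
  obtain ⟨i, hi⟩ : ∃ i, swapNum t a b * ((fixedBy Ω t).ncard * ((fixedBy Ω t).ncard - 1)) = 2 * i :=
    ⟨swapNum t a b * ((fixedBy Ω t).ncard * j), by rw [hj, Nat.add_sub_cancel]; ring⟩
  rw [Nat.odd_iff]
  omega

/-- In odd degree the group on the fixed points is affine, of degree `k` or `k²`. -/
theorem affine_fix (hm : Odd (fixedBy Ω t).ncard) :
    IsAffine ↥(fixGroup Ω t) ↥(fixedBy Ω t) ∧
      ((fixedBy Ω t).ncard = (fixPts Ω (four t a b)).ncard ∨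
        (fixedBy Ω t).ncard = (fixPts Ω (four t a b)).ncard * (fixPts Ω (four t a b)).ncard) := by
  by_cases hk : (fixPts Ω (four t a b)).ncard = (fixedBy Ω t).ncard
  · exact ⟨affine_of_eq H T hk, Or.inl hk.symm⟩
  · obtain ⟨v, hv, v1, vt⟩ := exists_other H T
    obtain ⟨h2, hfix⟩ := twoHyp_of_ne H T hk hv v1 vt
    have hodd : Odd (Nat.card ↥(fixedBy Ω t)) := by rw [Nat.card_coe_set_eq]; exact hm
    rcases h2.degree with h | h
    · refine ⟨h2.affine_square hodd h, Or.inr ?_⟩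
      rw [hfix, Nat.card_coe_set_eq] at h
      exact h
    · exact (h2.no_double hodd h).elim

theorem exists_copy_in_cent (h : CaseCentral t a b) :
    ∃ B : Subgroup G, B ≤ Subgroup.centralizer ({t} : Set G) ∧ Nonempty (↥B ≃* ↥(alternatingGroup (Fin 4))) := by
  obtain ⟨-, z, ⟨g, hg⟩, -, hzc⟩ := h
  obtain ⟨e⟩ := H.iso
  refine ⟨(pairStab G a b).map (MulAut.conj g⁻¹).toMonoidHom, ?_,
    ⟨((Subgroup.equivMapOfInjective _ _ (MulAut.conj g⁻¹).injective).symm).trans e⟩⟩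
  rintro _ ⟨y, hy, rfl⟩
  refine Subgroup.mem_centralizer_singleton_iff.mpr ?_
  show g⁻¹ * y * g⁻¹⁻¹ * t = t * (g⁻¹ * y * g⁻¹⁻¹)
  have ht : t = g⁻¹ * z * g := by rw [← hg]; group
  calc g⁻¹ * y * g⁻¹⁻¹ * t = g⁻¹ * y * g⁻¹⁻¹ * (g⁻¹ * z * g) := congrArg _ ht
    _ = g⁻¹ * (y * z) * g := by group
    _ = g⁻¹ * (z * y) * g := by rw [hzc y hy]
    _ = g⁻¹ * z * g * (g⁻¹ * y * g⁻¹⁻¹) := by group
    _ = t * (g⁻¹ * y * g⁻¹⁻¹) := by rw [← ht]

set_option maxHeartbeats 1000000 in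
/-- An affine group in which an involution is determined up to conjugacy by its fixed points contains no `A₄`. -/
theorem not_central (hm : Odd (fixedBy Ω t).ncard) (h : CaseCentral t a b) : False := by
  classical
  obtain ⟨B, hB, ⟨eB⟩⟩ := exists_copy_in_cent H T h
  obtain ⟨⟨P, p, j, hPn, -, -, hmp, hPc, hPtr, hPreg, hPcomm, -⟩, hforms⟩ := affine_fix H T hm
  haveI := hPn
  -- the copy of `A₄` acts faithfully on the fixed points
  let f : ↥B →* ↥(fixGroup Ω t) := (fixHom Ω t).rangeRestrict.comp (Subgroup.inclusion hB)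
  have hinvol : ∀ K : Subgroup ↥B, K.Normal → K ≠ ⊥ → ∃ u ∈ K, u * u = 1 ∧ u ≠ 1 := by
    intro K hK hne
    obtain ⟨⟨x, hx⟩, x1'⟩ := Subgroup.ne_bot_iff_exists_ne_one.mp hne
    have x1 : x ≠ 1 := fun e => x1' (Subtype.ext e)
    have key : ∀ x : alternatingGroup (Fin 4), x ≠ 1 → x * x = 1 ∨
        ∃ u, (x * u * x⁻¹ * u⁻¹) * (x * u * x⁻¹ * u⁻¹) = 1 ∧ x * u * x⁻¹ * u⁻¹ ≠ 1 := by decide +kernel
    rcases key (eB x) (fun e => x1 (eB.map_eq_one_iff.mp e)) with h2 | ⟨w, hw2, hw1⟩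
    · exact ⟨x, hx, eB.injective (by rw [map_mul, h2, map_one]), x1⟩
    · obtain ⟨w, rfl⟩ := eB.surjective w
      refine ⟨x * w * x⁻¹ * w⁻¹, ?_, eB.injective (by simpa using hw2), fun e => hw1 (by simpa using congrArg eB e)⟩
      rw [show x * w * x⁻¹ * w⁻¹ = x * (w * x⁻¹ * w⁻¹) by group]
      exact mul_mem hx (hK.conj_mem _ (inv_mem hx) w)
  have hker : f.ker = ⊥ := by
    by_contra hne
    obtain ⟨u, hu, u2, u1⟩ := hinvol f.ker inferInstance hne
    have key : ∀ u : alternatingGroup (Fin 4), u * u = 1 → u ≠ 1 → ∃ g, g * u * g⁻¹ ≠ u ∧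
        ∀ x : alternatingGroup (Fin 4), x * x = 1 → x = 1 ∨ x = u ∨ x = g * u * g⁻¹ ∨ x = u * (g * u * g⁻¹) := by
      decide +kernel
    obtain ⟨k, hku, hall⟩ := key (eB u) (by rw [← map_mul, u2, map_one]) (fun e => u1 (eB.map_eq_one_iff.mp e))
    obtain ⟨k, rfl⟩ := eB.surjective k
    have hmem : ∀ x : ↥B, f x = 1 → (x : G) ∈ four t a b := fun x h1 => by
      have h2 := toFix_eq_one.mp h1
      exact mem_four.mpr ⟨⟨h2 a T.mem.1, h2 b T.mem.2⟩, Subgroup.mem_centralizer_singleton_iff.mp (hB x.2)⟩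
    have hu' : f u = 1 := hu
    have hw : f (k * u * k⁻¹) = 1 := by rw [map_mul, map_mul, hu', mul_one, ← map_mul, mul_inv_cancel, map_one]
    -- the four group of the copy is the four group, which contains the central involution
    have hw1 : (k * u * k⁻¹ : ↥B) ≠ 1 := fun e => u1 (conj_eq_one_iff.mp e)
    have hne' : k * u * k⁻¹ ≠ u := fun e => hku (by rw [← map_inv, ← map_mul, ← map_mul, e])
    have hu0 : (u : G) ≠ 1 := fun e => u1 (Subtype.ext e)
    have hV4 : ∀ x, x ∈ four t a b → x ∈ B := by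
      have hsub : ({1, (u : G), ((k * u * k⁻¹ : ↥B) : G), ((u * (k * u * k⁻¹) : ↥B) : G)} : Set G) ⊆
          (four t a b : Set G) := by
        rintro x (rfl | rfl | rfl | rfl)
        exacts [one_mem _, hmem u hu', hmem _ hw, hmem _ (by rw [map_mul, hu', hw, one_mul])]
      have h4 : ({1, (u : G), ((k * u * k⁻¹ : ↥B) : G), ((u * (k * u * k⁻¹) : ↥B) : G)} : Set G).ncard = 4 := by
        have d1 : u * (k * u * k⁻¹) ≠ 1 := fun e => hne' (by
          rw [eq_inv_of_mul_eq_one_right e, inv_eq_of_mul_eq_one_left u2])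
        have d2 : u * (k * u * k⁻¹) ≠ u := fun e => hw1 (mul_eq_left.mp e)
        have d3 : u * (k * u * k⁻¹) ≠ k * u * k⁻¹ := fun e => u1 (mul_eq_right.mp e)
        have hz : ∀ x y : ↥B, x ≠ y → (x : G) ≠ (y : G) := fun x y h e => h (Subtype.ext e)
        rw [Set.ncard_insert_of_notMem (by
            simp only [Set.mem_insert_iff, Set.mem_singleton_iff, not_or]
            exact ⟨Ne.symm hu0, (hz _ 1 hw1).symm, (hz _ 1 d1).symm⟩),
          Set.ncard_insert_of_notMem (by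
            simp only [Set.mem_insert_iff, Set.mem_singleton_iff, not_or]
            exact ⟨(hz _ _ hne').symm, (hz _ _ d2).symm⟩),
          Set.ncard_insert_of_notMem (by
            simp only [Set.mem_singleton_iff]
            exact (hz _ _ d3).symm), Set.ncard_singleton]
      have heq := Set.eq_of_subset_of_ncard_le hsub
        (by rw [h4]; exact ((Nat.card_coe_set_eq _).symm.trans (card_four H T)).le)
      intro x hx
      rcases (heq.symm ▸ hx : x ∈ ({1, (u : G), ((k * u * k⁻¹ : ↥B) : G), ((u * (k * u * k⁻¹) : ↥B) : G)} : Set G))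
        with rfl | rfl | rfl | rfl
      exacts [one_mem _, u.2, (k * u * k⁻¹).2, (u * (k * u * k⁻¹)).2]
    have hcen : ∀ y : alternatingGroup (Fin 4), eB ⟨t, hV4 t (self_mem_four H T)⟩ * y =
        y * eB ⟨t, hV4 t (self_mem_four H T)⟩ := fun y => by
      obtain ⟨y, rfl⟩ := eB.surjective y
      rw [← map_mul, ← map_mul]
      exact congrArg eB (Subtype.ext (Subgroup.mem_centralizer_singleton_iff.mp (hB y.2)).symm)
    exact T.ne_one (congrArg Subtype.val (eB.map_eq_one_iff.mp (a4_center _ hcen)))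
  have hfinj : Function.Injective f := (MonoidHom.ker_eq_bot_iff f).mp hker
  -- move it into the stabiliser of `a`
  set A0 := stabilizer ↥(fixGroup Ω t) (leftPt T : ↥(fixedBy Ω t)) with hA0
  have hdec : ∀ x : ↥(fixGroup Ω t), ∃ π ∈ P, π⁻¹ * x ∈ A0 := fun x => by
    obtain ⟨π, hπ, hπa⟩ := hPtr (leftPt T) (x • leftPt T)
    exact ⟨π, hπ, by show (π⁻¹ * x) • leftPt T = leftPt T; rw [mul_smul, ← hπa, inv_smul_smul]⟩
  choose π hπP hπA using hdec
  have huniq : ∀ (x : ↥(fixGroup Ω t)) (π' : ↥(fixGroup Ω t)), π' ∈ P → π'⁻¹ * x ∈ A0 → π' = π x := by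
    intro x π' hπ' hA'
    have h1 : (π'⁻¹ * π x) • leftPt T = leftPt T := by
      have h2 : π'⁻¹ * π x = (π'⁻¹ * x) * ((π x)⁻¹ * x)⁻¹ := by group
      rw [h2]
      exact A0.mul_mem hA' (A0.inv_mem (hπA x))
    exact inv_mul_eq_one.mp (hPreg _ (mul_mem (inv_mem hπ') (hπP x)) _ h1)
  let ρ : ↥(fixGroup Ω t) →* ↥A0 :=
    { toFun := fun x => ⟨(π x)⁻¹ * x, hπA x⟩
      map_one' := Subtype.ext (by
        show (π 1)⁻¹ * 1 = 1
        rw [← huniq 1 1 (one_mem P) (by simp), inv_one, one_mul])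
      map_mul' := fun x y => Subtype.ext (by
        show (π (x * y))⁻¹ * (x * y) = (π x)⁻¹ * x * ((π y)⁻¹ * y)
        have hc : π (x * y) = π x * (((π x)⁻¹ * x) * π y * ((π x)⁻¹ * x)⁻¹) := by
          refine (huniq _ _ (mul_mem (hπP x) (hPn.conj_mem _ (hπP y) _)) ?_).symm
          have e : (π x * (((π x)⁻¹ * x) * π y * ((π x)⁻¹ * x)⁻¹))⁻¹ * (x * y) =
              ((π x)⁻¹ * x) * ((π y)⁻¹ * y) := by group
          rw [e]
          exact A0.mul_mem (hπA x) (hπA y)
        rw [hc]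
        group) }
  let g : ↥B →* ↥A0 := ρ.comp f
  have hgker : g.ker = ⊥ := by
    by_contra hne
    obtain ⟨u, hu, u2, u1⟩ := hinvol g.ker inferInstance hne
    have h2 : (π (f u))⁻¹ * f u = 1 := congrArg Subtype.val (hu : g u = 1)
    have hin : f u ∈ P := inv_mul_eq_one.mp h2 ▸ hπP (f u)
    have hord : orderOf (f u) = 2 := orderOf_eq_prime (by rw [pow_two, ← map_mul, u2, map_one])
      (fun e => u1 (hfinj (by rw [e, map_one])))
    have hdvd := Subgroup.orderOf_dvd_natCard P hin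
    rw [hord, hPc, ← hmp, Nat.card_coe_set_eq] at hdvd
    exact Nat.not_even_iff_odd.mpr hm (even_iff_two_dvd.mpr hdvd)
  have hginj : Function.Injective g := (MonoidHom.ker_eq_bot_iff g).mp hgker
  -- two commuting involutions of it
  obtain ⟨u, u2, u1, v, v2, v1, huv, hne, hconj₁, hconj₂⟩ : ∃ u : ↥B, u * u = 1 ∧ u ≠ 1 ∧ ∃ v : ↥B, v * v = 1 ∧
      v ≠ 1 ∧ u * v = v * u ∧ u ≠ v ∧ (∃ g, g * u * g⁻¹ = v) ∧ ∃ g, g * u * g⁻¹ = u * v := by
    have key : ∃ u : alternatingGroup (Fin 4), u * u = 1 ∧ u ≠ 1 ∧ ∃ v : alternatingGroup (Fin 4), v * v = 1 ∧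
        v ≠ 1 ∧ u * v = v * u ∧ u ≠ v ∧ (∃ g, g * u * g⁻¹ = v) ∧ ∃ g, g * u * g⁻¹ = u * v := by decide +kernel
    obtain ⟨u, hu, hu1, v, hv, hv1, huv, hne, ⟨g₁, hg₁⟩, g₂, hg₂⟩ := key
    refine ⟨eB.symm u, by rw [← map_mul, hu, map_one], fun e => hu1 (eB.symm.map_eq_one_iff.mp e), eB.symm v,
      by rw [← map_mul, hv, map_one], fun e => hv1 (eB.symm.map_eq_one_iff.mp e),
      by rw [← map_mul, ← map_mul, huv], fun e => hne (eB.symm.injective e),
      ⟨eB.symm g₁, by rw [← map_inv, ← map_mul, ← map_mul, hg₁]⟩,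
      ⟨eB.symm g₂, by rw [← map_inv, ← map_mul, ← map_mul, hg₂, map_mul]⟩⟩
  set U : ↥(fixGroup Ω t) := (g u : ↥A0).1 with hU
  set W : ↥(fixGroup Ω t) := (g v : ↥A0).1 with hW
  have hUa : U • leftPt T = leftPt T := (g u).2
  have hWa : W • leftPt T = leftPt T := (g v).2
  have hU2 : U * U = 1 := by rw [hU, ← Subgroup.coe_mul, ← map_mul, u2, map_one]; rfl
  have hW2 : W * W = 1 := by rw [hW, ← Subgroup.coe_mul, ← map_mul, v2, map_one]; rfl
  have hU1 : U ≠ 1 := fun e => u1 (hginj (by rw [map_one]; exact Subtype.ext e))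
  have hW1 : W ≠ 1 := fun e => v1 (hginj (by rw [map_one]; exact Subtype.ext e))
  have hUW : U * W = W * U := by rw [hU, hW, ← Subgroup.coe_mul, ← Subgroup.coe_mul, ← map_mul, ← map_mul, huv]
  have hne' : U ≠ W := fun e => hne (hginj (Subtype.ext e))
  have hfU : ∀ (w : ↥B), (∃ g, g * u * g⁻¹ = w) →
      (fixedBy ↥(fixedBy Ω t) ((g w : ↥A0).1 : ↥(fixGroup Ω t))).ncard = (fixedBy ↥(fixedBy Ω t) U).ncard := by
    rintro w ⟨k, rfl⟩
    rw [hU, map_mul, map_mul, map_inv, Subgroup.coe_mul, Subgroup.coe_mul, Subgroup.coe_inv]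
    exact ncard_fixedBy_conj _ _
  have hfW : (fixedBy ↥(fixedBy Ω t) W).ncard = (fixedBy ↥(fixedBy Ω t) U).ncard := hfU v hconj₁
  have hfUW : (fixedBy ↥(fixedBy Ω t) (U * W)).ncard = (fixedBy ↥(fixedBy Ω t) U).ncard := by
    have := hfU (u * v) hconj₂
    rwa [map_mul, Subgroup.coe_mul, ← hU, ← hW] at this
  set V4 : Subgroup ↥(fixGroup Ω t) := Subgroup.closure {U, W} with hV4
  have hV4mem : ∀ z, z ∈ V4 ↔ z = 1 ∨ z = U ∨ z = W ∨ z = U * W := by
    intro z
    constructor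
    · intro hz
      induction hz using Subgroup.closure_induction with
      | mem x hx => rcases hx with rfl | rfl <;> simp
      | one => simp
      | mul x y _ _ hx hy =>
        have e1 : W * (U * W) = U := by rw [← mul_assoc, ← hUW, mul_assoc, hW2, mul_one]
        have e2 : U * (U * W) = W := by rw [← mul_assoc, hU2, one_mul]
        have e3 : U * W * U = W := by rw [mul_assoc, ← hUW, e2]
        have e4 : U * W * W = U := by rw [mul_assoc, hW2, mul_one]
        have e5 : U * W * (U * W) = 1 := by rw [mul_assoc, e1, hU2]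
        rcases hx with rfl | rfl | rfl | rfl <;> rcases hy with rfl | rfl | rfl | rfl <;>
          simp [hU2, hW2, ← hUW, e1, e2, e3, e4, e5]
      | inv x _ hx =>
        rcases hx with rfl | rfl | rfl | rfl
        · simp
        · simp [inv_eq_of_mul_eq_one_left hU2]
        · simp [inv_eq_of_mul_eq_one_left hW2]
        · right; right; right
          rw [mul_inv_rev, inv_eq_of_mul_eq_one_left hU2, inv_eq_of_mul_eq_one_left hW2, hUW]
    · rintro (rfl | rfl | rfl | rfl)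
      · exact one_mem _
      · exact Subgroup.subset_closure (Or.inl rfl)
      · exact Subgroup.subset_closure (Or.inr rfl)
      · exact mul_mem (Subgroup.subset_closure (Or.inl rfl)) (Subgroup.subset_closure (Or.inr rfl))
  have hPodd : Odd (Nat.card P) := by
    rw [hPc, ← hmp, Nat.card_coe_set_eq]; exact hm
  have hform := four_formula hPodd hU2 hW2 hUW hU1 hW1 hne' (fun x hx => hPn.conj_mem x hx U)
    (fun x hx => hPn.conj_mem x hx W) hV4mem
  have hUWa : (U * W) • leftPt T = leftPt T := by rw [mul_smul, hWa, hUa]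
  rw [card_cent_regular P hPtr hPreg hUa, card_cent_regular P hPtr hPreg hWa,
    card_cent_regular P hPtr hPreg hUWa, hfW, hfUW, hPc, ← hmp, Nat.card_coe_set_eq] at hform
  have hm2 := two_le_fix H T
  have hVC : Nat.card ↥(P ⊓ Subgroup.centralizer (V4 : Set ↥(fixGroup Ω t))) = 1 := by
    rw [Subgroup.card_eq_one, Subgroup.eq_bot_iff_forall]
    rintro x ⟨hxP, hxC⟩
    refine hPreg x hxP (leftPt T) ?_
    by_contra hxa
    have hUx : U • x • leftPt T = x • leftPt T := by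
      rw [← mul_smul, Subgroup.mem_centralizer_iff.mp hxC U ((hV4mem U).mpr (Or.inr (Or.inl rfl))), mul_smul, hUa]
    have hWx : W • x • leftPt T = x • leftPt T := by
      rw [← mul_smul, Subgroup.mem_centralizer_iff.mp hxC W ((hV4mem W).mpr (Or.inr (Or.inr (Or.inl rfl)))),
        mul_smul, hWa]
    obtain ⟨k, hk1, hk2⟩ := fixGroup_two H T _ _ (leftPt T) (rightPt T) (Ne.symm hxa) (leftPt_ne H T)
    have hfixk : ∀ Z : ↥(fixGroup Ω t), Z • leftPt T = leftPt T → Z • x • leftPt T = x • leftPt T →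
        (k * Z * k⁻¹) • leftPt T = leftPt T ∧ (k * Z * k⁻¹) • rightPt T = rightPt T := fun Z h1 h2 => by
      have e1 : k⁻¹ • leftPt T = leftPt T := inv_smul_eq_iff.mpr hk1.symm
      have e2 : k⁻¹ • rightPt T = x • leftPt T := inv_smul_eq_iff.mpr hk2.symm
      exact ⟨by rw [mul_smul, mul_smul, e1, h1, hk1], by rw [mul_smul, mul_smul, e2, h2, hk2]⟩
    by_cases hk : (fixPts Ω (four t a b)).ncard = (fixedBy Ω t).ncard
    · obtain ⟨w, hw, hwe⟩ := fix_pair H T (hfixk U hUa hUx).1 (hfixk U hUa hUx).2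
      rw [kernel_trivial_of_eq H T hk w hw] at hwe
      exact hU1 (conj_eq_one_iff.mp hwe.symm)
    · obtain ⟨v', hv', hv1', hvt'⟩ := exists_other H T
      obtain ⟨h2, -⟩ := twoHyp_of_ne H T hk hv' hv1' hvt'
      have eU := (h2.only _ (hfixk U hUa hUx).1 (hfixk U hUa hUx).2).resolve_left fun e => hU1 (conj_eq_one_iff.mp e)
      have eW := (h2.only _ (hfixk W hWa hWx).1 (hfixk W hWa hWx).2).resolve_left fun e => hW1 (conj_eq_one_iff.mp e)
      exact hne' (mul_left_cancel (mul_right_cancel (eU.trans eW.symm)))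
  rw [hVC, one_pow, mul_one] at hform
  -- an involution fixing a single point, or as many as the four group
  by_cases hone : (fixedBy ↥(fixedBy Ω t) U).ncard ≤ 1
  · have : (fixedBy ↥(fixedBy Ω t) U).ncard ^ 3 ≤ 1 := (Nat.pow_le_pow_left hone 3).trans (by norm_num)
    rw [pow_three, ← mul_assoc, ← hform] at this
    omega
  · obtain ⟨c, hc, hca⟩ : ∃ c ∈ fixedBy ↥(fixedBy Ω t) U, c ≠ leftPt T := by
      by_contra h'
      push Not at h'
      exact hone ((Set.ncard_le_one_iff (Set.toFinite _)).mpr fun {p q} hp hq => (h' p hp).trans (h' q hq).symm)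
    obtain ⟨k, hk1, hk2⟩ := fixGroup_two H T (leftPt T) c (leftPt T) (rightPt T) (Ne.symm hca) (leftPt_ne H T)
    have h1 : (k * U * k⁻¹) • leftPt T = leftPt T := by
      rw [mul_smul, mul_smul, inv_smul_eq_iff.mpr hk1.symm, hUa, hk1]
    have h2 : (k * U * k⁻¹) • rightPt T = rightPt T := by
      rw [mul_smul, mul_smul, inv_smul_eq_iff.mpr hk2.symm, show U • c = c from hc, hk2]
    by_cases hk : (fixPts Ω (four t a b)).ncard = (fixedBy Ω t).ncard
    · obtain ⟨w, hw, hwe⟩ := fix_pair H T h1 h2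
      rw [kernel_trivial_of_eq H T hk w hw] at hwe
      exact hU1 (conj_eq_one_iff.mp hwe.symm)
    · obtain ⟨v', hv', hv1', hvt'⟩ := exists_other H T
      obtain ⟨h2', hfix⟩ := twoHyp_of_ne H T hk hv' hv1' hvt'
      have e := (h2'.only _ h1 h2).resolve_left fun e => hU1 (conj_eq_one_iff.mp e)
      have hUk := ncard_fixedBy_conj (Ω := ↥(fixedBy Ω t)) k U
      rw [e, hfix] at hUk
      rw [← hUk] at hform
      have hsq := hforms.resolve_left (fun e => hk e.symm)
      rw [hsq] at hform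
      have hk2' := two_le_fixPts H T
      have : 0 < (fixPts Ω (four t a b)).ncard * (fixPts Ω (four t a b)).ncard := Nat.mul_pos (by omega) (by omega)
      nlinarith

omit H T in
/-- An isolated involution is central modulo the odd core (Glauberman). -/
theorem hasIsolated_of_isolated {z : G} (hz : orderOf z = 2) (hiso : Cfsg.IsIsolated z) : HasIsolated G := by
  have hO := CfsgLib.ZStar.inZStar hz hiso
  refine ⟨z, hz, top_le_iff.mp fun g _ => ?_⟩
  have hz2 : z * z = 1 := by rw [← pow_two, ← hz, pow_orderOf_eq_one]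
  have hzi : z⁻¹ = z := inv_eq_of_mul_eq_one_left hz2
  set o := g * z * g⁻¹ * z with ho
  have hoO : o ∈ Cfsg.oddCore G := by have := hO g; rwa [hzi] at this
  have hinv : z * o * z⁻¹ = o⁻¹ := by
    have h2 : g * z * g⁻¹ * (g * z * g⁻¹) = 1 := by rw [conj_mul, hz2, mul_one, mul_inv_cancel]
    rw [ho, mul_inv_rev, inv_eq_of_mul_eq_one_left h2, mul_assoc z, mul_inv_cancel_right, hzi]
  obtain ⟨k, hk⟩ : Odd (orderOf o) := Nat.not_even_iff_odd.mp fun h =>
    CfsgLib.not_dvd_card_pPrimeCore (G := G) Nat.prime_two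
      ((even_iff_two_dvd.mp h).trans (Subgroup.orderOf_dvd_natCard _ hoO))
  set x := o ^ (k + 1) with hx
  have hxx : x * x = o := by
    rw [hx, ← pow_add, show k + 1 + (k + 1) = (2 * k + 1) + 1 by ring, pow_succ, ← hk, pow_orderOf_eq_one, one_mul]
  have hxz : z * x * z⁻¹ = x⁻¹ := by rw [hx, ← conj_pow, hinv, inv_pow]
  have h1 : x * z * x⁻¹ = g * z * g⁻¹ := by
    calc x * z * x⁻¹ = x * (z * x⁻¹ * z⁻¹) * z := by group
      _ = x * (z * x * z⁻¹)⁻¹ * z := by group
      _ = x * x * z := by rw [hxz, inv_inv]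
      _ = g * z * g⁻¹ := by rw [hxx, ho, mul_assoc, hz2, mul_one]
  have hC : x⁻¹ * g ∈ Subgroup.centralizer ({z} : Set G) := by
    refine Subgroup.mem_centralizer_singleton_iff.mpr ?_
    calc x⁻¹ * g * z = x⁻¹ * (g * z * g⁻¹) * g := by group
      _ = x⁻¹ * (x * z * x⁻¹) * g := by rw [h1]
      _ = z * (x⁻¹ * g) := by group
  have := mul_mem (Subgroup.mem_sup_right (pow_mem hoO (k + 1)) : x ∈ _ ⊔ Cfsg.oddCore G) (Subgroup.mem_sup_left hC)
  rwa [mul_inv_cancel_left] at this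

theorem hasIsolated_of_three (hm : Odd (fixedBy Ω t).ncard) (h : CaseThree t a b) : HasIsolated G := by
  classical
  obtain ⟨-, z, hz2, hz, hzn, huniq⟩ := h
  have hodd : Odd (Nat.card Ω) := degree_odd H T hm
  set D : Set G := conjSet z with hD
  have hDc : ∀ g x : G, x ∈ D → g * x * g⁻¹ ∈ D := by
    rintro g x ⟨k, rfl⟩
    exact ⟨g * k, by group⟩
  have hz1 : z ≠ 1 := fun e => H.ne (((one_smul G a).symm.trans (e ▸ rfl)).trans hz.1)
  have hD2 : ∀ x ∈ D, x * x = 1 := by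
    rintro x ⟨k, rfl⟩
    rw [conj_mul, hz2, mul_one, mul_inv_cancel]
  have hD1 : ∀ x ∈ D, x ≠ 1 := by
    rintro x ⟨k, rfl⟩ e
    exact hz1 (conj_eq_one_iff.mp e)
  have hnD : ∀ x ∈ D, x ∉ conjSet t := by
    rintro x ⟨g, rfl⟩ hx
    have := conjSet_closed H g⁻¹ _ hx
    exact hzn (by rwa [show g⁻¹ * (g * z * g⁻¹) * g⁻¹⁻¹ = z by group] at this)
  have hno : ∀ x ∈ D, ∀ c d : Ω, x • c = c → x • d = d → c = d := by
    intro x hx c d hc hd
    by_contra hcd
    obtain ⟨k, hka, hkb⟩ := H.two c d a b hcd H.ne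
    refine hnD (k * x * k⁻¹) (hDc k x hx) (mem_conjSet H T ⟨⟨?_, ?_⟩, hD2 _ (hDc k x hx), hD1 _ (hDc k x hx)⟩)
    · show (k * x * k⁻¹) • a = a
      rw [mul_smul, mul_smul, ← hka, inv_smul_smul, hc]
    · show (k * x * k⁻¹) • b = b
      rw [mul_smul, mul_smul, ← hkb, inv_smul_smul, hd]
  have hfixD : ∀ x ∈ D, (fixedBy Ω x).ncard = 1 := by
    intro x hx
    have hle : (fixedBy Ω x).ncard ≤ 1 := (Set.ncard_le_one_iff).mpr fun {c d} hc hd => hno x hx c d hc hd
    have hev := fix_parity (Δ := Ω) (hD2 x hx)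
    rw [Nat.odd_iff] at hodd
    rw [Nat.even_iff] at hev
    omega
  have hswapD := StabAlt5.swap_count H.two H.ne D hDc hD2 hfixD
  have h1 : {x : G | x ∈ D ∧ x • a = b ∧ x • b = a}.ncard = 1 := by
    rw [Set.ncard_eq_one]
    refine ⟨z, Set.eq_singleton_iff_unique_mem.mpr ⟨⟨⟨1, by group⟩, hz⟩, ?_⟩⟩
    rintro x ⟨hx, hs⟩
    exact huniq x (hD2 x hx) hs (hnD x hx)
  rw [h1, mul_one] at hswapD
  have hcardD : D.ncard = Nat.card Ω := Nat.eq_of_mul_eq_mul_right (by
    have : 1 < Nat.card Ω := Finite.one_lt_card_iff_nontrivial.mpr ⟨a, b, H.ne⟩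
    omega) hswapD
  let φ : D → Ω := fun x => (Set.ncard_eq_one.mp (hfixD x x.2)).choose
  have hφ : ∀ x : D, (x : G) • φ x = φ x ∧ ∀ c, (x : G) • c = c → c = φ x := fun x => by
    have h := (Set.ncard_eq_one.mp (hfixD x x.2)).choose_spec
    exact ⟨(h.symm ▸ Set.mem_singleton _ : φ x ∈ fixedBy Ω (x : G)),
      fun c hc => Set.mem_singleton_iff.mp (h ▸ hc : c ∈ ({φ x} : Set Ω))⟩
  have hsurj : Function.Surjective φ := by
    intro c
    obtain ⟨k, hk'⟩ := H.two.transitive H.ne (φ ⟨z, 1, by group⟩)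
    obtain ⟨k0, hk0⟩ := H.two.transitive H.ne c
    refine ⟨⟨(k0 * k⁻¹) * z * (k0 * k⁻¹)⁻¹, ⟨_, rfl⟩⟩, ((hφ _).2 c ?_).symm⟩
    show ((k0 * k⁻¹) * z * (k0 * k⁻¹)⁻¹) • c = c
    rw [show (k0 * k⁻¹) * z * (k0 * k⁻¹)⁻¹ = k0 * k⁻¹ * z * k * k0⁻¹ by group, mul_smul, mul_smul, mul_smul,
      mul_smul, ← hk0, inv_smul_smul, hk', (hφ ⟨z, 1, by group⟩).1, ← hk', inv_smul_smul]
  have hinj : Function.Injective φ :=
    (Nat.bijective_iff_surjective_and_card φ).mpr ⟨hsurj, (Nat.card_coe_set_eq D).trans hcardD⟩ |>.1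
  refine hasIsolated_of_isolated (orderOf_eq_prime (by rw [pow_two, hz2]) hz1) fun k hk => ?_
  refine congrArg Subtype.val (hinj (a₁ := ⟨k * z * k⁻¹, k, rfl⟩) (a₂ := ⟨z, 1, by group⟩) ?_)
  refine (hφ ⟨z, 1, by group⟩).2 _ ?_
  refine (hφ ⟨k * z * k⁻¹, k, rfl⟩).2 _ ?_
  show (k * z * k⁻¹) • z • φ ⟨k * z * k⁻¹, k, rfl⟩ = z • φ ⟨k * z * k⁻¹, k, rfl⟩
  rw [← mul_smul, ← hk.eq, mul_smul, (hφ ⟨k * z * k⁻¹, k, rfl⟩).1]

end CfsgLib.StabAlt4
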