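import Cfsg.Agent.Lib.StabAlt4.EqualTools

/-!
Odd degree, symmetric case, four group acting trivially on the fixed points: the degree is seven.
-/

set_option autoImplicit false
set_option linter.unusedSectionVars false
set_option linter.style.haveILetI false

namespace CfsgLib.StabAlt4

open MulAction CfsgLib.StabAlt5
open scoped commutatorElement

universe u v

/-- A perfect subgroup through a Sylow four group normalises it non-trivially. -/
theorem perfect_moves {M : Type u} [Group M] [Finite M] {V : Subgroup M} (hV : Nat.card V = 4)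
    (hsq : ∀ v ∈ V, v * v = 1) (h8 : ¬ 8 ∣ Nat.card M) (R : Subgroup M) [Group.IsPerfect R] (hVR : V ≤ R) :
    ∃ g : M, g ∈ Subgroup.normalizer (V : Set M) ∧ ∃ v ∈ V, g * v ≠ v * g := by
  classical
  haveI : Fact (Nat.Prime 2) := ⟨Nat.prime_two⟩
  by_contra hno
  push Not at hno
  let S : Sylow 2 R := Sylow.ofCard (V.subgroupOf R) (by
    rw [Nat.card_congr (Subgroup.subgroupOfEquivOfLe hVR).toEquiv, hV, four_factorization hV h8 R hVR]; rfl)
  have hSc : (S : Subgroup R) = V.subgroupOf R := Sylow.coe_ofCard _ _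
  have hNC : Subgroup.normalizer ((S : Subgroup R) : Set R) ≤
      Subgroup.centralizer ((S : Subgroup R) : Set R) := by
    intro g hg
    have hgN : (g : M) ∈ Subgroup.normalizer (V : Set M) := StabAlt5.mem_normalizer_of_le fun x hx => by
      have h' := (Subgroup.mem_normalizer_iff.mp hg ⟨x, hVR hx⟩).mp (by rw [hSc]; exact hx)
      rw [hSc] at h'
      exact h'
    refine Subgroup.mem_centralizer_iff.mpr fun x hx => Subtype.ext ?_
    rw [hSc] at hx
    exact (hno g hgN x hx).symm
  have hcomp := MonoidHom.ker_transferSylow_isComplement' S hNC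
  have hker : (MonoidHom.transferSylow S hNC).ker = ⊤ := by
    refine top_le_iff.mp ?_
    rw [← Group.IsPerfect.commutator_eq_top (G := R), commutator_def, Subgroup.commutator_le]
    intro x _ y _
    rw [MonoidHom.mem_ker, map_commutatorElement, commutatorElement_eq_one_iff_mul_comm]
    refine Subtype.ext (Subtype.ext ?_)
    exact four_comm' hsq
      (Subgroup.mem_subgroupOf.mp ((SetLike.ext_iff.mp hSc _).mp (MonoidHom.transferSylow S hNC x).2))
      (Subgroup.mem_subgroupOf.mp ((SetLike.ext_iff.mp hSc _).mp (MonoidHom.transferSylow S hNC y).2))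
  rw [hker] at hcomp
  have h1 := Subgroup.isComplement'_top_left.mp hcomp
  rw [hSc, Subgroup.subgroupOf_eq_bot, disjoint_iff, inf_eq_left.mpr hVR] at h1
  rw [h1, Subgroup.card_bot] at hV
  omega

variable {G : Type u} [Group G] [Finite G] {Ω : Type v} [Finite Ω] [MulAction G Ω] [FaithfulSMul G Ω]
variable {a b : Ω} {t : G} (H : Hyp G a b) (T : InvIn t a b)
include H T

variable (hk : (fixPts Ω (four t a b)).ncard = (fixedBy Ω t).ncard)
include hk

variable {P : Subgroup G} {p j : ℕ} (L : RegLift Ω t P p j)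
include L

/-- A perfect subgroup through the four group fixes the order of the centraliser. -/
theorem RegLift.card_of_perfect {x : G} (hx : x ∈ P) (x1 : x ≠ 1) (M : Subgroup G)
    (hP : P ≤ M) (hV : four t a b ≤ M) (hMx : M ≤ Subgroup.centralizer ({x} : Set G))
    (R : Subgroup G) [Group.IsPerfect R] (hR : R ≤ M) (hVR : four t a b ≤ R) :
    Nat.card M = 60 * p ^ j ∧ Nat.card ↥(M ⊓ Subgroup.normalizer (four t a b : Set G)) = 12 * p ^ j := by
  let V' := (four t a b).subgroupOf M
  let t' : ↥M := ⟨t, hV (self_mem_four H T)⟩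
  let R' := R.subgroupOf M
  haveI : Group.IsPerfect ↥R' :=
    Group.IsPerfect.ofSurjective (f := (Subgroup.subgroupOfEquivOfLe hR).symm.toMonoidHom)
      (Subgroup.subgroupOfEquivOfLe hR).symm.surjective
  obtain ⟨q, y, c, d, f, O, h3, -, hqy, hO, hc, hdc, hd, hf, hcardM, hcent, hnorm⟩ :=
    numerics_of_perfect (M := ↥M) (V := V') (by
      rw [Nat.card_congr (Subgroup.subgroupOfEquivOfLe hV).toEquiv, card_four H T])
      (fun v hv => Subtype.ext (four_sq H T hv))
      (fun h => L.not_eight H T hk hx x1 (h.trans (Subgroup.card_dvd_of_le hMx)))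
      R' (fun v hv => hVR hv) (t := t') (self_mem_four H T) (fun h => T.ne_one (congrArg Subtype.val h))
  have hN : Nat.card ↥(M ⊓ Subgroup.normalizer (four t a b : Set G)) =
      Nat.card ↥(Subgroup.normalizer (V' : Set ↥M)) :=
    Nat.card_congr
      { toFun := fun g => ⟨⟨g.1, g.2.1⟩, Subgroup.mem_normalizer_iff.mpr fun z =>
          Subgroup.mem_normalizer_iff.mp g.2.2 (z : G)⟩
        invFun := fun g => ⟨(g.1 : G), g.1.2, mem_normalizer_of_le fun z hz =>
          (Subgroup.mem_normalizer_iff.mp g.2 ⟨z, hV hz⟩).mp hz⟩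
        left_inv := fun _ => rfl
        right_inv := fun _ => rfl }
  have hC : Nat.card ↥(Subgroup.centralizer ({t'} : Set ↥M)) = 4 * p ^ j := by
    have hle : (Subgroup.centralizer ({t'} : Set ↥M)).map M.subtype ≤ M := Subgroup.map_subtype_le _
    refine Nat.dvd_antisymm ?_ ?_
    · let fPV : ↥(Subgroup.centralizer ({t'} : Set ↥M)) → Prop := fun g => InPV P t a b ((g : ↥M) : G)
      have hsub : ((Subgroup.centralizer ({t'} : Set ↥M)).map M.subtype : Set G) ⊆
          (fun q : ↥P × ↥(four t a b) => (q.1 : G) * q.2) '' Set.univ := by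
        rintro _ ⟨g, hg, rfl⟩
        obtain ⟨z, hz, h, hh, e⟩ := L.cent_point H T hk hx x1
          (Subgroup.mem_centralizer_singleton_iff.mpr (congrArg Subtype.val (Subgroup.mem_centralizer_singleton_iff.mp hg)))
          (Subgroup.mem_centralizer_singleton_iff.mp (hMx g.2))
        exact ⟨(⟨z, hz⟩, ⟨h, hh⟩), trivial, e.symm⟩
      have hcomm : ∀ (u : ↥P) (z : ↥(four t a b)), Commute (P.subtype u) ((four t a b).subtype z) :=
        fun u z => (L.comm_four H T hk z.2 u u.2).symm
      have hle' : (Subgroup.centralizer ({t'} : Set ↥M)).map M.subtype ≤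
          (P.subtype.noncommCoprod (four t a b).subtype hcomm).range := by
        intro g hg
        obtain ⟨q, -, e⟩ := hsub hg
        exact ⟨q, e⟩
      have h := (Subgroup.card_dvd_of_le hle').trans (Subgroup.card_range_dvd _)
      rwa [Subgroup.card_map_of_injective M.subtype_injective, Nat.card_prod, L.card, card_four H T, mul_comm] at h
    · rw [← Subgroup.card_map_of_injective (f := M.subtype) M.subtype_injective]
      refine L.card_pv H T hk (fun z hz => ⟨⟨z, hP hz⟩, Subgroup.mem_centralizer_singleton_iff.mpr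
        (Subtype.ext ?_), rfl⟩) (fun z hz => ⟨⟨z, hV hz⟩, Subgroup.mem_centralizer_singleton_iff.mpr
        (Subtype.ext (four_comm H T hz (self_mem_four H T))), rfl⟩)
      exact (L.comm_four H T hk (self_mem_four H T) z hz).symm
  rw [hC] at hcent
  rw [hnorm] at hN
  have h4 : 4 * p ^ j ∣ Nat.card ↥(M ⊓ Subgroup.normalizer (four t a b : Set G)) := by
    refine L.card_pv H T hk (fun z hz => ⟨hP hz, ?_⟩) (le_inf hV Subgroup.le_normalizer)
    refine mem_normalizer_of_le fun w hw => ?_
    rw [← L.comm_four H T hk hw z hz, mul_inv_cancel_right]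
    exact hw
  -- some element moves the four group
  obtain ⟨g, hgN, w, hw, hgw⟩ := perfect_moves (M := ↥M) (V := V') (by
      rw [Nat.card_congr (Subgroup.subgroupOfEquivOfLe hV).toEquiv, card_four H T])
      (fun v hv => Subtype.ext (four_sq H T hv))
      (fun h => L.not_eight H T hk hx x1 (h.trans (Subgroup.card_dvd_of_le hMx))) R' (fun v hv => hVR hv)
  have hbig : 2 * (4 * p ^ j) ≤ Nat.card ↥(M ⊓ Subgroup.normalizer (four t a b : Set G)) := by
    set C' := M ⊓ Subgroup.centralizer (four t a b : Set G) with hC'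
    have hPC : 4 * p ^ j ∣ Nat.card C' := L.card_pv H T hk
      (fun z hz => ⟨hP hz, Subgroup.mem_centralizer_iff.mpr fun w hw => L.comm_four H T hk hw z hz⟩)
      (fun z hz => ⟨hV hz, Subgroup.mem_centralizer_iff.mpr fun w hw => four_comm H T hw hz⟩)
    have hle : C' ≤ M ⊓ Subgroup.normalizer (four t a b : Set G) :=
      inf_le_inf_left _ (Subgroup.centralizer_le_normalizer _)
    have hne : C' ≠ M ⊓ Subgroup.normalizer (four t a b : Set G) := by
      intro heq
      have hg : (g : G) ∈ M ⊓ Subgroup.normalizer (four t a b : Set G) := ⟨g.2, mem_normalizer_of_le fun z hz =>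
        (Subgroup.mem_normalizer_iff.mp hgN ⟨z, hV hz⟩).mp hz⟩
      rw [← heq] at hg
      exact hgw (Subtype.ext (Subgroup.mem_centralizer_iff.mp hg.2 _ (show (w : G) ∈ four t a b from hw)).symm)
    obtain ⟨i, hi⟩ := Subgroup.card_dvd_of_le hle
    have h2 : 2 ≤ i := by
      rcases i with _ | _ | i
      · rw [mul_zero] at hi
        exact absurd hi Nat.card_pos.ne'
      · exact absurd (Subgroup.eq_of_le_of_card_ge hle (by rw [hi]; simp)) hne
      · omega
    rw [hi]
    calc 2 * (4 * p ^ j) ≤ i * Nat.card C' :=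
          Nat.mul_le_mul h2 (Nat.le_of_dvd Nat.card_pos hPC)
      _ = _ := mul_comm _ _
  rw [hN] at h4 hbig
  obtain ⟨r, rfl⟩ := hdc
  have hm : p ^ j = f * d * (r * y) := by
    have : f * (d * r) * (4 * y) = 4 * (f * d * (r * y)) := by ring
    omega
  have hry : r * y = 1 := by
    have hfd0 : 0 < f * d := Nat.mul_pos hf hd
    obtain ⟨i, hi⟩ := h4
    rw [show 12 * f * d = 4 * (f * d) * 3 by ring] at hi hbig
    rw [hm] at hi hbig
    have h3' : i * (r * y) = 3 := by
      refine Nat.eq_of_mul_eq_mul_left (show 0 < 4 * (f * d) by omega) ?_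
      rw [hi]; ring
    have hle2 : r * y * 2 ≤ 3 := by
      refine Nat.le_of_mul_le_mul_left ?_ (show 0 < 4 * (f * d) by omega)
      calc 4 * (f * d) * (r * y * 2) = 2 * (4 * (f * d * (r * y))) := by ring
        _ ≤ _ := hbig
    have hpos : 0 < r * y := Nat.pos_of_ne_zero fun h => by rw [h, mul_zero] at h3'; omega
    omega
  obtain ⟨hr1, hy1⟩ := mul_eq_one.mp hry
  subst hr1 hy1
  have hq : q = 5 := by omega
  subst hq
  rw [mul_one] at hm
  rw [mul_one] at hO
  have hOd : O = d := Nat.eq_of_mul_eq_mul_right (pow_pos hd 2) (by rw [hO]; ring)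
  subst hOd
  refine ⟨?_, by rw [hN, hm]; ring⟩
  have : Nat.card M * 2 = 60 * p ^ j * 2 := by rw [hcardM, hm]; ring
  omega

/-- An odd normal subgroup in the centraliser of a point lies in the lift. -/
theorem RegLift.odd_normal_le {x : G} (hx : x ∈ P) (x1 : x ≠ 1) (W : Subgroup G) (hVW : four t a b ≤ W)
    (hWx : W ≤ Subgroup.centralizer ({x} : Set G)) (X : Subgroup ↥W) [hXn : X.Normal]
    (hXodd : Odd (Nat.card X)) : X.map W.subtype ≤ P := by
  set X0 := X.map W.subtype with hX0
  have hPV : ∀ (g : ↥W) (v : G), v ∈ four t a b → v ≠ 1 → (g : G) * v = v * g → InPV P t a b (g : G) :=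
    fun g v hv v1 h => L.cent_four H T hk hx x1 hv v1 h (Subgroup.mem_centralizer_singleton_iff.mp (hWx g.2))
  have hX0odd : Odd (Nat.card X0) := by rw [hX0, Subgroup.card_map_of_injective W.subtype_injective]; exact hXodd
  obtain ⟨v, hv, v1, vt⟩ := exists_other H T
  have hV := four_list T H hv v1 vt
  have htv : t * v ∈ four t a b := mul_mem (self_mem_four H T) hv
  have htv1 : t * v ≠ 1 := fun e => vt (by rw [eq_inv_of_mul_eq_one_right e, inv_eq_of_mul_eq_one_left T.sq])
  have hnorm : ∀ w ∈ four t a b, ∀ z ∈ X0, w * z * w⁻¹ ∈ X0 := by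
    rintro w hw _ ⟨z, hz, rfl⟩
    exact ⟨⟨w, hVW hw⟩ * z * ⟨w, hVW hw⟩⁻¹, hXn.conj_mem _ hz _, rfl⟩
  have key : ∀ w ∈ four t a b, w ≠ 1 → X0 ⊓ Subgroup.centralizer ({w} : Set G) = X0 ⊓ P := by
    intro w hw w1
    refine le_antisymm ?_ ?_
    · rintro _ ⟨⟨z, hz, rfl⟩, hzw⟩
      exact ⟨⟨z, hz, rfl⟩, L.odd_mem H T hk (hPV z w hw w1 (Subgroup.mem_centralizer_singleton_iff.mp hzw))
        (hX0odd.of_dvd_nat (Subgroup.orderOf_dvd_natCard X0 ⟨z, hz, rfl⟩))⟩
    · rintro z ⟨hz, hzP⟩
      exact ⟨hz, Subgroup.mem_centralizer_singleton_iff.mpr (L.comm_four H T hk hw z hzP).symm⟩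
  have hkey : X0 ⊓ Subgroup.centralizer (four t a b : Set G) = X0 ⊓ P := by
    refine le_antisymm ?_ ?_
    · rw [← key t (self_mem_four H T) T.ne_one]
      exact inf_le_inf_left _ (Subgroup.centralizer_le (Set.singleton_subset_iff.mpr (self_mem_four H T)))
    · rintro z ⟨hz, hzP⟩
      exact ⟨hz, Subgroup.mem_centralizer_iff.mpr fun w hw => L.comm_four H T hk hw z hzP⟩
  have hform := four_formula hX0odd T.sq (four_sq H T hv) (four_comm H T (self_mem_four H T) hv) T.ne_one v1
    (Ne.symm vt) (hnorm t (self_mem_four H T)) (hnorm v hv) hV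
  rw [hkey, key t (self_mem_four H T) T.ne_one, key v hv v1, key (t * v) htv htv1] at hform
  have hc : Nat.card X0 = Nat.card ↥(X0 ⊓ P) :=
    Nat.eq_of_mul_eq_mul_right (pow_pos Nat.card_pos 2) (by rw [hform]; ring)
  exact (Subgroup.eq_of_le_of_card_ge inf_le_left hc.le).ge.trans inf_le_right
/-- A subgroup of the centraliser of an element of the lift normalises the four group or contains a perfect
subgroup through it. -/
theorem RegLift.centralizer_cases {x₀ : G} (hx₀ : x₀ ∈ P) (hx₀1 : x₀ ≠ 1) (W : Subgroup G) (hPW : P ≤ W)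
    (hVW : four t a b ≤ W) (hWx : W ≤ Subgroup.centralizer ({x₀} : Set G)) :
    (∀ g ∈ W, g ∈ Subgroup.normalizer (four t a b : Set G)) ∨
      ∃ R : Subgroup G, Group.IsPerfect R ∧ R ≤ W ∧ four t a b ≤ R := by
  classical
  haveI : Fact (Nat.Prime 2) := ⟨Nat.prime_two⟩
  set V' := (four t a b).subgroupOf W with hV'
  have hV4 : Nat.card V' = 4 := by rw [Nat.card_congr (Subgroup.subgroupOfEquivOfLe hVW).toEquiv, card_four H T]
  have h8 : ¬ 8 ∣ Nat.card ↥W := fun h => L.not_eight H T hk hx₀ hx₀1 (h.trans (Subgroup.card_dvd_of_le hWx))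
  have hPV : ∀ (g : ↥W) (v : G), v ∈ four t a b → v ≠ 1 → (g : G) * v = v * g → InPV P t a b (g : G) :=
    fun g v hv v1 h => L.cent_four H T hk hx₀ hx₀1 hv v1 h (Subgroup.mem_centralizer_singleton_iff.mp (hWx g.2))
  obtain ⟨n, hn⟩ := CfsgLib.GW.exists_perfect_derived ↥W
  haveI : Group.IsPerfect ↥(derivedSeries ↥W n) := hn
  haveI hDn : (derivedSeries ↥W n).Normal := derivedSeries_normal _ n
  by_cases hfull : V' ≤ derivedSeries ↥W n
  · right
    refine ⟨(derivedSeries ↥W n).map W.subtype, ?_, Subgroup.map_subtype_le _, fun v hv => ?_⟩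
    · exact Group.IsPerfect.ofSurjective
        (f := ((derivedSeries ↥W n).equivMapOfInjective W.subtype W.subtype_injective).toMonoidHom)
        ((derivedSeries ↥W n).equivMapOfInjective W.subtype W.subtype_injective).surjective
    · exact ⟨⟨v, hVW hv⟩, hfull (show (⟨v, hVW hv⟩ : ↥W) ∈ V' from hv), rfl⟩
  left
  -- the perfect residual meets the four group trivially
  have htriv : ∀ u ∈ V', u ∈ derivedSeries ↥W n → u = 1 := by
    intro u hu huD
    by_contra u1
    obtain ⟨S⟩ : Nonempty (Sylow 2 ↥(derivedSeries ↥W n)) := inferInstance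
    have hSp : IsPGroup 2 ((S : Subgroup ↥(derivedSeries ↥W n)).map (derivedSeries ↥W n).subtype) := S.2.map _
    obtain ⟨g, hg⟩ := exists_conj_le hV4 h8 hSp
    have hle : Nat.card (S : Subgroup ↥(derivedSeries ↥W n)) ≤ 2 := by
      have hlt : Nat.card ↥(V' ⊓ derivedSeries ↥W n) < 4 := by
        rw [← hV4]
        refine lt_of_le_of_ne (Subgroup.card_le_of_le inf_le_left) fun e => hfull ?_
        exact (Subgroup.eq_of_le_of_card_ge inf_le_left e.ge).ge.trans inf_le_right
      have hdvd : Nat.card ↥(V' ⊓ derivedSeries ↥W n) ∣ 4 := hV4 ▸ Subgroup.card_dvd_of_le inf_le_left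
      have hle2 : Nat.card ↥(V' ⊓ derivedSeries ↥W n) ≤ 2 := by
        by_contra h
        have h3 : Nat.card ↥(V' ⊓ derivedSeries ↥W n) = 3 := by omega
        rw [h3] at hdvd
        omega
      refine le_trans ?_ hle2
      refine Nat.card_le_card_of_injective
        (fun s => (⟨g * (s : ↥(derivedSeries ↥W n)) * g⁻¹, hg _ ⟨_, s.2, rfl⟩, hDn.conj_mem _ (s : ↥(derivedSeries ↥W n)).2 g⟩ :
          ↥(V' ⊓ derivedSeries ↥W n))) fun s s' e => ?_
      exact Subtype.ext (Subtype.ext (mul_left_cancel (mul_right_cancel (congrArg Subtype.val e))))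
    have hge : 2 ^ 1 ∣ Nat.card (S : Subgroup ↥(derivedSeries ↥W n)) := by
      refine S.pow_dvd_card_of_pow_dvd_card ?_
      have h2 : orderOf u = 2 := orderOf_eq_prime (by rw [pow_two]; exact Subtype.ext (four_sq H T hu)) u1
      simpa [h2] using Subgroup.orderOf_dvd_natCard _ huD
    refine perfect_not_two S (le_antisymm hle ?_)
    exact Nat.le_of_dvd Nat.card_pos (by simpa using hge)
  -- the first term meeting it trivially
  have hex : ∃ i, ∀ u ∈ V', u ∈ derivedSeries ↥W i → u = 1 := ⟨n, htriv⟩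
  obtain ⟨i, hi, hmin⟩ : ∃ i, (∀ u ∈ V', u ∈ derivedSeries ↥W i → u = 1) ∧
      ∀ i' < i, ¬ ∀ u ∈ V', u ∈ derivedSeries ↥W i' → u = 1 :=
    ⟨Nat.find hex, Nat.find_spec hex, fun i' h => Nat.find_min hex h⟩
  obtain ⟨i', rfl⟩ : ∃ i', i = i' + 1 := by
    refine ⟨i - 1, ?_⟩
    rcases Nat.eq_zero_or_pos i with rfl | h
    · exfalso
      refine T.ne_one (congrArg Subtype.val (hi ⟨t, hVW (self_mem_four H T)⟩ (self_mem_four H T) ?_))
      rw [derivedSeries_zero]; trivial
    · omega
  set X := derivedSeries ↥W (i' + 1) with hX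
  haveI hXn : X.Normal := derivedSeries_normal _ _
  have hXodd : Odd (Nat.card X) := by
    refine Nat.not_even_iff_odd.mp fun h => ?_
    obtain ⟨s, hs⟩ := exists_prime_orderOf_dvd_card' 2 (even_iff_two_dvd.mp h)
    have hs' : orderOf (s : ↥W) = 2 := by rwa [Subgroup.orderOf_coe]
    obtain ⟨g, hg⟩ := exists_conj_le hV4 h8 (S := Subgroup.zpowers (s : ↥W))
      (IsPGroup.of_card (n := 1) (by rw [Nat.card_zpowers, hs', pow_one]))
    have := hi _ (hg _ (Subgroup.mem_zpowers _)) (hXn.conj_mem _ s.2 g)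
    rw [conj_eq_one_iff] at this
    rw [this, orderOf_one] at hs'
    omega
  set X0 := X.map W.subtype with hX0
  have hX0odd : Odd (Nat.card X0) := by rw [hX0, Subgroup.card_map_of_injective W.subtype_injective]; exact hXodd
  have hX0P : X0 ≤ P := L.odd_normal_le H T hk hx₀ hx₀1 W hVW hWx X hXodd
  -- the previous term consists of products of the lift with the four group
  obtain ⟨u, hu, huD, u1⟩ : ∃ u ∈ V', u ∈ derivedSeries ↥W i' ∧ u ≠ 1 := by
    by_contra h
    push Not at h
    exact hmin i' (Nat.lt_succ_self i') fun u hu huD => h u hu huD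
  have hu0 : (u : G) ∈ four t a b := hu
  have hD : ∀ z ∈ derivedSeries ↥W i', InPV P t a b (z : G) := by
    intro z hz
    refine hPV z u hu (fun e => u1 (Subtype.ext e)) ?_
    have hmem : ⁅z, u⁆ ∈ X := by
      rw [hX, derivedSeries_succ]
      exact Subgroup.commutator_mem_commutator hz huD
    set w : G := (z : G) * u * (z : G)⁻¹ * (u : G)⁻¹ with hw
    have hwP : w ∈ P := hX0P ⟨⁅z, u⁆, hmem, by simp [commutatorElement_def, hw]⟩
    have e1 : (z : G) * u * (z : G)⁻¹ = w * u := by rw [hw]; group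
    have hu2 : (u : G) * u = 1 := four_sq H T hu0
    have hsq : w * w = 1 := by
      have h2 : (z : G) * u * (z : G)⁻¹ * ((z : G) * u * (z : G)⁻¹) = 1 := by
        rw [conj_mul, hu2, mul_one, mul_inv_cancel]
      rw [e1, mul_assoc w, ← mul_assoc (u : G) w, L.comm_four H T hk hu0 w hwP, mul_assoc w (u : G), hu2,
        mul_one] at h2
      exact h2
    have hw1 : w = 1 := by
      by_contra hne
      have h2 : orderOf w = 2 := orderOf_eq_prime (by rw [pow_two, hsq]) hne
      have hd : 2 ∣ p ^ j := h2 ▸ L.card ▸ Subgroup.orderOf_dvd_natCard P hwP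
      exact Nat.not_even_iff_odd.mpr L.odd (even_iff_two_dvd.mpr (Nat.prime_two.dvd_of_dvd_pow hd))
    rw [hw1, one_mul] at e1
    exact mul_inv_eq_iff_eq_mul.mp e1
  haveI hDn' : (derivedSeries ↥W i').Normal := derivedSeries_normal _ _
  have hinv : ∀ v ∈ V', v ∈ derivedSeries ↥W i' → ∀ g : ↥W, g * v * g⁻¹ ∈ V' := by
    intro v hv hvD g
    refine L.two_mem H T hk (hD _ (hDn'.conj_mem _ hvD g)) (i := 1) ?_
    have : (g * v * g⁻¹) * (g * v * g⁻¹) = 1 := by
      rw [conj_mul, show v * v = 1 from Subtype.ext (four_sq H T hv), mul_one, mul_inv_cancel]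
    rw [pow_one, pow_two]
    exact congrArg Subtype.val this
  intro g hg
  refine mem_normalizer_of_le fun v hv => ?_
  let gW : ↥W := ⟨g, hg⟩
  by_cases hall : ∀ v ∈ V', v ∈ derivedSeries ↥W i'
  · exact hinv ⟨v, hVW hv⟩ hv (hall _ hv) gW
  · -- the whole group centralises `u`
    have hgu : gW * u * gW⁻¹ = u := by
      by_contra hne
      refine hall fun w hw => ?_
      have h1 := hinv u hu huD gW
      have h2 : gW * u * gW⁻¹ ∈ derivedSeries ↥W i' := hDn'.conj_mem _ huD gW
      have hc1 : gW * u * gW⁻¹ ≠ 1 := fun e => u1 (conj_eq_one_iff.mp e)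
      have hu' : (u : G) ≠ 1 := fun e => u1 (Subtype.ext e)
      have hlist := four_list (invIn_four H T hu0 hu') H
        (v := ((gW * u * gW⁻¹ : ↥W) : G)) (by rw [four_eq H T hu0 hu']; exact h1)
        (fun e => hc1 (Subtype.ext e)) (fun e => hne (Subtype.ext e))
      have hw' : (w : G) ∈ four (u : G) a b := by rw [four_eq H T hu0 hu']; exact hw
      rcases (hlist (w : G)).mp hw' with e | e | e | e
      · rw [show w = 1 from Subtype.ext e]; exact one_mem _
      · rw [show w = u from Subtype.ext e]; exact huD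
      · rw [show w = gW * u * gW⁻¹ from Subtype.ext e]; exact h2
      · rw [show w = u * (gW * u * gW⁻¹) from Subtype.ext e]; exact mul_mem huD h2
    obtain ⟨y, hy, h, hh, e⟩ := hPV gW u hu (fun e => u1 (Subtype.ext e))
      (congrArg Subtype.val (mul_inv_eq_iff_eq_mul.mp hgu))
    rw [show g = y * h from e, mul_inv_rev, show y * h * v * (h⁻¹ * y⁻¹) = y * (h * v * h⁻¹) * y⁻¹ by group,
      ← L.comm_four H T hk (mul_mem (mul_mem hh hv) (inv_mem hh)) y hy, mul_inv_cancel_right]
    exact mul_mem (mul_mem hh hv) (inv_mem hh)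

/-- The order of the normaliser of the lift. -/
theorem RegLift.card_normalizer :
    ∃ e : ℕ, Nat.card ↥(Subgroup.normalizer (P : Set G)) = e * (12 * (p ^ j * (p ^ j - 1))) ∧ (e = 1 ∨ e = 5) := by
  classical
  set W := Subgroup.centralizer (P : Set G) with hW
  set N := Subgroup.normalizer (P : Set G) with hN
  set NV := Subgroup.normalizer (four t a b : Set G) with hNV
  have hPW : P ≤ W := fun x hx => Subgroup.mem_centralizer_iff.mpr fun y hy => L.comm y hy x hx
  have hVW : four t a b ≤ W := fun v hv => Subgroup.mem_centralizer_iff.mpr fun y hy =>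
    (L.comm_four H T hk hv y hy).symm
  obtain ⟨x₀, hx₀, hx₀b⟩ := L.trans a b T.mem.1 T.mem.2
  have hx₀1 : x₀ ≠ 1 := fun e => H.ne (by rw [← hx₀b, e, one_smul])
  have hWx : W ≤ Subgroup.centralizer ({x₀} : Set G) := fun g hg =>
    Subgroup.mem_centralizer_singleton_iff.mpr (Subgroup.mem_centralizer_iff.mp hg x₀ hx₀).symm
  have hWN : W ≤ N := Subgroup.centralizer_le_normalizer _
  have hNVN : NV ≤ N := fun g hg => L.norm_le H T hk hg
  have hcardNV : Nat.card NV = 12 * (p ^ j * (p ^ j - 1)) := by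
    rw [hNV, (card_norm H T).1, hk, L.fix_card]; ring
  let Ws := W.subgroupOf N
  have hconj : ∀ g ∈ N, ∀ x ∈ W, g * x * g⁻¹ ∈ W := by
    intro g hg x hx
    refine Subgroup.mem_centralizer_iff.mpr fun y hy => ?_
    have h := Subgroup.mem_centralizer_iff.mp hx _ ((Subgroup.mem_normalizer_iff''.mp hg y).mp hy)
    calc y * (g * x * g⁻¹) = g * (g⁻¹ * y * g * x) * g⁻¹ := by group
      _ = g * (x * (g⁻¹ * y * g)) * g⁻¹ := by rw [h]
      _ = g * x * g⁻¹ * y := by group
  haveI : Ws.Normal := ⟨fun x hx g => hconj g g.2 x hx⟩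
  have hfr : ∀ g : ↥N, ∃ l ∈ Ws, l * g ∈ NV.subgroupOf N := by
    intro g
    have hV4 : Nat.card ↥((four t a b).subgroupOf W) = 4 := by
      rw [Nat.card_congr (Subgroup.subgroupOfEquivOfLe hVW).toEquiv, card_four H T]
    have hle : (four t a b).map (MulAut.conj (g : G)).toMonoidHom ≤ W := by
      rintro _ ⟨v, hv, rfl⟩
      exact hconj _ g.2 v (hVW hv)
    obtain ⟨w, hw⟩ := exists_conj_le hV4 (fun h => L.not_eight H T hk hx₀ hx₀1 (h.trans (Subgroup.card_dvd_of_le hWx)))
      (S := ((four t a b).map (MulAut.conj (g : G)).toMonoidHom).subgroupOf W)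
      (IsPGroup.of_card (n := 2) (by rw [Nat.card_congr (Subgroup.subgroupOfEquivOfLe hle).toEquiv,
        Subgroup.card_map_of_injective (MulAut.conj (g : G)).injective, card_four H T]; rfl))
    refine ⟨⟨w, hWN w.2⟩, w.2, mem_normalizer_of_le fun v hv => ?_⟩
    have h := hw ⟨(g : G) * v * (g : G)⁻¹, hle ⟨v, hv, rfl⟩⟩ ⟨v, hv, rfl⟩
    show (w : G) * g * v * ((w : G) * g)⁻¹ ∈ four t a b
    rw [show (w : G) * g * v * ((w : G) * g)⁻¹ = (w : G) * ((g : G) * v * (g : G)⁻¹) * (w : G)⁻¹ by group]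
    exact h
  have hcount := card_supplement Ws (NV.subgroupOf N) hfr
  rw [Nat.card_congr (Subgroup.subgroupOfEquivOfLe hNVN).toEquiv] at hcount
  have hinf : Nat.card ↥(Ws ⊓ NV.subgroupOf N) = Nat.card ↥(W ⊓ NV) :=
    Nat.card_congr
      { toFun := fun g => ⟨(g.1 : G), g.2.1, g.2.2⟩
        invFun := fun g => ⟨⟨g.1, hWN g.2.1⟩, g.2.1, g.2.2⟩
        left_inv := fun _ => rfl
        right_inv := fun _ => rfl }
  have hWs : Nat.card Ws = Nat.card W := Nat.card_congr (Subgroup.subgroupOfEquivOfLe hWN).toEquiv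
  have hN' : Nat.card N * Nat.card ↥(W ⊓ NV) = Nat.card W * Nat.card NV := by
    rw [← Subgroup.card_mul_index Ws, hWs, hcount, hinf]; ring
  rcases L.centralizer_cases H T hk hx₀ hx₀1 W hPW hVW hWx with h | ⟨R, hR, hRW, hVR⟩
  · refine ⟨1, ?_, Or.inl rfl⟩
    rw [show W ⊓ NV = W from inf_eq_left.mpr h, mul_comm (Nat.card W)] at hN'
    rw [one_mul, ← hcardNV]
    exact Nat.eq_of_mul_eq_mul_right Nat.card_pos hN'
  · refine ⟨5, ?_, Or.inr rfl⟩
    haveI := hR
    obtain ⟨h1, h2⟩ := L.card_of_perfect H T hk hx₀ hx₀1 W hPW hVW hWx R hRW hVR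
    rw [h1, h2, hcardNV] at hN'
    refine Nat.eq_of_mul_eq_mul_right (Nat.mul_pos (show 0 < 12 by norm_num) (pow_pos L.prime.pos j)) ?_
    rw [hN']; ring

/-- The centraliser of an element of the lift normalises it. -/
theorem RegLift.cent_le_normalizer {x : G} (hx : x ∈ P) (x1 : x ≠ 1) :
    Subgroup.centralizer ({x} : Set G) ≤ Subgroup.normalizer (P : Set G) := by
  classical
  set M := Subgroup.centralizer ({x} : Set G) with hM
  have hPM : P ≤ M := fun y hy => Subgroup.mem_centralizer_singleton_iff.mpr (L.comm y hy x hx)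
  have hVM : four t a b ≤ M := fun v hv => Subgroup.mem_centralizer_singleton_iff.mpr (L.comm_four H T hk hv x hx)
  rcases L.centralizer_cases H T hk hx x1 M hPM hVM le_rfl with h | ⟨R, hR, hRM, hVR⟩
  · exact fun g hg => L.norm_le H T hk (h g hg)
  haveI := hR
  obtain ⟨h60, h12⟩ := L.card_of_perfect H T hk hx x1 M hPM hVM le_rfl R hRM hVR
  set M1 := (Subgroup.normalizer (P : Set G)).subgroupOf M with hM1
  have hNV : (Subgroup.normalizer (four t a b : Set G)).subgroupOf M ≤ M1 := fun g hg => L.norm_le H T hk hg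
  have hNVc : Nat.card ↥((Subgroup.normalizer (four t a b : Set G)).subgroupOf M) = 12 * p ^ j := by
    rw [← h12]
    exact Nat.card_congr
      { toFun := fun g => ⟨(g.1 : G), g.1.2, g.2⟩
        invFun := fun g => ⟨⟨g.1, g.2.1⟩, g.2.2⟩
        left_inv := fun _ => rfl
        right_inv := fun _ => rfl }
  have hidx : M1.index ∣ 5 := by
    have h1 := Subgroup.card_mul_index M1
    obtain ⟨i, hi⟩ := Subgroup.card_dvd_of_le hNV
    rw [hi, hNVc, h60] at h1
    refine ⟨i, (Nat.eq_of_mul_eq_mul_left (Nat.mul_pos (show 0 < 12 by norm_num) (pow_pos L.prime.pos j)) ?_)⟩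
    calc 12 * p ^ j * 5 = 60 * p ^ j := by ring
      _ = _ := by rw [← h1]; ring
  suffices h : M1 = ⊤ by
    intro g hg
    exact Subgroup.mem_subgroupOf.mp (h ▸ Subgroup.mem_top (⟨g, hg⟩ : ↥M))
  rcases (Nat.dvd_prime Nat.prime_five).mp hidx with h | h
  · exact Subgroup.index_eq_one.mp h
  exfalso
  set K := M1.normalCore with hK
  haveI hKn : K.Normal := Subgroup.normalCore_normal M1
  have hK120 : K.index ∣ 120 := by
    rw [hK, Subgroup.normalCore_eq_ker, Subgroup.index_ker]
    refine (Subgroup.card_subgroup_dvd_card _).trans ?_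
    rw [Nat.card_perm, show Nat.card (↥M ⧸ M1) = 5 from h]
    rfl
  set V' := (four t a b).subgroupOf M with hV'
  have hV4 : Nat.card V' = 4 := by rw [Nat.card_congr (Subgroup.subgroupOfEquivOfLe hVM).toEquiv, card_four H T]
  have hsq : ∀ v ∈ V', v * v = 1 := fun v hv => Subtype.ext (four_sq H T hv)
  have h8 : ¬ 8 ∣ Nat.card ↥M := L.not_eight H T hk hx x1
  let R' := R.subgroupOf M
  haveI : Group.IsPerfect ↥R' :=
    Group.IsPerfect.ofSurjective (f := (Subgroup.subgroupOfEquivOfLe hRM).symm.toMonoidHom)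
      (Subgroup.subgroupOfEquivOfLe hRM).symm.surjective
  obtain ⟨g₀, hg₀, hmove⟩ := perfect_moves hV4 hsq h8 R' (fun v hv => hVR hv)
  by_cases hfull : V' ≤ K
  · -- the whole group would normalise the lift
    refine absurd ?_ (show M1.index ≠ 1 by omega)
    refine Subgroup.index_eq_one.mpr (top_le_iff.mp fun g _ => ?_)
    have hle : V'.map (MulAut.conj g).toMonoidHom ≤ K := by
      rintro _ ⟨v, hv, rfl⟩
      exact hKn.conj_mem v (hfull hv) g
    obtain ⟨k, hk'⟩ := StabAlt5.exists_conj_le (M := ↥K) (V := V'.subgroupOf K) (by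
        rw [Nat.card_congr (Subgroup.subgroupOfEquivOfLe hfull).toEquiv, hV4])
      (fun h => h8 (h.trans (Subgroup.card_subgroup_dvd_card K)))
      (S := (V'.map (MulAut.conj g).toMonoidHom).subgroupOf K)
      (IsPGroup.of_card (n := 2) (by rw [Nat.card_congr (Subgroup.subgroupOfEquivOfLe hle).toEquiv,
        Subgroup.card_map_of_injective (MulAut.conj g).injective, hV4]; rfl))
    have hmem : (k : ↥M) * g ∈ M1 := hNV (Subgroup.mem_subgroupOf.mpr (mem_normalizer_of_le fun v hv => by
      have := hk' ⟨g * ⟨v, hVM hv⟩ * g⁻¹, hle ⟨_, hv, rfl⟩⟩ ⟨_, hv, rfl⟩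
      have h2 : ((k : ↥M) : G) * ((g : G) * v * (g : G)⁻¹) * ((k : ↥M) : G)⁻¹ ∈ four t a b := this
      show ((k : ↥M) : G) * g * v * (((k : ↥M) : G) * g)⁻¹ ∈ four t a b
      rw [show ((k : ↥M) : G) * g * v * (((k : ↥M) : G) * g)⁻¹ =
        ((k : ↥M) : G) * ((g : G) * v * (g : G)⁻¹) * ((k : ↥M) : G)⁻¹ by group]
      exact h2))
    have := mul_mem (inv_mem (Subgroup.normalCore_le M1 k.2)) hmem
    rwa [inv_mul_cancel_left] at this
  have hKV : ∀ u ∈ V', u ∈ K → u = 1 := by
    intro u hu huK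
    by_contra u1
    obtain ⟨-, hcyc⟩ := four_cycle hV4 hsq h8 hg₀ hmove hu u1
    refine hfull fun v hv => ?_
    by_cases v1 : v = 1
    · rw [v1]; exact one_mem _
    rcases hcyc v hv v1 with rfl | e | e
    · exact huK
    · exact e ▸ hKn.conj_mem u huK g₀
    · exact e ▸ hKn.conj_mem u huK (g₀ * g₀)
  haveI : Fact (Nat.Prime 2) := ⟨Nat.prime_two⟩
  have hKodd : Odd (Nat.card K) := by
    refine Nat.not_even_iff_odd.mp fun h => ?_
    obtain ⟨s, hs⟩ := exists_prime_orderOf_dvd_card' 2 (even_iff_two_dvd.mp h)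
    have hs' : orderOf (s : ↥M) = 2 := by rwa [Subgroup.orderOf_coe]
    obtain ⟨g, hg⟩ := StabAlt5.exists_conj_le hV4 h8 (S := Subgroup.zpowers (s : ↥M))
      (IsPGroup.of_card (n := 1) (by rw [Nat.card_zpowers, hs', pow_one]))
    have := hKV _ (hg _ (Subgroup.mem_zpowers _)) (hKn.conj_mem _ s.2 g)
    rw [conj_eq_one_iff] at this
    rw [this, orderOf_one] at hs'
    omega
  set K0 := K.map M.subtype with hK0
  have hK0P : K0 ≤ P := L.odd_normal_le H T hk hx x1 M hVM le_rfl K hKodd
  have hKm : p ^ j ∣ Nat.card K := by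
    have h1 : p ^ j * 60 ∣ Nat.card K * 120 := by
      rw [show p ^ j * 60 = Nat.card K * K.index by rw [Subgroup.card_mul_index, h60, mul_comm]]
      exact Nat.mul_dvd_mul_left _ hK120
    rw [show Nat.card K * 120 = Nat.card K * 2 * 60 by ring] at h1
    exact (Nat.Coprime.pow_left j ((L.prime.coprime_iff_not_dvd).mpr fun h2 => by
      have e := (Nat.prime_dvd_prime_iff_eq L.prime Nat.prime_two).mp h2
      have ho := L.odd
      rw [e] at ho
      exact absurd ho (by decide))).dvd_of_dvd_mul_right (Nat.dvd_of_mul_dvd_mul_right (by norm_num) h1)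
  have heq : K0 = P := Subgroup.eq_of_le_of_card_ge hK0P (by
    rw [L.card, hK0, Subgroup.card_map_of_injective M.subtype_injective]
    exact Nat.le_of_dvd Nat.card_pos hKm)
  refine absurd ?_ (show M1.index ≠ 1 by omega)
  refine Subgroup.index_eq_one.mpr (top_le_iff.mp fun g _ => Subgroup.mem_subgroupOf.mpr ?_)
  refine mem_normalizer_of_le fun z hz => ?_
  rw [← heq] at hz ⊢
  obtain ⟨z, hz, rfl⟩ := hz
  exact ⟨g * z * g⁻¹, hKn.conj_mem z hz g, rfl⟩

/-- Distinct conjugates of the lift meet trivially. -/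
theorem RegLift.inter_trivial {g : G} (hg : g ∉ Subgroup.normalizer (P : Set G)) {x : G} (hx : x ∈ P)
    (hx2 : g⁻¹ * x * g ∈ P) : x = 1 := by
  by_contra x1
  apply hg
  set M := Subgroup.centralizer ({x} : Set G) with hM
  have hVM : four t a b ≤ M := fun v hv => Subgroup.mem_centralizer_singleton_iff.mpr (L.comm_four H T hk hv x hx)
  have hle : (four t a b).map (MulAut.conj g).toMonoidHom ≤ M := by
    rintro _ ⟨v, hv, rfl⟩
    refine Subgroup.mem_centralizer_singleton_iff.mpr ?_
    show g * v * g⁻¹ * x = x * (g * v * g⁻¹)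
    calc g * v * g⁻¹ * x = g * (v * (g⁻¹ * x * g)) * g⁻¹ := by group
      _ = g * ((g⁻¹ * x * g) * v) * g⁻¹ := by rw [L.comm_four H T hk hv _ hx2]
      _ = x * (g * v * g⁻¹) := by group
  obtain ⟨w, hw⟩ := StabAlt5.exists_conj_le (M := ↥M) (V := (four t a b).subgroupOf M) (by
      rw [Nat.card_congr (Subgroup.subgroupOfEquivOfLe hVM).toEquiv, card_four H T]) (L.not_eight H T hk hx x1)
    (S := ((four t a b).map (MulAut.conj g).toMonoidHom).subgroupOf M)
    (IsPGroup.of_card (n := 2) (by rw [Nat.card_congr (Subgroup.subgroupOfEquivOfLe hle).toEquiv,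
      Subgroup.card_map_of_injective (MulAut.conj g).injective, card_four H T]; rfl))
  have hwg : (w : G) * g ∈ Subgroup.normalizer (P : Set G) := L.norm_le H T hk (mem_normalizer_of_le fun v hv => by
    have h := hw ⟨g * v * g⁻¹, hle ⟨v, hv, rfl⟩⟩ ⟨v, hv, rfl⟩
    rw [show (w : G) * g * v * ((w : G) * g)⁻¹ = (w : G) * (g * v * g⁻¹) * (w : G)⁻¹ by group]
    exact h)
  have := mul_mem (inv_mem (L.cent_le_normalizer H T hk hx x1 w.2)) hwg
  rwa [inv_mul_cancel_left] at this

/-- The degree in the symmetric case with trivial action of the four group. -/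
theorem RegLift.degree_fifteen (h6 : swapNum t a b = 6) :
    Nat.card Ω = 15 ∧ Nat.card G = 2520 ∧ (fixedBy Ω t).ncard = 3 := by
  classical
  haveI : Fact p.Prime := ⟨L.prime⟩
  obtain ⟨hn, hG⟩ := order_six H T h6
  rw [L.fix_card] at hn hG
  obtain ⟨hnd, h3d⟩ := order_pow H T h6 L.prime L.odd L.pos L.fix_card
  have hp2 : p ≠ 2 := fun e => by have h := L.odd; rw [e] at h; exact absurd h (by decide)
  set m := p ^ j with hm
  have hm0 : 0 < m := pow_pos L.prime.pos j
  have hpm : p ∣ m := dvd_pow_self p (by have := L.pos; omega)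
  have hm2 : 2 ≤ m := by have := two_le_fix H T; rw [L.fix_card] at this; exact this
  obtain ⟨e, hNc, he⟩ := L.card_normalizer H T hk
  set N := Subgroup.normalizer (P : Set G) with hN
  set i := N.index with hi
  have h4 : e * i = (2 * m - 1) * (2 * m + 1) := by
    refine Nat.eq_of_mul_eq_mul_left
      (Nat.mul_pos (show 0 < 12 by norm_num) (Nat.mul_pos hm0 (show 0 < m - 1 by omega))) ?_
    calc 12 * (m * (m - 1)) * (e * i) = Nat.card N * i := by rw [hNc]; ring
      _ = 12 * m * ((2 * m - 1) * ((m - 1) * (2 * m + 1))) := by rw [Subgroup.card_mul_index, hG]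
      _ = _ := by ring
  have h4' : e * i + 1 = 4 * (m * m) := by
    obtain ⟨c, hc⟩ : ∃ c, m = c + 1 := ⟨m - 1, by omega⟩
    rw [h4, hc, show 2 * (c + 1) - 1 = 2 * c + 1 by omega]; ring
  by_cases h3 : p = 3
  swap
  · exfalso
    have hfac : (Nat.card G).factorization p = j := by
      have h1 : j ≤ (Nat.card G).factorization p := (L.prime.pow_dvd_iff_le_factorization Nat.card_pos.ne').mp
        (L.card ▸ Subgroup.card_subgroup_dvd_card P)
      have h2 : ¬ j + 1 ≤ (Nat.card G).factorization p := fun h =>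
        hnd h3 ((L.prime.pow_dvd_iff_le_factorization Nat.card_pos.ne').mpr h)
      omega
    let SP : Sylow p G := Sylow.ofCard P (by rw [L.card, hfac])
    have hcount : Nat.card (Sylow p G) = i := by
      rw [Sylow.card_eq_index_normalizer SP]
      rfl
    have hmod := card_sylow_modEq_one p G
    rw [hcount] at hmod
    have hmodz : ((i : ℕ) : ZMod p) = 1 := by
      simpa using (ZMod.natCast_eq_natCast_iff' i 1 p).mpr hmod
    have hmz : ((m : ℕ) : ZMod p) = 0 := (ZMod.natCast_eq_zero_iff _ _).mpr hpm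
    have h := congrArg (fun n : ℕ => (n : ZMod p)) h4'
    push_cast at h
    rw [hmodz, hmz] at h
    have hd : p ∣ 2 * 3 := by
      rcases he with rfl | rfl
      · have h12 : ((2 : ℕ) : ZMod p) = 0 := by push_cast at h ⊢; linear_combination h
        exact ((ZMod.natCast_eq_zero_iff _ _).mp h12).trans ⟨3, rfl⟩
      · have h12 : ((6 : ℕ) : ZMod p) = 0 := by push_cast at h ⊢; linear_combination h
        exact (ZMod.natCast_eq_zero_iff _ _).mp h12
    rcases L.prime.dvd_mul.mp hd with h' | h'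
    · exact hp2 ((Nat.prime_dvd_prime_iff_eq L.prime Nat.prime_two).mp h')
    · exact h3 ((Nat.prime_dvd_prime_iff_eq L.prime Nat.prime_three).mp h')
  subst h3
  by_cases hj : j = 1
  · subst hj
    rw [hm] at hn hG
    norm_num at hn hG
    exact ⟨hn, hG, by rw [L.fix_card]; norm_num⟩
  exfalso
  obtain ⟨-, hd2⟩ := h3d rfl
  -- the orbits of the lift on the other conjugates
  let Y : SubMulAction ↥P (G ⧸ N) :=
    { carrier := {q | q ≠ QuotientGroup.mk (1 : G)}
      smul_mem' := fun r q hq h => hq (by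
        have hfix : r⁻¹ • (QuotientGroup.mk (1 : G) : G ⧸ N) = QuotientGroup.mk (1 : G) := by
          show (QuotientGroup.mk (((r⁻¹ : ↥P) : G) * 1) : G ⧸ N) = _
          rw [QuotientGroup.eq, mul_one, mul_one]
          exact inv_mem (Subgroup.le_normalizer (r⁻¹).2)
        rw [← inv_smul_smul r q, h, hfix]) }
  have hYc : Nat.card Y + 1 = i := by
    show Nat.card ↥({q : G ⧸ N | q ≠ QuotientGroup.mk (1 : G)}) + 1 = i
    rw [Nat.card_coe_set_eq, show {q : G ⧸ N | q ≠ QuotientGroup.mk (1 : G)} =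
      Set.univ \ {QuotientGroup.mk (1 : G)} from Set.ext fun q => by simp,
      Set.ncard_sdiff_singleton_of_mem (Set.mem_univ _), Set.ncard_univ]
    have hpos : 0 < Nat.card (G ⧸ N) := Nat.card_pos
    rw [show i = Nat.card (G ⧸ N) from rfl]
    omega
  have horb : ∀ y : Y, 3 ^ (j - 1) ∣ Nat.card (MulAction.orbit ↥P y) := by
    rintro ⟨q, hq⟩
    obtain ⟨g, rfl⟩ := QuotientGroup.mk_surjective q
    have hgN : g ∉ N := fun h => hq (show (QuotientGroup.mk g : G ⧸ N) = QuotientGroup.mk 1 by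
      rw [QuotientGroup.eq, mul_one]; exact inv_mem h)
    set S0 := MulAction.stabilizer ↥P (⟨QuotientGroup.mk g, hq⟩ : Y) with hS0
    have hmul : Nat.card (MulAction.orbit ↥P (⟨QuotientGroup.mk g, hq⟩ : Y)) * Nat.card S0 = 3 ^ j := by
      rw [← L.card, mul_comm, hS0, Nat.card_congr (MulAction.orbitEquivQuotientStabilizer ↥P _),
        ← Subgroup.index, Subgroup.card_mul_index]
    set Q0 := S0.map P.subtype with hQ0
    have hQ0N : ∀ r ∈ Q0, g⁻¹ * r * g ∈ N := by
      rintro _ ⟨r, hr, rfl⟩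
      have h : (QuotientGroup.mk (((r : ↥P) : G) * g) : G ⧸ N) = QuotientGroup.mk g :=
        congrArg Subtype.val (MulAction.mem_stabilizer_iff.mp hr)
      rw [QuotientGroup.eq] at h
      simpa [mul_assoc] using inv_mem h
    set P2 := P.map (MulAut.conj g).toMonoidHom with hP2
    have hQn : Q0 ≤ Subgroup.normalizer (P2 : Set G) := by
      intro r hr
      refine mem_normalizer_of_le ?_
      rintro _ ⟨z, hz, rfl⟩
      refine ⟨(g⁻¹ * r * g) * z * (g⁻¹ * r * g)⁻¹, (Subgroup.mem_normalizer_iff.mp (hQ0N r hr) z).mp hz, ?_⟩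
      show g * ((g⁻¹ * r * g) * z * (g⁻¹ * r * g)⁻¹) * g⁻¹ = r * (g * z * g⁻¹) * r⁻¹
      group
    have hQp : IsPGroup 3 Q0 := (IsPGroup.of_card L.card : IsPGroup 3 P).to_le (Subgroup.map_subtype_le S0)
    have hsup := hQp.to_sup_of_normal_right' ((IsPGroup.of_card L.card : IsPGroup 3 P).map _) hQn
    obtain ⟨l, hl⟩ := IsPGroup.iff_card.mp hsup
    have hl1 : l ≤ j + 1 := by
      by_contra hlt
      exact hd2 ((Nat.pow_dvd_pow 3 (by omega)).trans (hl ▸ Subgroup.card_subgroup_dvd_card _))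
    have hcount : Nat.card Q0 * m ≤ 3 ^ l := by
      rw [← hl, show m = Nat.card P from L.card.symm]
      have hP2c : Nat.card P2 = Nat.card P := by
        rw [hP2, Subgroup.card_map_of_injective (MulAut.conj g).injective]
      rw [← hP2c, ← Nat.card_prod]
      refine Nat.card_le_card_of_injective
        (fun q : ↥Q0 × ↥P2 => (⟨q.1 * q.2, mul_mem (Subgroup.mem_sup_left q.1.2) (Subgroup.mem_sup_right q.2.2)⟩ :
          ↥(Q0 ⊔ P2))) fun q q' e => ?_
      have e' : (q.1 : G) * q.2 = q'.1 * q'.2 := congrArg Subtype.val e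
      have e2 : (q'.1 : G)⁻¹ * q.1 = q'.2 * (q.2 : G)⁻¹ := by
        rw [inv_mul_eq_iff_eq_mul, ← mul_assoc, ← e', mul_inv_cancel_right]
      have h2 : ((q'.1 : G)⁻¹ * q.1) = 1 := by
        refine L.inter_trivial H T hk hgN (Subgroup.map_subtype_le S0 (mul_mem (inv_mem q'.1.2) q.1.2)) ?_
        obtain ⟨z, hz, hze⟩ : ∃ z ∈ P, g * z * g⁻¹ = (q'.2 : G) * (q.2 : G)⁻¹ := mul_mem q'.2.2 (inv_mem q.2.2)
        rw [e2, ← hze, show g⁻¹ * (g * z * g⁻¹) * g = z by group]
        exact hz
      have h3 : (q.1 : G) = q'.1 := (inv_mul_eq_one.mp h2).symm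
      refine Prod.ext (Subtype.ext h3) (Subtype.ext ?_)
      rw [h3] at e'
      exact mul_left_cancel e'
    obtain ⟨r, -, hr⟩ := (Nat.dvd_prime_pow Nat.prime_three).mp (hmul ▸ dvd_mul_left _ _ : Nat.card S0 ∣ 3 ^ j)
    have hr1 : r ≤ 1 := by
      have h1 : 3 ^ r * m ≤ 3 ^ (j + 1) := by
        rw [← hr, ← Subgroup.card_map_of_injective (f := P.subtype) P.subtype_injective, ← hQ0]
        exact hcount.trans (Nat.pow_le_pow_right (by norm_num) hl1)
      rw [pow_succ, mul_comm _ m, ← hm] at h1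
      have hr9 : 3 ^ r ≤ 3 := Nat.le_of_mul_le_mul_left h1 hm0
      by_contra h
      have h2 : 3 ^ 2 ≤ 3 ^ r := Nat.pow_le_pow_right (by norm_num) (by omega)
      norm_num at h2
      omega
    rw [hr] at hmul
    rcases Nat.le_one_iff_eq_zero_or_eq_one.mp hr1 with rfl | rfl
    · rw [pow_zero, mul_one] at hmul
      rw [hmul]
      exact Nat.pow_dvd_pow 3 (by omega)
    · rw [pow_one] at hmul
      have h3 : 3 ^ j = 3 ^ (j - 1) * 3 := by rw [← pow_succ]; congr 1; have := L.pos; omega
      rw [h3] at hmul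
      rw [Nat.eq_of_mul_eq_mul_right (by norm_num) hmul]
  have hdvd : 3 ^ (j - 1) ∣ Nat.card Y := by
    rw [Nat.card_congr (MulAction.selfEquivSigmaOrbits ↥P Y)]
    haveI := Fintype.ofFinite (MulAction.orbitRel.Quotient ↥P Y)
    rw [Nat.card_sigma]
    exact Finset.dvd_sum fun q _ => horb q.out
  by_cases hj2 : j = 2
  · subst hj2
    rw [hm] at h4'
    norm_num at hdvd h4'
    rcases he with rfl | rfl <;> omega
  have h9 : 9 ∣ Nat.card Y := by
    refine dvd_trans ?_ hdvd
    exact (show (9 : ℕ) = 3 ^ 2 by norm_num) ▸ Nat.pow_dvd_pow 3 (by have := L.pos; omega)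
  obtain ⟨c, hc⟩ : 9 ∣ m := by
    rw [hm]; exact (show (9 : ℕ) = 3 ^ 2 by norm_num) ▸ Nat.pow_dvd_pow 3 (by have := L.pos; omega)
  rw [hc, show 4 * (9 * c * (9 * c)) = 9 * (36 * (c * c)) by ring] at h4'
  rcases he with rfl | rfl <;> omega

end CfsgLib.StabAlt4
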