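import Cfsg.Agent.Lib.StabAlt4.Cases
import Cfsg.Agent.Lib.StabAlt5.Fusion4
import Cfsg.Agent.Lib.SmallSimple.Order2520

/-!
The group of order 2520 on fifteen points is `A₇`.
-/

set_option autoImplicit false
set_option linter.unusedSectionVars false
set_option linter.style.haveILetI false

namespace CfsgLib.StabAlt4

open MulAction CfsgLib.StabAlt5

universe u v

variable {G : Type u} [Group G] [Finite G] {Ω : Type v} [Finite Ω] [MulAction G Ω] [FaithfulSMul G Ω]
variable {a b : Ω} {t : G}

theorem two_transitive_pre (H : Hyp G a b) : IsPreprimitive G Ω :=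
  isPreprimitive_of_is_two_pretransitive (is_two_pretransitive_iff.mpr fun hab hcd => H.two _ _ _ _ hab hcd)

theorem normal_transitive (H : Hyp G a b) (N : Subgroup G) [N.Normal] (hN : N ≠ ⊥) : Nat.card Ω ∣ Nat.card N := by
  haveI := two_transitive_pre H
  have hfne : fixedPoints N Ω ≠ Set.univ := fun h => hN ((Subgroup.eq_bot_iff_forall _).mpr fun n hn =>
    eq_of_smul_eq_smul (α := Ω) fun c => by
      rw [one_smul]; exact (h ▸ Set.mem_univ c : c ∈ fixedPoints N Ω) ⟨n, hn⟩)
  haveI := IsQuasiPreprimitive.isPretransitive_of_normal (G := G) hfne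
  exact (index_stabilizer_of_transitive N a) ▸ Subgroup.index_dvd_card _

/-- In the symmetric case all involutions are conjugate. -/
theorem involution_fix (H : Hyp G a b) (T : InvIn t a b) (h : CaseSix t a b) {x : G} (x2 : x * x = 1) (x1 : x ≠ 1) :
    (fixedBy Ω x).ncard = (fixedBy Ω t).ncard := by
  obtain ⟨c, hc⟩ : ∃ c : Ω, x • c ≠ c := by
    by_contra hh
    push Not at hh
    exact x1 (eq_of_smul_eq_smul (α := Ω) fun c => by rw [hh c, one_smul])
  obtain ⟨k, hkc, hkd⟩ := H.two c (x • c) a b (Ne.symm hc) H.ne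
  have hs : Swaps (k * x * k⁻¹) a b := by
    constructor
    · rw [mul_smul, mul_smul, inv_smul_eq_iff.mpr hkc.symm, hkd]
    · rw [mul_smul, mul_smul, inv_smul_eq_iff.mpr hkd.symm, ← mul_smul x, x2, one_smul, hkc]
  have hx2 : (k * x * k⁻¹) * (k * x * k⁻¹) = 1 := by rw [conj_mul, x2, mul_one, mul_inv_cancel]
  obtain ⟨y, hy, hys⟩ := Set.nonempty_of_ncard_ne_zero (swapNum_pos H T).ne'
  obtain ⟨u, -, hu⟩ := h.2.2.1 y _ (conjSet_sq H T hy) hys hx2 hs
  have hmem : k * x * k⁻¹ ∈ conjSet t := hu ▸ conjSet_closed H u y hy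
  rw [← conjSet_fix H T hmem, ncard_fixedBy_conj]

theorem fixed_mod (q : ℕ) [Fact q.Prime] {g : G} (hg : orderOf g = q) :
    (fixedBy Ω g).ncard ≡ Nat.card Ω [MOD q] := by
  have hZ : IsPGroup q (Subgroup.zpowers g) := IsPGroup.of_card (n := 1) (by rw [Nat.card_zpowers, hg, pow_one])
  refine Nat.ModEq.symm ((hZ.card_modEq_card_fixedPoints Ω).trans (congrArg (fun i => i % q) ?_))
  rw [← Nat.card_coe_set_eq]
  refine Nat.card_congr (Equiv.subtypeEquivRight fun c => ⟨fun h => h ⟨g, Subgroup.mem_zpowers g⟩, fun h z => ?_⟩)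
  obtain ⟨i, hi⟩ := Subgroup.mem_zpowers_iff.mp z.2
  show (z : G) • c = c
  rw [← hi]
  exact (stabilizer G c).zpow_mem (show g ∈ stabilizer G c from h) i

theorem iso_seven (H : Hyp G a b) (T : InvIn t a b) (h : CaseSix t a b) (hn : Nat.card Ω = 15)
    (hG : Nat.card G = 2520) (hm : (fixedBy Ω t).ncard = 3) :
    Nonempty (G ≃* ↥(alternatingGroup (Fin 7))) := by
  classical
  haveI h7 : Fact (Nat.Prime 7) := ⟨by norm_num⟩
  obtain ⟨e⟩ := H.iso
  have hA : Nat.card ↥(pairStab G a b) = 12 := card_A e
  have hpair : ∀ c d : Ω, c ≠ d → ∀ x : G, x • c = c → x • d = d → orderOf x ∣ 12 := by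
    intro c d hcd x hc hd
    obtain ⟨k, hka, hkb⟩ := H.two c d a b hcd H.ne
    have hm' : k * x * k⁻¹ ∈ pairStab G a b :=
      ⟨by show (k * x * k⁻¹) • a = a; rw [mul_smul, mul_smul, ← hka, inv_smul_smul, hc],
        by show (k * x * k⁻¹) • b = b; rw [mul_smul, mul_smul, ← hkb, inv_smul_smul, hd]⟩
    have := Subgroup.orderOf_dvd_natCard _ hm'
    rw [hA] at this
    rwa [show k * x * k⁻¹ = MulAut.conj k x from rfl, MulEquiv.orderOf_eq] at this
  have hcard_stab : ∀ c : Ω, Nat.card ↥(stabilizer G c) = 168 := by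
    intro c
    haveI : IsPretransitive G Ω := ⟨fun x y => by
      obtain ⟨g, hg⟩ := H.two.transitive H.ne x
      obtain ⟨g', hg'⟩ := H.two.transitive H.ne y
      exact ⟨g' * g⁻¹, by rw [mul_smul, ← hg, inv_smul_smul, hg']⟩⟩
    have h1 := index_stabilizer_of_transitive G c
    have h2 := Subgroup.card_mul_index (stabilizer G c)
    rw [h1, hn, hG] at h2
    omega
  -- elements of order seven
  have h7g : ∀ g : G, orderOf g = 7 → ∃ c : Ω, (∀ d, g • d = d ↔ d = c) ∧
      Nat.card ↥(Subgroup.centralizer ({g} : Set G)) = 7 := by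
    intro g hg
    have hmod : (fixedBy Ω g).ncard ≡ 15 [MOD 7] := hn ▸ fixed_mod 7 hg
    have hle : (fixedBy Ω g).ncard ≤ 1 := (Set.ncard_le_one_iff).mpr fun {c d} hc hd => by
      by_contra hcd
      have := hpair c d hcd g hc hd
      rw [hg] at this
      omega
    unfold Nat.ModEq at hmod
    obtain ⟨c, hc⟩ := Set.ncard_eq_one.mp (show (fixedBy Ω g).ncard = 1 by omega)
    have hiff : ∀ d, g • d = d ↔ d = c := fun d => by
      rw [← mem_fixedBy, hc, Set.mem_singleton_iff]
    refine ⟨c, hiff, ?_⟩
    have hfx : ∀ x ∈ Subgroup.centralizer ({g} : Set G), x • c = c := fun x hx => (hiff _).mp (by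
      rw [← mul_smul, ← Subgroup.mem_centralizer_singleton_iff.mp hx, mul_smul, (hiff c).mpr rfl])
    have hno : ∀ q : ℕ, q.Prime → q ≠ 7 → ¬ q ∣ Nat.card ↥(Subgroup.centralizer ({g} : Set G)) := by
      intro q hq hq7 hd
      haveI : Fact q.Prime := ⟨hq⟩
      obtain ⟨x, hx⟩ := exists_prime_orderOf_dvd_card' q hd
      rw [← Subgroup.orderOf_coe] at hx
      have hxc : (x : G) • c = c := hfx x x.2
      have hq168 : q ∣ 168 := by
        have := Subgroup.orderOf_dvd_natCard (stabilizer G c) (x := (x : G)) hxc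
        rwa [hx, hcard_stab c] at this
      have hq23 : q = 2 ∨ q = 3 := by
        rcases hq.dvd_mul.mp (show q ∣ 2 ^ 3 * (3 * 7) from hq168) with h' | h'
        · exact Or.inl ((Nat.prime_dvd_prime_iff_eq hq Nat.prime_two).mp (hq.dvd_of_dvd_pow h'))
        rcases hq.dvd_mul.mp h' with h' | h'
        · exact Or.inr ((Nat.prime_dvd_prime_iff_eq hq Nat.prime_three).mp h')
        · exact absurd ((Nat.prime_dvd_prime_iff_eq hq (by norm_num)).mp h') hq7
      -- the fixed points of `x` are permuted by `g`
      have hmodx : (fixedBy Ω (x : G)).ncard ≡ 15 [MOD q] := hn ▸ fixed_mod q hx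
      set F := fixedBy Ω (x : G) with hF
      haveI : MulAction.IsPretransitive G Ω := ⟨fun y z => by
        obtain ⟨g, hg⟩ := H.two.transitive H.ne y
        obtain ⟨g', hg'⟩ := H.two.transitive H.ne z
        exact ⟨g' * g⁻¹, by rw [mul_smul, ← hg, inv_smul_smul, hg']⟩⟩
      let Y : SubMulAction ↥(Subgroup.zpowers g) Ω :=
        { carrier := F
          smul_mem' := fun z d hd => by
            show (x : G) • (z : G) • d = (z : G) • d
            obtain ⟨i, hi⟩ := Subgroup.mem_zpowers_iff.mp z.2
            have hcm : Commute (x : G) g := Subgroup.mem_centralizer_singleton_iff.mp x.2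
            rw [← hi, ← mul_smul, (hcm.zpow_right i).eq, mul_smul, show (x : G) • d = d from hd] }
      have hY : Nat.card Y ≡ Nat.card (fixedPoints ↥(Subgroup.zpowers g) Y) [MOD 7] :=
        (IsPGroup.of_card (n := 1) (by rw [Nat.card_zpowers, hg, pow_one]) :
          IsPGroup 7 (Subgroup.zpowers g)).card_modEq_card_fixedPoints Y
      have hone : Nat.card (fixedPoints ↥(Subgroup.zpowers g) Y) = 1 := by
        refine Nat.card_eq_one_iff_unique.mpr ⟨⟨fun y z => ?_⟩, ⟨⟨⟨c, hxc⟩, fun z => Subtype.ext ?_⟩⟩⟩
        · refine Subtype.ext (Subtype.ext ?_)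
          have hy := (hiff _).mp (congrArg Subtype.val (y.2 ⟨g, Subgroup.mem_zpowers g⟩))
          have hz := (hiff _).mp (congrArg Subtype.val (z.2 ⟨g, Subgroup.mem_zpowers g⟩))
          exact hy.trans hz.symm
        · obtain ⟨i, hi⟩ := Subgroup.mem_zpowers_iff.mp z.2
          show (z : G) • c = c
          rw [← hi]
          exact (stabilizer G c).zpow_mem (show g ∈ stabilizer G c from (hiff c).mpr rfl) i
      rw [hone, show Nat.card Y = F.ncard from Nat.card_coe_set_eq F] at hY
      have hle15 : F.ncard ≤ 15 := by rw [← hn, ← Set.ncard_univ]; exact Set.ncard_le_ncard (Set.subset_univ _)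
      have hne15 : F.ncard ≠ 15 := fun e15 => by
        have hFu : F = Set.univ := Set.eq_of_subset_of_ncard_le (Set.subset_univ _) (by rw [Set.ncard_univ, hn, e15])
        have : (x : G) = 1 := eq_of_smul_eq_smul (α := Ω) fun d => by
          rw [one_smul]; exact (hFu ▸ Set.mem_univ d : d ∈ F)
        rw [this, orderOf_one] at hx
        exact hq.ne_one hx.symm
      unfold Nat.ModEq at hY hmodx
      rcases hq23 with rfl | rfl
      · have := involution_fix H T h (x := (x : G)) (by rw [← pow_two, ← hx, pow_orderOf_eq_one])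
          (fun e1 => by rw [e1, orderOf_one] at hx; omega)
        rw [hm, ← hF] at this
        omega
      · omega
    have hdvd : Nat.card ↥(Subgroup.centralizer ({g} : Set G)) ∣ 2 ^ 3 * (3 ^ 2 * (5 * 7)) := by
      rw [show (2 : ℕ) ^ 3 * (3 ^ 2 * (5 * 7)) = Nat.card G by rw [hG]; norm_num]
      exact Subgroup.card_subgroup_dvd_card _
    have hcop : ∀ q : ℕ, q.Prime → q ≠ 7 → Nat.Coprime (Nat.card ↥(Subgroup.centralizer ({g} : Set G))) q :=
      fun q hq h' => (hq.coprime_iff_not_dvd.mpr (hno q hq h')).symm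
    have h7d := (hcop 5 Nat.prime_five (by norm_num)).dvd_of_dvd_mul_left
      (((hcop 3 Nat.prime_three (by norm_num)).pow_right 2).dvd_of_dvd_mul_left
        (((hcop 2 Nat.prime_two (by norm_num)).pow_right 3).dvd_of_dvd_mul_left hdvd))
    refine Nat.dvd_antisymm h7d ?_
    rw [← hg, ← Nat.card_zpowers]
    exact Subgroup.card_dvd_of_le (Subgroup.zpowers_le.mpr (Subgroup.mem_centralizer_singleton_iff.mpr rfl))
  obtain ⟨g, hg⟩ := exists_prime_orderOf_dvd_card' (G := G) 7 (by rw [hG]; norm_num)
  obtain ⟨c, hfix, hC⟩ := h7g g hg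
  -- no normal subgroup of order prime to seven
  have h7no : ∀ N : Subgroup G, N.Normal → N ≠ ⊥ → ¬ 7 ∣ Nat.card N → False := by
    intro N hN hNb hN7
    haveI := hN
    have h15 : 15 ∣ Nat.card N := hn ▸ normal_transitive H N hNb
    have hdvd : Nat.card N ∣ 360 := by
      refine ((h7.out.coprime_iff_not_dvd.mpr hN7).symm).dvd_of_dvd_mul_left (m := 7) ?_
      rw [show 7 * 360 = Nat.card G by rw [hG]]
      exact Subgroup.card_subgroup_dvd_card _
    -- the element of order seven acts without fixed points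
    have hfree : Nat.card N ≡ 1 [MOD 7] := by
      letI : MulAction ↥(Subgroup.zpowers g) ↥N := MulAction.compHom ↥N
        ((MulAut.conjNormal (H := N)).comp (Subgroup.zpowers g).subtype)
      have hmod := (IsPGroup.of_card (n := 1) (by rw [Nat.card_zpowers, hg, pow_one]) :
        IsPGroup 7 (Subgroup.zpowers g)).card_modEq_card_fixedPoints ↥N
      refine hmod.trans (congrArg (fun i => i % 7) (Nat.card_eq_one_iff_unique.mpr ⟨⟨fun y z => ?_⟩,
        ⟨⟨1, fun z => map_one (MulAut.conjNormal (z : G) : MulAut N)⟩⟩⟩))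
      have key : ∀ y : fixedPoints ↥(Subgroup.zpowers g) ↥N, ((y : ↥N) : G) = 1 := by
        rintro ⟨y, hy⟩
        by_contra y1
        have hcm : g * (y : G) * g⁻¹ = y := by
          have := congrArg Subtype.val (hy ⟨g, Subgroup.mem_zpowers g⟩)
          rwa [show ((⟨g, Subgroup.mem_zpowers g⟩ : ↥(Subgroup.zpowers g)) • y : ↥N) = MulAut.conjNormal g y from rfl,
            MulAut.conjNormal_apply] at this
        have hyC : (y : G) ∈ Subgroup.centralizer ({g} : Set G) :=
          Subgroup.mem_centralizer_singleton_iff.mpr (mul_inv_eq_iff_eq_mul.mp hcm).symm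
        have h1 := Subgroup.orderOf_dvd_natCard _ hyC
        have h2 := Subgroup.orderOf_dvd_natCard N y.2
        rw [hC] at h1
        rcases (Nat.dvd_prime h7.out).mp h1 with e' | e'
        · exact y1 (orderOf_eq_one_iff.mp e')
        · exact hN7 (e' ▸ h2)
      exact Subtype.ext (Subtype.ext ((key y).trans (key z).symm))
    haveI : Fact (Nat.Prime 5) := ⟨Nat.prime_five⟩
    obtain ⟨Q⟩ : Nonempty (Sylow 5 N) := inferInstance
    have hN15 : Nat.card N = 15 ∨ Nat.card N = 120 := by
      obtain ⟨i, hi⟩ := h15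
      have hi24 : i ∣ 24 := Nat.dvd_of_mul_dvd_mul_left (show 0 < 15 by norm_num) (by rw [← hi]; exact hdvd)
      have hile := Nat.le_of_dvd (by norm_num) hi24
      unfold Nat.ModEq at hfree
      rw [hi] at hfree ⊢
      interval_cases i <;> omega
    have hQc : Nat.card (Q : Subgroup N) = 5 := by
      rw [Q.card_eq_multiplicity]
      have h5 : (Nat.card N).factorization 5 = 1 := by
        have h1 := (Nat.prime_five.pow_dvd_iff_le_factorization (k := 1) Nat.card_pos.ne').mp
          (by rcases hN15 with e' | e' <;> rw [e'] <;> norm_num)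
        have h2 : ¬ 2 ≤ (Nat.card N).factorization 5 := fun h' => by
          have := (Nat.prime_five.pow_dvd_iff_le_factorization (k := 2) Nat.card_pos.ne').mpr h'
          rcases hN15 with e' | e' <;> rw [e'] at this <;> norm_num at this
        omega
      rw [h5, pow_one]
    -- there are at most six Sylow 5-subgroups, so the element normalises one
    let π : Equiv.Perm (Sylow 5 N) :=
      MulAction.toPerm (α := MulAut N) (β := Sylow 5 N) (MulAut.conjNormal g)
    have hπ : π ^ 7 = 1 := by
      refine Equiv.ext fun S => ?_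
      show ((MulAction.toPermHom (MulAut N) (Sylow 5 N)) (MulAut.conjNormal g) ^ 7) S = S
      rw [← map_pow, ← map_pow, ← hg, pow_orderOf_eq_one, map_one, map_one]; rfl
    have hn5 : ¬ 7 ∣ Nat.card (Sylow 5 N) := fun h' => by
      have := (h'.trans Q.card_dvd_index).trans (Subgroup.index_dvd_card _)
      exact hN7 this
    obtain ⟨S, hS⟩ : ∃ S, π S = S := by
      haveI := Fintype.ofFinite (Sylow 5 N)
      exact Equiv.Perm.exists_fixed_point_of_prime (p := 7) (n := 1) (by rwa [← Nat.card_eq_fintype_card])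
        (by rwa [pow_one])
    have hSc : Nat.card (S : Subgroup N) = 5 := by rw [S.card_eq_multiplicity, ← Q.card_eq_multiplicity, hQc]
    have hinv : ∀ x : N, x ∈ (S : Subgroup N) → (MulAut.conjNormal g : MulAut N) x ∈ (S : Subgroup N) := by
      intro x hx
      have h' := Subgroup.smul_mem_pointwise_smul _ (MulAut.conjNormal g : MulAut N) _ hx
      rwa [← Sylow.pointwise_smul_def, show ((MulAut.conjNormal g : MulAut N) • S) = S from hS] at h'
    set S0 := (S : Subgroup N).map N.subtype with hS0
    have hgS : g ∈ Subgroup.normalizer (S0 : Set G) := StabAlt5.mem_normalizer_of_le fun y hy => by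
      obtain ⟨y, hy', rfl⟩ := hy
      exact ⟨(MulAut.conjNormal g : MulAut N) y, hinv y hy', by rw [Subgroup.coe_subtype, MulAut.conjNormal_apply]⟩
    have hS0c : Nat.card ↥S0 = 5 := by rw [hS0, Subgroup.card_map_of_injective N.subtype_injective, hSc]
    haveI : IsCyclic ↥S0 := isCyclic_of_prime_card (p := 5) hS0c
    let φ := S0.normalizerMonoidHom
    have hord : orderOf (φ ⟨g, hgS⟩) = 1 := by
      have h1 : orderOf (φ ⟨g, hgS⟩) ∣ 7 := by
        have := orderOf_map_dvd φ ⟨g, hgS⟩
        rwa [Subgroup.orderOf_mk, hg] at this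
      have h2 : orderOf (φ ⟨g, hgS⟩) ∣ 4 := by
        have := orderOf_dvd_natCard (φ ⟨g, hgS⟩)
        rwa [IsCyclic.card_mulAut, hS0c, Nat.totient_prime Nat.prime_five] at this
      exact Nat.dvd_one.mp (Nat.dvd_gcd h1 h2)
    have h5C : Nat.card ↥S0 ∣ 7 := by
      rw [← hC]
      refine Subgroup.card_dvd_of_le fun y hy => Subgroup.mem_centralizer_singleton_iff.mpr ?_
      have := congrArg (fun f : MulAut ↥S0 => ((f ⟨y, hy⟩ : ↥S0) : G)) (orderOf_eq_one_iff.mp hord)
      exact (mul_inv_eq_iff_eq_mul.mp this).symm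
    rw [hS0, Subgroup.card_map_of_injective N.subtype_injective, hSc] at h5C
    norm_num at h5C
  have hfac7 : ∀ K : Subgroup G, 7 ∣ Nat.card K → (Nat.card K).factorization 7 = 1 := by
    intro K hK
    have h1 := (h7.out.pow_dvd_iff_le_factorization (k := 1) Nat.card_pos.ne').mp (by rwa [pow_one])
    have h2 : ¬ 2 ≤ (Nat.card K).factorization 7 := fun h' => by
      have := ((h7.out.pow_dvd_iff_le_factorization (k := 2) Nat.card_pos.ne').mpr h').trans
        (Subgroup.card_subgroup_dvd_card K)
      rw [hG] at this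
      norm_num at this
    omega
  have hsimple : IsSimpleGroup G := by
    haveI : Nontrivial G := Finite.one_lt_card_iff_nontrivial.mp (by omega)
    refine ⟨fun N hN => or_iff_not_imp_left.mpr fun hNb => ?_⟩
    haveI := hN
    have h7N : 7 ∣ Nat.card N := by
      by_contra h'
      exact h7no N hN hNb h'
    -- the Sylow normaliser has order twenty-one
    obtain ⟨P⟩ : Nonempty (Sylow 7 N) := inferInstance
    set P0 := (P : Subgroup N).map N.subtype with hP0
    have hP0c : Nat.card P0 = 7 := by
      rw [hP0, Subgroup.card_map_of_injective N.subtype_injective, P.card_eq_multiplicity, hfac7 N h7N, pow_one]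
    haveI : IsCyclic ↥P0 := isCyclic_of_prime_card (p := 7) hP0c
    obtain ⟨y, hy⟩ := IsCyclic.exists_generator (α := ↥P0)
    have hy7 : orderOf (y : G) = 7 := by
      rw [Subgroup.orderOf_coe, orderOf_eq_card_of_forall_mem_zpowers hy, hP0c]
    obtain ⟨d, hd, hCy⟩ := h7g _ hy7
    set NG := Subgroup.normalizer (P0 : Set G) with hNG
    have hNGd : Nat.card NG ∣ 42 := by
      have hker : Nat.card ↥(P0.normalizerMonoidHom.ker) ∣ 7 := by
        rw [← hCy, ← Subgroup.card_map_of_injective (f := NG.subtype) NG.subtype_injective]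
        refine Subgroup.card_dvd_of_le ?_
        rintro _ ⟨z, hz, rfl⟩
        have := congrArg (fun f : MulAut ↥P0 => ((f y : ↥P0) : G)) (MonoidHom.mem_ker.mp hz)
        exact Subgroup.mem_centralizer_singleton_iff.mpr (mul_inv_eq_iff_eq_mul.mp this)
      have hidx : P0.normalizerMonoidHom.ker.index ∣ 6 := by
        rw [Subgroup.index_ker]
        refine (Subgroup.card_subgroup_dvd_card _).trans ?_
        rw [IsCyclic.card_mulAut, hP0c, Nat.totient_prime h7.out]
      rw [← Subgroup.card_mul_index P0.normalizerMonoidHom.ker, show 42 = 7 * 6 by norm_num]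
      exact Nat.mul_dvd_mul hker hidx
    let SG : Sylow 7 G := Sylow.ofCard P0 (by
      rw [hP0c, ← Subgroup.card_top (G := G), hfac7 ⊤ (by rw [Subgroup.card_top, hG]; norm_num), pow_one])
    have hmod := card_sylow_modEq_one 7 G
    rw [show Nat.card (Sylow 7 G) = NG.index by rw [Sylow.card_eq_index_normalizer SG]; rfl] at hmod
    have hNG21 : Nat.card NG = 21 := by
      have hmul := Subgroup.card_mul_index NG
      rw [hG] at hmul
      have h7d : 7 ∣ Nat.card NG := hP0c ▸ Subgroup.card_dvd_of_le Subgroup.le_normalizer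
      have hle := Nat.le_of_dvd (by norm_num) hNGd
      unfold Nat.ModEq at hmod
      interval_cases hc' : Nat.card NG <;> omega
    by_cases hall : NG ≤ N
    · -- Frattini
      have hc := Sylow.normalizer_sup_eq_top (N := N) P
      rw [sup_eq_right.mpr hall] at hc
      exact hc
    · exfalso
      have hNP : Subgroup.normalizer ((P : Subgroup N) : Set N) ≤
          Subgroup.centralizer ((P : Subgroup N) : Set N) := by
        set J := (NG ⊓ N : Subgroup G) with hJ
        have hJ7 : Nat.card J = 7 := by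
          have h1 : Nat.card J ∣ 3 * 7 := (Subgroup.card_dvd_of_le inf_le_left).trans (dvd_of_eq hNG21)
          have h2 : 7 ∣ Nat.card J := hP0c ▸ Subgroup.card_dvd_of_le
            (le_inf Subgroup.le_normalizer (Subgroup.map_subtype_le _))
          have hne : Nat.card J ≠ 21 := fun e' => hall
            ((Subgroup.eq_of_le_of_card_ge inf_le_left (by rw [e', hNG21])).ge.trans inf_le_right)
          have hle' := Nat.le_of_dvd (by norm_num) h1
          interval_cases hc' : Nat.card J <;> omega
        have hJP : P0 = J := Subgroup.eq_of_le_of_card_ge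
          (le_inf Subgroup.le_normalizer (Subgroup.map_subtype_le _)) (by rw [hJ7, hP0c])
        intro z hz
        have hzJ : (z : G) ∈ J := ⟨StabAlt5.mem_normalizer_of_le fun w hw => by
          obtain ⟨w, hw', rfl⟩ := hw
          exact ⟨z * w * z⁻¹, (Subgroup.mem_normalizer_iff.mp hz w).mp hw', rfl⟩, z.2⟩
        rw [← hJP] at hzJ
        refine Subgroup.mem_centralizer_iff.mpr fun w hw => ?_
        have hw' : (w : G) ∈ P0 := ⟨w, hw, rfl⟩
        refine Subtype.ext ?_
        have e' : (⟨_, hw'⟩ : ↥P0) * ⟨_, hzJ⟩ = ⟨_, hzJ⟩ * ⟨_, hw'⟩ :=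
          (IsCyclic.commGroup (α := ↥P0)).mul_comm _ _
        exact congrArg (fun q : ↥P0 => (q : G)) e'
      set K := (MonoidHom.transferSylow P hNP).ker with hK
      have hKc : Nat.card K * 7 = Nat.card N := by
        have h' := (MonoidHom.ker_transferSylow_isComplement' P hNP).card_mul_card
        rwa [P.card_eq_multiplicity, hfac7 N h7N, pow_one] at h'
      have hK7 : ¬ 7 ∣ Nat.card K := MonoidHom.not_dvd_card_ker_transferSylow P hNP
      -- the complement is normal in the whole group
      set K0 := K.map N.subtype with hK0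
      have hchar : ∀ x : N, x ∈ K ↔ x ^ Nat.card K = 1 := by
        intro x
        constructor
        · intro hx
          have := pow_card_eq_one' (x := (⟨x, hx⟩ : K))
          exact congrArg Subtype.val this
        · intro hx
          rw [hK, MonoidHom.mem_ker]
          have h1 : orderOf (MonoidHom.transferSylow P hNP x) ∣ Nat.card K :=
            (orderOf_map_dvd _ x).trans (orderOf_dvd_of_pow_eq_one hx)
          have h2 : orderOf (MonoidHom.transferSylow P hNP x) ∣ 7 := by
            have := orderOf_dvd_natCard (MonoidHom.transferSylow P hNP x)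
            rwa [P.card_eq_multiplicity, hfac7 N h7N, pow_one] at this
          rcases (Nat.dvd_prime h7.out).mp h2 with e' | e'
          · exact orderOf_eq_one_iff.mp e'
          · exact absurd (e' ▸ h1) hK7
      have hK0n : K0.Normal := ⟨fun x hx z => by
        obtain ⟨x, hx, rfl⟩ := hx
        refine ⟨(MulAut.conjNormal z : MulAut N) x, (hchar _).mpr ?_, by
          rw [Subgroup.coe_subtype, MulAut.conjNormal_apply]⟩
        rw [← map_pow, (hchar x).mp hx, map_one]⟩
      refine h7no K0 hK0n ?_ (by rwa [hK0, Subgroup.card_map_of_injective N.subtype_injective])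
      intro hbot
      have h1 : Nat.card K = 1 := by
        rw [← Subgroup.card_map_of_injective (f := N.subtype) N.subtype_injective, ← hK0, hbot, Subgroup.card_bot]
      have h15 : Nat.card Ω ∣ Nat.card N := normal_transitive H N hNb
      rw [hn, ← hKc, h1] at h15
      norm_num at h15
  exact CfsgLib.Order2520.iso hG

end CfsgLib.StabAlt4
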