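import Cfsg.Agent.Lib.StabAlt4.Affine
import Cfsg.Agent.Lib.StabAlt4.Even
import Cfsg.Agent.Lib.StabAlt4.Kill
import Cfsg.Agent.Lib.StabAlt4.Seven
import Cfsg.Agent.Lib.StabAlt4.OddCases
import Cfsg.Agent.Lib.StabAlt4.OddEqual
import Cfsg.Agent.Lib.StabAlt4.OddSquare

/-!
Doubly transitive groups with two-point stabiliser of type `A₄`.
-/

set_option autoImplicit false
set_option linter.unusedSectionVars false
set_option linter.style.haveILetI false

namespace CfsgLib.StabAlt4

open MulAction CfsgLib.StabAlt5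

universe u v

variable {G : Type u} [Group G] [Finite G] {Ω : Type v} [Finite Ω] [MulAction G Ω] [FaithfulSMul G Ω]
variable {a b : Ω}

theorem iso_six (H : Hyp G a b) (hn : Nat.card Ω = 6) : Nonempty (G ≃* ↥(alternatingGroup (Fin 6))) := by
  classical
  let σ : Ω ≃ Fin 6 := (Finite.equivFin Ω).trans (finCongr hn)
  let f : G →* Equiv.Perm (Fin 6) := σ.permCongrHom.toMonoidHom.comp (MulAction.toPermHom G Ω)
  have hf : Function.Injective f := σ.permCongrHom.injective.comp fun g h e =>
    eq_of_smul_eq_smul (α := Ω) fun c => Equiv.ext_iff.mp e c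
  have hcard : Nat.card f.range = 360 := by
    rw [← Nat.card_congr (MonoidHom.ofInjective hf).toEquiv, H.card_group, hn]
  have hidx : f.range.index = 2 := by
    have h := f.range.card_mul_index
    rw [hcard, Nat.card_perm, Nat.card_fin, show Nat.factorial 6 = 720 from rfl] at h
    omega
  exact ⟨(MonoidHom.ofInjective hf).trans
    (MulEquiv.subgroupCongr (Equiv.Perm.eq_alternatingGroup_of_index_eq_two hidx))⟩

theorem classify (H : Hyp G a b) :
    (Nat.card Ω = 6 ∧ Nonempty (G ≃* ↥(alternatingGroup (Fin 6)))) ∨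
    (Nat.card Ω = 15 ∧ Nonempty (G ≃* ↥(alternatingGroup (Fin 7)))) ∨
    (Nat.card Ω = 16 ∧ ∃ (F : Type) (_ : Field F) (_ : Fintype F), Fintype.card F = 4 ∧
      Nonempty (G ≃* ((Fin 2 → F) ≃ᵃ[F] (Fin 2 → F)))) ∨
    HasIsolated G := by
  obtain ⟨t, T⟩ := H.exists_inv
  rcases Nat.even_or_odd (fixedBy Ω t).ncard with hm | hm
  · have hrel := basic_relation H T
    rcases even_outcome H T hm with h | ⟨h, hm4, hk4, -⟩ | ⟨h12, hk12⟩ | ⟨h, hm4, -⟩ | ⟨h36, hk6⟩
    · exact Or.inl ⟨h, iso_six H h⟩
    · rw [h, hm4] at hrel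
      refine Or.inr (Or.inr (Or.inl ⟨h, ?_⟩))
      rcases swap_cases H T with hc | hc | hc
      · rw [hc.1] at hrel; omega
      · rcases hc.1 with e | e <;> rw [e] at hrel <;> omega
      · exact (Sixteen.mk H T hc h hm4 hk4).affine
    · exact (not_twelve H T h12 hk12).elim
    · rw [h, hm4] at hrel
      rcases swap_cases H T with hc | hc | hc
      · exact (not_twenty_eight H T hc h hm4).elim
      · rcases hc.1 with e | e <;> rw [e] at hrel <;> omega
      · rw [hc.1] at hrel; omega
    · obtain ⟨v, hv, v1, vt⟩ := exists_other H T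
      obtain ⟨h2, hfix⟩ := twoHyp_of_ne H T (by rw [h36, hk6]; norm_num) hv v1 vt
      exact (not_thirty_six h2 (by rw [Nat.card_coe_set_eq, h36]) (hfix.trans hk6)).elim
  · rcases swap_cases H T with hc | hc | hc
    · obtain ⟨P, p, j, L⟩ := exists_regLift H T hm
      by_cases hk : (fixPts Ω (four t a b)).ncard = (fixedBy Ω t).ncard
      · obtain ⟨h15, hG, h3⟩ := L.degree_fifteen H T hk hc.1
        exact Or.inr (Or.inl ⟨h15, iso_seven H T hc h15 hG h3⟩)
      · exact (L.not_square H T hc.1 hc.2 hk hm).elim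
    · exact (not_central H T hm hc).elim
    · exact Or.inr (Or.inr (Or.inr (hasIsolated_of_three H T hm hc)))

end CfsgLib.StabAlt4
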