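import Cfsg.Agent.Lib.StabAlt4.Lift

/-!
Odd degree in the symmetric case: orders and centralisers of the lifted regular subgroup.
-/

set_option autoImplicit false
set_option linter.unusedSectionVars false
set_option linter.style.haveILetI false

namespace CfsgLib.StabAlt4

open MulAction CfsgLib.StabAlt5

universe u v

variable {G : Type u} [Group G] [Finite G] {Ω : Type v} [Finite Ω] [MulAction G Ω] [FaithfulSMul G Ω]
variable {a b : Ω} {t : G} (H : Hyp G a b) (T : InvIn t a b)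
include H T

theorem prime_not_dvd_units {p : ℕ} (hp : p.Prime) (hp2 : p ≠ 2) {m : ℕ} (hm : p ∣ m) (hm1 : 1 ≤ m) :
    ¬ p ∣ (2 * m - 1) ∧ ¬ p ∣ (m - 1) ∧ ¬ p ∣ (2 * m + 1) := by
  have h2 : p ∣ 2 * m := dvd_mul_of_dvd_right hm 2
  refine ⟨fun h => ?_, fun h => ?_, fun h => hp.ne_one (Nat.dvd_one.mp ((Nat.dvd_add_right h2).mp h))⟩
  · exact hp.ne_one (Nat.dvd_one.mp ((Nat.dvd_add_right h).mp
      (show p ∣ (2 * m - 1) + 1 by rwa [Nat.sub_add_cancel (by omega)])))
  · exact hp.ne_one (Nat.dvd_one.mp ((Nat.dvd_add_right h).mp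
      (show p ∣ (m - 1) + 1 by rwa [Nat.sub_add_cancel hm1])))

/-- The order in the symmetric case. -/
theorem order_six (h6 : swapNum t a b = 6) :
    Nat.card Ω = (fixedBy Ω t).ncard * (2 * (fixedBy Ω t).ncard - 1) ∧
      Nat.card G = 12 * (fixedBy Ω t).ncard * ((2 * (fixedBy Ω t).ncard - 1) *
        (((fixedBy Ω t).ncard - 1) * (2 * (fixedBy Ω t).ncard + 1))) := by
  have h := basic_relation H T
  have hlt := fix_lt H T
  have hm2 := two_le_fix H T
  rw [h6] at h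
  obtain ⟨i, hi⟩ : ∃ i, (fixedBy Ω t).ncard = i + 1 := ⟨(fixedBy Ω t).ncard - 1, by omega⟩
  rw [hi] at h hlt ⊢
  rw [Nat.add_sub_cancel] at h ⊢
  have e : (i + 1) * (2 * (i + 1) - 1) = 2 * ((i + 1) * i) + (i + 1) := by
    rw [show 2 * (i + 1) - 1 = 2 * i + 1 by omega]; ring
  have hn : Nat.card Ω = (i + 1) * (2 * (i + 1) - 1) := by omega
  refine ⟨hn, ?_⟩
  have h4 : Nat.card Ω - 1 = i * (2 * (i + 1) + 1) := by
    have e2 : i * (2 * (i + 1) + 1) + 1 = 2 * ((i + 1) * i) + (i + 1) := by ring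
    omega
  rw [H.card_group, h4, hn]
  ring

theorem order_pow (h6 : swapNum t a b = 6) {p j : ℕ} (hp : p.Prime) (hodd : Odd p) (hj : 1 ≤ j)
    (hm : (fixedBy Ω t).ncard = p ^ j) :
    (p ≠ 3 → ¬ p ^ (j + 1) ∣ Nat.card G) ∧ (p = 3 → p ^ (j + 1) ∣ Nat.card G ∧ ¬ p ^ (j + 2) ∣ Nat.card G) := by
  obtain ⟨-, hG⟩ := order_six H T h6
  have hp2 : p ≠ 2 := fun e => by rw [e] at hodd; exact absurd hodd (by decide)
  rw [hm] at hG
  obtain ⟨u1, u2, u3⟩ := prime_not_dvd_units H T hp hp2 (dvd_pow_self p (by omega : j ≠ 0)) (Nat.one_le_pow _ _ hp.pos)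
  set c := (2 * p ^ j - 1) * ((p ^ j - 1) * (2 * p ^ j + 1)) with hc
  have hG' : Nat.card G = p ^ j * (12 * c) := by rw [hG]; ring
  have hnc : ¬ p ∣ c := fun h => by
    rcases hp.dvd_mul.mp h with h | h
    · exact u1 h
    rcases hp.dvd_mul.mp h with h | h
    · exact u2 h
    · exact u3 h
  refine ⟨fun h3 h => ?_, fun h3 => ?_⟩
  · rw [hG', pow_succ] at h
    rcases hp.dvd_mul.mp (Nat.dvd_of_mul_dvd_mul_left (pow_pos hp.pos j) h) with h' | h'
    · have h' : p ∣ 2 ^ 2 * 3 := h'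
      rcases hp.dvd_mul.mp h' with h' | h'
      · exact hp2 ((Nat.prime_dvd_prime_iff_eq hp Nat.prime_two).mp (hp.dvd_of_dvd_pow h'))
      · exact h3 ((Nat.prime_dvd_prime_iff_eq hp Nat.prime_three).mp h')
    · exact hnc h'
  · subst h3
    refine ⟨?_, fun h => ?_⟩
    · rw [hG', pow_succ]
      exact Nat.mul_dvd_mul_left _ (dvd_mul_of_dvd_left (by norm_num) c)
    · rw [hG', pow_add] at h
      have h' := Nat.dvd_of_mul_dvd_mul_left (pow_pos hp.pos j) h
      rw [show (3 : ℕ) ^ 2 = 3 * 3 by norm_num, show 12 * c = 3 * (4 * c) by ring] at h'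
      exact hnc ((Nat.Coprime.dvd_of_dvd_mul_left (by norm_num) (Nat.dvd_of_mul_dvd_mul_left (by norm_num) h')))

omit H in
/-- The four elements of the four group. -/
theorem four_list (H : Hyp G a b) {v : G} (hv : v ∈ four t a b) (v1 : v ≠ 1) (vt : v ≠ t) :
    ∀ x, x ∈ four t a b ↔ x = 1 ∨ x = t ∨ x = v ∨ x = t * v := by
  have d1 : t * v ≠ 1 := fun e => vt (by rw [eq_inv_of_mul_eq_one_right e, inv_eq_of_mul_eq_one_left T.sq])
  have d2 : t * v ≠ t := fun e => v1 (mul_eq_left.mp e)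
  have d3 : t * v ≠ v := fun e => T.ne_one (mul_eq_right.mp e)
  have hsub : ({1, t, v, t * v} : Set G) ⊆ (four t a b : Set G) := by
    rintro y (rfl | rfl | rfl | rfl)
    exacts [one_mem _, self_mem_four H T, hv, mul_mem (self_mem_four H T) hv]
  have h4 : ({1, t, v, t * v} : Set G).ncard = 4 := by
    rw [Set.ncard_insert_of_notMem (by simp [T.ne_one.symm, v1.symm, d1.symm]),
      Set.ncard_insert_of_notMem (by simp [Ne.symm vt, d2.symm]),
      Set.ncard_insert_of_notMem (by simp [d3.symm]), Set.ncard_singleton]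
  have heq := Set.eq_of_subset_of_ncard_le hsub
    (by rw [h4]; exact ((Nat.card_coe_set_eq _).symm.trans (card_four H T)).le)
  intro x
  rw [← SetLike.mem_coe, ← heq]
  rfl

theorem invIn_four {v : G} (hv : v ∈ four t a b) (v1 : v ≠ 1) : InvIn v a b :=
  ⟨(mem_four.mp hv).1, four_sq H T hv, v1⟩

variable {P : Subgroup G} {p j : ℕ} (L : RegLift Ω t P p j)
include L

/-- The centraliser of the lift inside `C(t)`. -/
theorem RegLift.cent_cases {g : G} (hg : g ∈ Subgroup.centralizer ({t} : Set G))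
    (hc : ∀ x ∈ P, g * x = x * g) : ∃ x ∈ P, ∃ h ∈ four t a b, (∀ c ∈ fixedBy Ω t, h • c = c) ∧ g = x * h := by
  obtain ⟨x, hx, hxa, hxC⟩ := L.decompose H T g hg
  have hfix : ∀ c ∈ fixedBy Ω t, (x⁻¹ * g) • c = c := by
    intro c hc'
    obtain ⟨y, hy, hyc⟩ := L.trans a c T.mem.1 hc'
    have hcomm : (x⁻¹ * g) * y = y * (x⁻¹ * g) := by
      rw [mul_assoc, hc y hy, ← mul_assoc, L.comm _ (inv_mem hx) y hy, mul_assoc]
    rw [← hyc, ← mul_smul, hcomm, mul_smul, hxa]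
  exact ⟨x, hx, x⁻¹ * g, trivial_mem_four H T hxC hfix, hfix, by group⟩

theorem RegLift.kernel_comm {h : G} (hh : h ∈ Subgroup.centralizer ({t} : Set G))
    (hfix : ∀ c ∈ fixedBy Ω t, h • c = c) : ∀ x ∈ P, h * x = x * h := by
  intro x hx
  have h1 : (x⁻¹ * (h * x * h⁻¹)) • a = a := by
    have e : h⁻¹ • a = a := inv_smul_eq_iff.mpr (hfix a T.mem.1).symm
    rw [mul_smul, mul_smul, mul_smul, e, hfix (x • a) (smul_mem_fixedBy H (L.le hx) T.mem.1), inv_smul_smul]
  have h2 := inv_mul_eq_one.mp (L.reg _ (mul_mem (inv_mem hx) (L.normal h hh x hx)) a T.mem.1 h1)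
  exact mul_inv_eq_iff_eq_mul.mp h2.symm

/-- An element of the lift centralising `v` and moving `a` to `b`. -/
theorem RegLift.exists_cent {v : G} (hv : v ∈ four t a b) :
    ∃ x ∈ P, x * v = v * x ∧ x • a = b := by
  obtain ⟨x, hx, hxb⟩ := L.trans a b T.mem.1 T.mem.2
  have hv' : v ∈ Subgroup.centralizer ({t} : Set G) :=
    Subgroup.mem_centralizer_singleton_iff.mpr (four_comm H T hv (self_mem_four H T))
  have h1 : (x⁻¹ * (v * x * v⁻¹)) • a = a := by
    rw [mul_smul, mul_smul, mul_smul, inv_smul_eq_iff.mpr (show v • a = a from (mem_four.mp hv).1.1).symm,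
      hxb, show v • b = b from (mem_four.mp hv).1.2, ← hxb, inv_smul_smul]
  have h2 := inv_mul_eq_one.mp (L.reg _ (mul_mem (inv_mem hx) (L.normal v hv' x hx)) a T.mem.1 h1)
  refine ⟨x, hx, ?_, hxb⟩
  nth_rewrite 1 [h2]
  group

end CfsgLib.StabAlt4
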