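import Cfsg.Agent.Lib.StabAlt4.Cases
import Cfsg.Agent.Lib.StabAlt4.Bridge
import Cfsg.Agent.Lib.StabAlt4.Seven
import Cfsg.Agent.Lib.StabAlt5.Double

/-!
Degree sixteen: the fixed point free involutions together with the identity form a regular normal subgroup.
-/

set_option autoImplicit false
set_option linter.unusedSectionVars false
set_option linter.style.haveILetI false
set_option maxRecDepth 10000

namespace CfsgLib.StabAlt4

open MulAction CfsgLib.StabAlt5

universe u v

theorem a4_inv_comm : ∀ x y : alternatingGroup (Fin 4), x * x = 1 → y * y = 1 → x * y = y * x := by decide +kernel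

theorem a4_three_conj : ∀ h x : alternatingGroup (Fin 4), h * h * h = 1 → h ≠ 1 → x * x * x = 1 → x ≠ 1 →
    ∃ u, u * h * u⁻¹ = x ∨ u * h⁻¹ * u⁻¹ = x := by decide +kernel

theorem a4_three_count :
    (Finset.univ.filter fun x : alternatingGroup (Fin 4) => x * x * x = 1 ∧ x ≠ 1).card = 8 := by decide +kernel

theorem a4_sq_or_cube : ∀ x : alternatingGroup (Fin 4), x * x = 1 ∨ x * x * x = 1 := by decide +kernel

variable {G : Type u} [Group G] [Finite G] {Ω : Type v} [Finite Ω] [MulAction G Ω] [FaithfulSMul G Ω]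
variable {a b : Ω} {t : G}

/-- An involution without fixed points: one not conjugate to `t`. -/
def FreeInv (t x : G) : Prop := x * x = 1 ∧ x ≠ 1 ∧ x ∉ conjSet t

/-- The data of degree sixteen. -/
structure Sixteen (G : Type u) {Ω : Type v} [Group G] [MulAction G Ω] (t : G) (a b : Ω) : Prop where
  hyp : Hyp G a b
  inv : InvIn t a b
  three : CaseThree t a b
  deg : Nat.card Ω = 16
  fix : (fixedBy Ω t).ncard = 4
  fixV : (fixPts Ω (four t a b)).ncard = 4

variable (D : Sixteen G t a b)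
include D

theorem Sixteen.four_fix {v : G} (hv : v ∈ four t a b) {c : Ω} (hc : c ∈ fixedBy Ω t) : v • c = c := by
  have h : fixPts Ω (four t a b) = fixedBy Ω t :=
    Set.eq_of_subset_of_ncard_le (fixPts_subset D.hyp D.inv) (by rw [D.fix, D.fixV])
  exact (h.symm ▸ hc : c ∈ fixPts Ω (four t a b)) v hv

theorem Sixteen.fix_eq {v : G} (hv : v ∈ four t a b) (v1 : v ≠ 1) : fixedBy Ω v = fixedBy Ω t := by
  refine (Set.eq_of_subset_of_ncard_le (t := fixedBy Ω v) (fun c hc => D.four_fix hv hc) ?_).symm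
  rw [conjSet_fix D.hyp D.inv (mem_conjSet D.hyp D.inv
    ⟨(mem_four.mp hv).1, four_sq D.hyp D.inv hv, v1⟩)]

theorem Sixteen.inv_mem_four {x : G} (hx : x ∈ pairStab G a b) (x2 : x * x = 1) : x ∈ four t a b := by
  obtain ⟨e⟩ := D.hyp.iso
  refine mem_four.mpr ⟨hx, ?_⟩
  have h := a4_inv_comm (e ⟨x, hx⟩) (e ⟨t, D.inv.mem⟩)
    (by rw [← map_mul, e.map_eq_one_iff]; exact Subtype.ext x2)
    (by rw [← map_mul, e.map_eq_one_iff]; exact Subtype.ext D.inv.sq)
  exact (comm_map e D.inv.mem hx).mp h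

omit [Finite G] [Finite Ω] [FaithfulSMul G Ω] D in
theorem fixedBy_conj (g x : G) (c : Ω) : g • c ∈ fixedBy Ω (g * x * g⁻¹) ↔ c ∈ fixedBy Ω x := by
  show (g * x * g⁻¹) • g • c = g • c ↔ x • c = c
  rw [mul_smul, mul_smul, inv_smul_smul, smul_left_cancel_iff]

/-- Two lines with two common points coincide. -/
theorem Sixteen.line_eq {x y : G} (hx : x ∈ conjSet t) (hy : y ∈ conjSet t) {c d : Ω} (hcd : c ≠ d)
    (hxc : x • c = c) (hxd : x • d = d) (hyc : y • c = c) (hyd : y • d = d) :
    fixedBy Ω x = fixedBy Ω y := by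
  obtain ⟨k, hkc, hkd⟩ := D.hyp.two c d a b hcd D.hyp.ne
  have key : ∀ w : G, w ∈ conjSet t → w • c = c → w • d = d →
      fixedBy Ω (k * w * k⁻¹) = fixedBy Ω t := by
    intro w hw hwc hwd
    have hm : k * w * k⁻¹ ∈ pairStab G a b :=
      ⟨by show (k * w * k⁻¹) • a = a; rw [mul_smul, mul_smul, ← hkc, inv_smul_smul, hwc],
        by show (k * w * k⁻¹) • b = b; rw [mul_smul, mul_smul, ← hkd, inv_smul_smul, hwd]⟩
    have h2 := conjSet_sq D.hyp D.inv (conjSet_closed D.hyp k w hw)
    refine D.fix_eq (D.inv_mem_four hm h2) fun e => ?_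
    rw [conj_eq_one_iff] at e
    obtain ⟨g, hg⟩ := hw
    exact D.inv.ne_one (conj_eq_one_iff.mp (hg.trans e))
  ext p
  rw [← fixedBy_conj k x p, ← fixedBy_conj k y p, key x hx hxc hxd, key y hy hyc hyd]

theorem Sixteen.card_line {x : G} (hx : x ∈ conjSet t) : (fixedBy Ω x).ncard = 4 :=
  (conjSet_fix D.hyp D.inv hx).trans D.fix

theorem Sixteen.free_unique_ab {x : G} (hx : FreeInv t x) (hxa : x • a = b) {y : G} (hy : FreeInv t y)
    (hya : y • a = b) : x = y := by
  obtain ⟨-, z, -, -, -, huniq⟩ := D.three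
  have hs : ∀ w : G, FreeInv t w → w • a = b → Swaps w a b := fun w hw hwa =>
    ⟨hwa, by rw [← hwa, ← mul_smul, hw.1, one_smul]⟩
  rw [huniq x hx.1 (hs x hx hxa) hx.2.2, huniq y hy.1 (hs y hy hya) hy.2.2]

theorem Sixteen.free_conj {x : G} (hx : FreeInv t x) (g : G) : FreeInv t (g * x * g⁻¹) := by
  refine ⟨by rw [conj_mul, hx.1, mul_one, mul_inv_cancel], fun e => hx.2.1 (conj_eq_one_iff.mp e), fun h => ?_⟩
  have := conjSet_closed D.hyp g⁻¹ _ h
  rw [show g⁻¹ * (g * x * g⁻¹) * g⁻¹⁻¹ = x by group] at this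
  exact hx.2.2 this

theorem Sixteen.free_fix {x : G} (hx : FreeInv t x) (c : Ω) : x • c ≠ c := by
  intro hc
  have hle : (fixedBy Ω x).ncard ≤ 1 := (Set.ncard_le_one_iff).mpr fun {p q} hp hq => by
    by_contra hpq
    obtain ⟨k, hkp, hkq⟩ := D.hyp.two p q a b hpq D.hyp.ne
    have hf := D.free_conj hx k
    exact hf.2.2 (mem_conjSet D.hyp D.inv ⟨⟨by show (k * x * k⁻¹) • a = a; rw [mul_smul, mul_smul, ← hkp,
      inv_smul_smul, hp], by show (k * x * k⁻¹) • b = b; rw [mul_smul, mul_smul, ← hkq, inv_smul_smul, hq]⟩,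
      hf.1, hf.2.1⟩)
  have hev := fix_parity (Δ := Ω) hx.1
  have hpos : 0 < (fixedBy Ω x).ncard := (Set.ncard_pos (Set.toFinite _)).mpr ⟨c, hc⟩
  rw [D.deg, Nat.even_iff] at hev
  omega

theorem Sixteen.free_unique {x y : G} (hx : FreeInv t x) (hy : FreeInv t y) {c : Ω} (h : x • c = y • c) :
    x = y := by
  obtain ⟨k, hkc, hkd⟩ := D.hyp.two c (x • c) a b (Ne.symm (D.free_fix hx c)) D.hyp.ne
  have e : k * x * k⁻¹ = k * y * k⁻¹ := D.free_unique_ab (D.free_conj hx k)
    (by rw [mul_smul, mul_smul, ← hkc, inv_smul_smul, hkd])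
    (D.free_conj hy k) (by rw [mul_smul, mul_smul, ← hkc, inv_smul_smul, ← h, hkd])
  exact mul_left_cancel (mul_right_cancel e)

theorem Sixteen.free_exists {c d : Ω} (hcd : c ≠ d) : ∃ x, FreeInv t x ∧ x • c = d := by
  obtain ⟨-, z, hz2, hz, hzn, -⟩ := D.three
  obtain ⟨k, hka, hkb⟩ := D.hyp.two a b c d D.hyp.ne hcd
  have hfz : FreeInv t z := ⟨hz2, fun e => D.hyp.ne (by rw [← hz.1, e, one_smul]), hzn⟩
  exact ⟨k * z * k⁻¹, D.free_conj hfz k, by rw [mul_smul, mul_smul, ← hka, inv_smul_smul, hz.1, hkb]⟩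

/-- The element interchanging `a` and `b` without fixed points commutes with the two-point stabiliser. -/
theorem Sixteen.free_comm {x : G} (hx : FreeInv t x) {c d : Ω} (hxc : x • c = d) {u : G} (huc : u • c = c)
    (hud : u • d = d) : u * x = x * u := by
  refine mul_inv_eq_iff_eq_mul.mp (D.free_unique (D.free_conj hx u) hx (c := c) ?_)
  rw [mul_smul, mul_smul, inv_smul_eq_iff.mpr huc.symm, hxc, hud]

/-- Elements of order three of the two-point stabiliser fix four points. -/
theorem Sixteen.three_fix {h : G} (hA : h ∈ pairStab G a b) (h3 : h * h * h = 1) (h1 : h ≠ 1) :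
    (fixedBy Ω h).ncard = 4 := by
  classical
  haveI : Fact (Nat.Prime 3) := ⟨Nat.prime_three⟩
  obtain ⟨e⟩ := D.hyp.iso
  set C : Set G := {x | ∃ g : G, g * h * g⁻¹ = x ∨ g * h⁻¹ * g⁻¹ = x} with hC
  have hord : orderOf h = 3 := orderOf_eq_prime (by rw [pow_succ, pow_two, h3]) h1
  have hinv : (fixedBy Ω h⁻¹).ncard = (fixedBy Ω h).ncard := by
    congr 1
    ext c
    exact ⟨fun hc => inv_smul_eq_iff.mp hc |>.symm, fun hc => inv_smul_eq_iff.mpr (Eq.symm hc)⟩
  have hf : ∀ x ∈ C, (fixedBy Ω x).ncard = (fixedBy Ω h).ncard := by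
    rintro x ⟨g, rfl | rfl⟩
    · exact ncard_fixedBy_conj g h
    · rw [ncard_fixedBy_conj, hinv]
  have hcount := fix_count D.hyp.two D.hyp.ne C (fun g x hx => by
    obtain ⟨k, rfl | rfl⟩ := hx
    · exact ⟨g * k, Or.inl (by group)⟩
    · exact ⟨g * k, Or.inr (by group)⟩) hf
  have h8 : {x : G | x ∈ C ∧ x • a = a ∧ x • b = b}.ncard = 8 := by
    rw [← a4_three_count, ← ncard_transfer e _ (fun x : G => x * x * x = 1 ∧ x ≠ 1) fun x => ?_]
    · congr 1
      ext x
      constructor
      · rintro ⟨⟨g, hg⟩, ha, hb⟩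
        refine ⟨⟨ha, hb⟩, ?_, ?_⟩
        · rcases hg with rfl | rfl
          · rw [conj_mul, conj_mul, h3]; group
          · rw [conj_mul, conj_mul, ← mul_inv_rev, ← mul_inv_rev, ← mul_assoc h h h, h3]; group
        · rcases hg with rfl | rfl
          · exact fun e' => h1 (conj_eq_one_iff.mp e')
          · exact fun e' => h1 (inv_eq_one.mp (conj_eq_one_iff.mp e'))
      · rintro ⟨hx, hx3, hx1⟩
        refine ⟨?_, hx.1, hx.2⟩
        obtain ⟨u, hu⟩ := a4_three_conj (e ⟨h, hA⟩) (e ⟨x, hx⟩)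
          (by rw [← map_mul, ← map_mul, e.map_eq_one_iff]; exact Subtype.ext h3)
          (fun e' => h1 (congrArg Subtype.val (e.map_eq_one_iff.mp e')))
          (by rw [← map_mul, ← map_mul, e.map_eq_one_iff]; exact Subtype.ext hx3)
          (fun e' => hx1 (congrArg Subtype.val (e.map_eq_one_iff.mp e')))
        obtain ⟨u, rfl⟩ := e.surjective u
        rcases hu with hu | hu <;> simp only [← map_inv, ← map_mul, e.injective.eq_iff] at hu
        · exact ⟨u, Or.inl (congrArg Subtype.val hu)⟩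
        · exact ⟨u, Or.inr (congrArg Subtype.val hu)⟩
    · simp only [ne_eq, ← map_mul, MulEquiv.map_eq_one_iff]
      exact ⟨fun hh => ⟨Subtype.ext hh.1, fun e' => hh.2 (congrArg Subtype.val e')⟩,
        fun hh => ⟨congrArg Subtype.val hh.1, fun e' => hh.2 (Subtype.ext e')⟩⟩
  rw [h8, D.deg] at hcount
  have h2 : 2 ≤ (fixedBy Ω h).ncard := by
    refine (Set.ncard_pair D.hyp.ne).symm.le.trans (Set.ncard_le_ncard ?_)
    rintro c (rfl | rfl)
    exacts [hA.1, hA.2]
  have hle : (fixedBy Ω h).ncard ≤ 15 := by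
    by_contra hh
    refine h1 (eq_of_smul_eq_smul (α := Ω) fun c => ?_)
    have hu : fixedBy Ω h = Set.univ :=
      Set.eq_of_subset_of_ncard_le (Set.subset_univ _) (by rw [Set.ncard_univ, D.deg]; omega)
    rw [one_smul]
    exact (hu.symm ▸ Set.mem_univ c : c ∈ fixedBy Ω h)
  have hmod := fixed_mod (Ω := Ω) 3 hord
  rw [D.deg] at hmod
  unfold Nat.ModEq at hmod
  generalize (fixedBy Ω h).ncard = F at *
  interval_cases F <;> omega

/-- The two-point stabiliser is regular outside the line. -/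
theorem Sixteen.reg {u : G} (hu : u ∈ pairStab G a b) {e : Ω} (he : e ∉ fixedBy Ω t) (hue : u • e = e) :
    u = 1 := by
  classical
  obtain ⟨iso⟩ := D.hyp.iso
  by_contra u1
  have hcase : u * u = 1 ∨ u * u * u = 1 := by
    rcases a4_sq_or_cube (iso ⟨u, hu⟩) with h | h
    · rw [← map_mul, iso.map_eq_one_iff] at h; exact Or.inl (congrArg Subtype.val h)
    · rw [← map_mul, ← map_mul, iso.map_eq_one_iff] at h; exact Or.inr (congrArg Subtype.val h)
  rcases hcase with h | h
  · exact he (D.fix_eq (D.inv_mem_four hu h) u1 ▸ hue)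
  · have hN : u * t * u⁻¹ ∈ four t a b :=
      D.inv_mem_four (mul_mem (mul_mem hu D.inv.mem) (inv_mem hu)) (by rw [conj_mul, D.inv.sq, mul_one, mul_inv_cancel])
    have hmap : ∀ c ∈ fixedBy Ω t, u • c ∈ fixedBy Ω t := fun c hc => by
      rw [← D.fix_eq hN (fun e' => D.inv.ne_one (conj_eq_one_iff.mp e'))]
      exact (fixedBy_conj u t c).mpr hc
    have hsub : fixedBy Ω t ⊆ fixedBy Ω u := by
      intro c hc
      by_contra hcu
      have hca : c ≠ a := fun e' => hcu (e' ▸ hu.1)
      have hcb : c ≠ b := fun e' => hcu (e' ▸ hu.2)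
      have h2 : u • u • c = c := by
        by_contra hne
        have huc_a : u • c ≠ a := fun e' => hca (MulAction.injective u (e'.trans (show a = u • a from hu.1.symm)))
        have huc_b : u • c ≠ b := fun e' => hcb (MulAction.injective u (e'.trans (show b = u • b from hu.2.symm)))
        have huuc_a : u • u • c ≠ a := fun e' => huc_a (MulAction.injective u (e'.trans (show a = u • a from hu.1.symm)))
        have huuc_b : u • u • c ≠ b := fun e' => huc_b (MulAction.injective u (e'.trans (show b = u • b from hu.2.symm)))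
        have huuc : u • u • c ≠ u • c := fun e' => hcu (MulAction.injective u e')
        have hs : ({a, b, c, u • c, u • u • c} : Set Ω) ⊆ fixedBy Ω t := by
          rintro p (rfl | rfl | rfl | rfl | rfl)
          exacts [D.inv.mem.1, D.inv.mem.2, hc, hmap c hc, hmap _ (hmap c hc)]
        have h5 := Set.ncard_le_ncard hs (Set.toFinite _)
        rw [D.fix, Set.ncard_insert_of_notMem (by simp [D.hyp.ne, hca.symm, huc_a.symm, huuc_a.symm]),
          Set.ncard_insert_of_notMem (by simp [hcb.symm, huc_b.symm, huuc_b.symm]),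
          Set.ncard_insert_of_notMem (by
            simp only [Set.mem_insert_iff, Set.mem_singleton_iff, not_or]
            exact ⟨fun e' => hcu e'.symm, fun e' => hne e'.symm⟩),
          Set.ncard_pair huuc.symm] at h5
        omega
      refine hcu ?_
      show u • c = c
      rw [← h2, ← mul_smul, ← mul_smul, h, one_smul, h2]
    have hlt := Set.ncard_le_ncard (Set.insert_subset (t := fixedBy Ω u) hue hsub) (Set.toFinite _)
    rw [Set.ncard_insert_of_notMem he, D.fix, D.three_fix hu h u1] at hlt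
    omega

theorem Sixteen.outside_trans {e f : Ω} (he : e ∉ fixedBy Ω t) (hf : f ∉ fixedBy Ω t) :
    ∃ u ∈ pairStab G a b, u • e = f := by
  classical
  obtain ⟨iso⟩ := D.hyp.iso
  have hout : ∀ u ∈ pairStab G a b, u • e ∉ fixedBy Ω t := by
    intro u hu hm
    apply he
    have hN : u⁻¹ * t * u⁻¹⁻¹ ∈ four t a b := D.inv_mem_four (mul_mem (mul_mem (inv_mem hu) D.inv.mem)
      (inv_mem (inv_mem hu))) (by rw [conj_mul, D.inv.sq, mul_one, mul_inv_cancel])
    have h := (fixedBy_conj u⁻¹ t (u • e)).mpr hm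
    rwa [inv_smul_smul, D.fix_eq hN (fun e' => D.inv.ne_one (conj_eq_one_iff.mp e'))] at h
  let φ : ↥(pairStab G a b) → ↥((fixedBy Ω t)ᶜ) := fun u => ⟨(u : G) • e, hout u u.2⟩
  have hinj : Function.Injective φ := fun u w h => by
    have h' : (u : G) • e = (w : G) • e := congrArg Subtype.val h
    exact Subtype.ext (inv_mul_eq_one.mp (D.reg (mul_mem (inv_mem w.2) u.2) he
      (by rw [mul_smul, h', inv_smul_smul]))).symm
  have hbij : Function.Bijective φ := (Nat.bijective_iff_injective_and_card φ).mpr ⟨hinj, by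
    rw [card_A iso, Nat.card_coe_set_eq, Set.ncard_compl, D.deg, D.fix]⟩
  obtain ⟨u, hu⟩ := hbij.2 ⟨f, hf⟩
  exact ⟨u, u.2, congrArg Subtype.val hu⟩

/-- The orbit of the four group outside the line is a line, preserved by the free involution through `a`, `b`. -/
theorem Sixteen.line_outside {z : G} (hz : FreeInv t z) (hza : z • a = b) {e : Ω} (he : e ∉ fixedBy Ω t) :
    ∃ y ∈ conjSet t, e ∈ fixedBy Ω y ∧ z • e ∈ fixedBy Ω y ∧ ∀ f ∈ fixedBy Ω y, f ∉ fixedBy Ω t := by
  classical
  have hzb : z • b = a := by rw [← hza, ← mul_smul, hz.1, one_smul]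
  have hzA : ∀ u ∈ pairStab G a b, u * z = z * u := fun u hu => D.free_comm hz hza hu.1 hu.2
  have hzout : z • e ∉ fixedBy Ω t := fun hm => he (by
    show t • e = e
    have h : t • z • e = z • e := hm
    rw [← mul_smul, hzA t D.inv.mem, mul_smul, smul_left_cancel_iff] at h
    exact h)
  obtain ⟨σ, hσ, hσe⟩ := D.outside_trans he hzout
  have hσ2 : σ * σ = 1 := by
    refine D.reg (mul_mem hσ hσ) he ?_
    rw [mul_smul, hσe, ← mul_smul, hzA σ hσ, mul_smul, hσe, ← mul_smul, hz.1, one_smul]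
  have hσV := D.inv_mem_four hσ hσ2
  have hσ1 : σ ≠ 1 := fun e' => D.free_fix hz e (by rw [← hσe, e', one_smul])
  set y := z * σ with hy
  have hy2 : y * y = 1 := by
    rw [hy, mul_assoc, ← mul_assoc σ z σ, hzA σ hσ, mul_assoc z σ σ, hσ2, mul_one, hz.1]
  have hye : y • e = e := by rw [hy, mul_smul, hσe, ← mul_smul, hz.1, one_smul]
  have hyc : y ∈ conjSet t := by
    by_contra hn
    have h1 : y ≠ 1 := fun e' => hσ1 (by
      rw [eq_inv_of_mul_eq_one_right (hy ▸ e' : z * σ = 1), inv_eq_of_mul_eq_one_left hz.1]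
      exact (D.free_fix hz a (by
        rw [eq_inv_of_mul_eq_one_left (hy ▸ e' : z * σ = 1)]; exact (inv_mem hσ).1)).elim)
    exact D.free_fix ⟨hy2, h1, hn⟩ e hye
  have horb : ∀ v ∈ four t a b, v • e ∈ fixedBy Ω y := by
    intro v hv
    show y • v • e = v • e
    have hc : v * y = y * v := by
      rw [hy, ← mul_assoc, hzA v (mem_four.mp hv).1, mul_assoc, four_comm D.hyp D.inv hv hσV, ← mul_assoc]
    rw [← mul_smul, ← hc, mul_smul, hye]
  refine ⟨y, hyc, hye, hσe ▸ horb σ hσV, fun f hf => ?_⟩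
  -- the line is the orbit
  let φ : ↥(four t a b) → ↥(fixedBy Ω y) := fun v => ⟨(v : G) • e, horb v v.2⟩
  have hinj : Function.Injective φ := fun u w h => by
    have h' : (u : G) • e = (w : G) • e := congrArg Subtype.val h
    exact Subtype.ext (inv_mul_eq_one.mp (D.reg (mul_mem (inv_mem (mem_four.mp w.2).1) (mem_four.mp u.2).1) he
      (by rw [mul_smul, h', inv_smul_smul]))).symm
  have hbij : Function.Bijective φ := (Nat.bijective_iff_injective_and_card φ).mpr ⟨hinj, by
    rw [card_four D.hyp D.inv, Nat.card_coe_set_eq, D.card_line hyc]⟩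
  obtain ⟨v, hv⟩ := hbij.2 ⟨f, hf⟩
  intro hm
  apply he
  have hve : (v : G) • e = f := congrArg Subtype.val hv
  show t • e = e
  have h : t • f = f := hm
  rw [← hve, ← mul_smul, ← four_comm D.hyp D.inv v.2 (self_mem_four D.hyp D.inv), mul_smul,
    smul_left_cancel_iff] at h
  exact h

/-- At most five lines pass through a point. -/
theorem Sixteen.lines_le {e : Ω} (S : Finset (Set Ω))
    (hS : ∀ s ∈ S, e ∈ s ∧ ∃ y ∈ conjSet t, s = fixedBy Ω y) : S.card ≤ 5 := by
  classical
  haveI := Fintype.ofFinite Ω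
  have hc : ∀ s ∈ S, ((s.toFinset).erase e).card = 3 := by
    intro s hs
    obtain ⟨he, y, hy, rfl⟩ := hS s hs
    rw [Finset.card_erase_of_mem, ← Set.ncard_eq_toFinset_card', D.card_line hy]
    simpa using he
  have hdisj : (S : Set (Set Ω)).PairwiseDisjoint fun s => (s.toFinset).erase e := by
    intro s hs s' hs' hne
    refine Finset.disjoint_left.mpr fun f hf hf' => ?_
    simp only [Finset.mem_erase, Set.mem_toFinset] at hf hf'
    obtain ⟨he, y, hy, rfl⟩ := hS s hs
    obtain ⟨he', y', hy', rfl⟩ := hS s' hs'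
    exact hne (D.line_eq hy hy' hf.1 hf.2 he hf'.2 he')
  have h1 : (S.biUnion fun s => (s.toFinset).erase e).card = S.card * 3 := by
    rw [Finset.card_biUnion hdisj, Finset.sum_congr rfl hc, Finset.sum_const, smul_eq_mul]
  have h2 : (S.biUnion fun s => (s.toFinset).erase e).card ≤ ((Finset.univ : Finset Ω).erase e).card := by
    refine Finset.card_le_card fun f hf => ?_
    simp only [Finset.mem_biUnion, Finset.mem_erase] at hf ⊢
    obtain ⟨-, -, hfe, -⟩ := hf
    exact ⟨hfe, Finset.mem_univ _⟩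
  rw [h1, Finset.card_erase_of_mem (Finset.mem_univ e), Finset.card_univ, ← Nat.card_eq_fintype_card, D.deg] at h2
  omega

/-- Two lines through an outside point disjoint from the line coincide. -/
theorem Sixteen.parallel {x y : G} (hx : x ∈ conjSet t) (hy : y ∈ conjSet t) {e : Ω} (hxe : e ∈ fixedBy Ω x)
    (hye : e ∈ fixedBy Ω y) (hxd : ∀ f ∈ fixedBy Ω x, f ∉ fixedBy Ω t)
    (hyd : ∀ f ∈ fixedBy Ω y, f ∉ fixedBy Ω t) : fixedBy Ω x = fixedBy Ω y := by
  classical
  by_contra hne
  haveI := Fintype.ofFinite Ω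
  have he : e ∉ fixedBy Ω t := hxd e hxe
  have hjoin : ∀ f : ↥(fixedBy Ω t), ∃ g ∈ conjSet t, e ∈ fixedBy Ω g ∧ (f : Ω) ∈ fixedBy Ω g := by
    intro f
    obtain ⟨k, hka, hkb⟩ := D.hyp.two a b e f D.hyp.ne (fun e' => he (e' ▸ f.2))
    exact ⟨k * t * k⁻¹, ⟨k, rfl⟩, hka ▸ (fixedBy_conj k t a).mpr D.inv.mem.1,
      hkb ▸ (fixedBy_conj k t b).mpr D.inv.mem.2⟩
  choose g hg hge hgf using hjoin
  let S : Finset (Set Ω) := insert (fixedBy Ω x) (insert (fixedBy Ω y) (Finset.univ.image fun f => fixedBy Ω (g f)))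
  have hinj : Function.Injective fun f => fixedBy Ω (g f) := by
    intro f f' h
    by_contra hff
    have h2 : (f' : Ω) ∈ fixedBy Ω (g f) := by
      show (f' : Ω) ∈ (fun f => fixedBy Ω (g f)) f
      rw [h]
      exact hgf f'
    have := D.line_eq (hg f) ⟨1, by group⟩ (fun e' => hff (Subtype.ext e')) (hgf f) h2 f.2 f'.2
    exact he (this ▸ hge f)
  have hnx : fixedBy Ω x ∉ Finset.univ.image fun f => fixedBy Ω (g f) := fun h => by
    obtain ⟨f, -, hf⟩ := Finset.mem_image.mp h
    exact hxd f (hf ▸ hgf f) f.2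
  have hny : fixedBy Ω y ∉ Finset.univ.image fun f => fixedBy Ω (g f) := fun h => by
    obtain ⟨f, -, hf⟩ := Finset.mem_image.mp h
    exact hyd f (hf ▸ hgf f) f.2
  have h6 : S.card = 6 := by
    rw [Finset.card_insert_of_notMem (by simpa [hne] using hnx), Finset.card_insert_of_notMem hny,
      Finset.card_image_of_injective _ hinj, Finset.card_univ, ← Nat.card_eq_fintype_card, Nat.card_coe_set_eq,
      D.fix]
  have := D.lines_le (e := e) S fun s hs => by
    simp only [S, Finset.mem_insert, Finset.mem_image, Finset.mem_univ, true_and] at hs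
    rcases hs with rfl | rfl | ⟨f, rfl⟩
    exacts [⟨hxe, x, hx, rfl⟩, ⟨hye, y, hy, rfl⟩, ⟨hge f, g f, hg f, rfl⟩]
  omega

/-- The free involutions through `a` commute. -/
theorem Sixteen.comm_ab {z x : G} (hz : FreeInv t z) (hza : z • a = b) (hx : FreeInv t x) : x * z = z * x := by
  classical
  suffices h : x • b = z • x • a by
    refine mul_inv_eq_iff_eq_mul.mp (D.free_unique (D.free_conj hz x) hz (c := x • a) ?_)
    rw [mul_smul, mul_smul, inv_smul_smul, hza, h]
  have hzb : z • b = a := by rw [← hza, ← mul_smul, hz.1, one_smul]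
  obtain ⟨e, hxa⟩ : ∃ e, x • a = e := ⟨_, rfl⟩
  rw [hxa]
  have hxe : x • e = a := by rw [← hxa, ← mul_smul, hx.1, one_smul]
  have hea : e ≠ a := fun h => D.free_fix hx a (hxa.trans h)
  by_cases heb : e = b
  · subst heb
    rw [hzb, hxe]
  by_cases he : e ∈ fixedBy Ω t
  · -- both images are the fourth point of the line
    have hxt : x * t = t * x := (D.free_comm hx hxa D.inv.mem.1 he).symm
    have hzt : z * t = t * z := (D.free_comm hz hza D.inv.mem.1 D.inv.mem.2).symm
    have hxbt : x • b ∈ fixedBy Ω t := by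
      show t • x • b = x • b
      rw [← mul_smul, ← hxt, mul_smul, show t • b = b from D.inv.mem.2]
    have hzet : z • e ∈ fixedBy Ω t := by
      show t • z • e = z • e
      rw [← mul_smul, ← hzt, mul_smul, show t • e = e from he]
    by_contra hne
    have x1 : x • b ≠ a := fun h => heb (MulAction.injective x (hxe.trans h.symm))
    have x2 : x • b ≠ e := fun h => D.hyp.ne (MulAction.injective x (hxa.trans h.symm))
    have z1 : z • e ≠ a := fun h => heb (MulAction.injective z (h.trans hzb.symm))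
    have z2 : z • e ≠ b := fun h => hea (MulAction.injective z (h.trans hza.symm))
    have hs : ({a, b, e, x • b, z • e} : Set Ω) ⊆ fixedBy Ω t := by
      rintro p (rfl | rfl | rfl | rfl | rfl)
      exacts [D.inv.mem.1, D.inv.mem.2, he, hxbt, hzet]
    have h5 := Set.ncard_le_ncard hs (Set.toFinite _)
    rw [D.fix, Set.ncard_insert_of_notMem (by simp [D.hyp.ne, hea.symm, x1.symm, z1.symm]),
      Set.ncard_insert_of_notMem (by simp [Ne.symm heb, (D.free_fix hx b).symm, z2.symm]),
      Set.ncard_insert_of_notMem (by simp [x2.symm, (D.free_fix hz e).symm]),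
      Set.ncard_pair hne] at h5
    omega
  · -- two lines through both images
    obtain ⟨g, hga, hgb⟩ := D.hyp.two a b a e D.hyp.ne hea.symm
    set t' := g * t * g⁻¹ with ht'
    have ht'c : t' ∈ conjSet t := ⟨g, rfl⟩
    have ha' : a ∈ fixedBy Ω t' := by
      have := (fixedBy_conj g t a).mpr D.inv.mem.1
      rwa [hga] at this
    have he' : e ∈ fixedBy Ω t' := by
      have := (fixedBy_conj g t b).mpr D.inv.mem.2
      rwa [hgb] at this
    have hb' : b ∉ fixedBy Ω t' := fun hb => by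
      have := D.line_eq ht'c ⟨1, by group⟩ D.hyp.ne ha' hb D.inv.mem.1 D.inv.mem.2
      exact he (this ▸ he')
    -- the line through `e`
    obtain ⟨y1, hy1, hey1, hzey1, hd1⟩ := D.line_outside hz hza he
    -- the line through `b`, with respect to the line through `a` and `e`
    have hgbout : g⁻¹ • b ∉ fixedBy Ω t := fun h => hb' (by
      have := (fixedBy_conj g t (g⁻¹ • b)).mpr h
      rwa [smul_inv_smul] at this)
    set x' := g⁻¹ * x * g with hx'
    have hx'f : FreeInv t x' := by simpa [hx', inv_inv] using D.free_conj hx g⁻¹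
    have hx'a : x' • a = b := by
      rw [hx', mul_smul, mul_smul, hga, hxa, inv_smul_eq_iff, hgb]
    obtain ⟨y2', hy2', hby2', hxby2', hd2'⟩ := D.line_outside hx'f hx'a hgbout
    set y2 := g * y2' * g⁻¹ with hy2
    have hy2c : y2 ∈ conjSet t := conjSet_closed D.hyp g y2' hy2'
    have hby2 : b ∈ fixedBy Ω y2 := by
      have := (fixedBy_conj g y2' (g⁻¹ • b)).mpr hby2'
      rwa [smul_inv_smul] at this
    have hxby2 : x • b ∈ fixedBy Ω y2 := by
      have := (fixedBy_conj g y2' (x' • g⁻¹ • b)).mpr hxby2'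
      rwa [hx', mul_smul, mul_smul, smul_inv_smul, smul_inv_smul] at this
    have hd2 : ∀ f ∈ fixedBy Ω y2, f ∉ fixedBy Ω t' := fun f hf hf' => by
      refine hd2' (g⁻¹ • f) ((fixedBy_conj g y2' _).mp ?_) ((fixedBy_conj g t _).mp ?_) <;> rwa [smul_inv_smul]
    -- images of the lines
    have hmapz : ∀ (q r : G) (c : Ω), q * q = 1 → c ∈ fixedBy Ω r → q • c ∈ fixedBy Ω (q * r * q⁻¹) :=
      fun q r c _ hc => (fixedBy_conj q r c).mpr hc
    have hdisj : ∀ (q : G) (r : G), FreeInv t q → r ∈ conjSet t → (∀ f ∈ fixedBy Ω r, q • f ∉ fixedBy Ω r) ∨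
        fixedBy Ω (q * r * q⁻¹) = fixedBy Ω r := by
      intro q r hq hr
      by_cases h : ∀ f ∈ fixedBy Ω r, q • f ∉ fixedBy Ω r
      · exact Or.inl h
      · push Not at h
        obtain ⟨f, hf, hqf⟩ := h
        refine Or.inr (D.line_eq (conjSet_closed D.hyp q r hr) hr (Ne.symm (D.free_fix hq f)) ?_ ?_ hf hqf)
        · have := hmapz q r (q • f) hq.1 hqf
          rwa [← mul_smul, hq.1, one_smul] at this
        · exact hmapz q r f hq.1 hf
    have hA : z * t' * z⁻¹ ∈ conjSet t := conjSet_closed D.hyp z t' ht'c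
    have hzt'd : ∀ f ∈ fixedBy Ω (z * t' * z⁻¹), f ∉ fixedBy Ω t' := by
      rcases hdisj z t' hz ht'c with h | h
      · intro f hf hf'
        refine h (z • f) ?_ (by rwa [← mul_smul, hz.1, one_smul])
        have := (fixedBy_conj z t' (z • f)).mp (by rwa [← mul_smul, hz.1, one_smul])
        exact this
      · exact absurd (h ▸ hza ▸ hmapz z t' a hz.1 ha') hb'
    have hB : x * t * x⁻¹ ∈ conjSet t := conjSet_closed D.hyp x t ⟨1, by group⟩
    have hxtd : ∀ f ∈ fixedBy Ω (x * t * x⁻¹), f ∉ fixedBy Ω t := by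
      rcases hdisj x t hx ⟨1, by group⟩ with h | h
      · intro f hf hf'
        refine h (x • f) ?_ (by rwa [← mul_smul, hx.1, one_smul])
        exact (fixedBy_conj x t (x • f)).mp (by rwa [← mul_smul, hx.1, one_smul])
      · exact absurd (h ▸ hxa ▸ hmapz x t a hx.1 D.inv.mem.1) he
    have e2 : fixedBy Ω (z * t' * z⁻¹) = fixedBy Ω y2 := by
      -- transport the uniqueness of parallels
      have hconj : ∀ r : G, r ∈ conjSet t → g⁻¹ * r * g ∈ conjSet t := fun r hr => by
        simpa using conjSet_closed D.hyp g⁻¹ r hr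
      have hpar := D.parallel (hconj _ hA) hy2' (e := g⁻¹ • b) ?_ hby2' ?_ hd2'
      · ext f
        rw [← fixedBy_conj g⁻¹ (z * t' * z⁻¹) f, inv_inv, hpar]
        conv_rhs => rw [hy2, ← smul_inv_smul g f, fixedBy_conj]
      · have := (fixedBy_conj g⁻¹ (z * t' * z⁻¹) b).mpr (hza ▸ hmapz z t' a hz.1 ha')
        rwa [inv_inv] at this
      · intro f hf hf'
        refine hzt'd (g • f) ?_ ((fixedBy_conj g t f).mpr hf')
        have := (fixedBy_conj g (g⁻¹ * (z * t' * z⁻¹) * g) f).mpr hf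
        rwa [show g * (g⁻¹ * (z * t' * z⁻¹) * g) * g⁻¹ = z * t' * z⁻¹ by group] at this
    have e1 : fixedBy Ω (x * t * x⁻¹) = fixedBy Ω y1 :=
      D.parallel hB hy1 (hxa ▸ hmapz x t a hx.1 D.inv.mem.1) hey1 hxtd hd1
    have hxby1 : x • b ∈ fixedBy Ω y1 := e1 ▸ hmapz x t b hx.1 D.inv.mem.2
    have hzey2 : z • e ∈ fixedBy Ω y2 := e2 ▸ hmapz z t' e hz.1 he'
    by_contra hne
    have heq := D.line_eq hy1 hy2c hne hxby1 hzey1 hxby2 hzey2
    exact hd1 b (heq ▸ hby2) D.inv.mem.2

theorem Sixteen.free_commute {z x : G} (hz : FreeInv t z) (hx : FreeInv t x) : x * z = z * x := by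
  obtain ⟨k, hka, hkb⟩ := D.hyp.two a b a (z • a) D.hyp.ne (Ne.symm (D.free_fix hz a))
  have h := D.comm_ab (z := k⁻¹ * z * k) (x := k⁻¹ * x * k) (by simpa using D.free_conj hz k⁻¹)
    (by rw [mul_smul, mul_smul, hka, inv_smul_eq_iff, hkb]) (by simpa using D.free_conj hx k⁻¹)
  calc x * z = k * ((k⁻¹ * x * k) * (k⁻¹ * z * k)) * k⁻¹ := by group
    _ = k * ((k⁻¹ * z * k) * (k⁻¹ * x * k)) * k⁻¹ := by rw [h]
    _ = z * x := by group

/-- The translations. -/
def Sixteen.trans : Subgroup G where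
  carrier := {x | x = 1 ∨ FreeInv t x}
  one_mem' := Or.inl rfl
  inv_mem' := by
    rintro x (rfl | hx)
    · exact Or.inl inv_one
    · right; rw [inv_eq_of_mul_eq_one_left hx.1]; exact hx
  mul_mem' := by
    rintro x y (rfl | hx) (rfl | hy)
    · exact Or.inl (one_mul 1)
    · right; rwa [one_mul]
    · right; rwa [mul_one]
    by_cases hxy : x = y
    · subst hxy; exact Or.inl hx.1
    right
    have hc := D.free_commute hy hx
    refine ⟨by rw [mul_assoc, ← mul_assoc y x y, ← hc, mul_assoc x y y, hy.1, mul_one, hx.1], fun e => hxy ?_,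
      fun hm => ?_⟩
    · rw [eq_inv_of_mul_eq_one_left e, inv_eq_of_mul_eq_one_left hy.1]
    · obtain ⟨c, hc'⟩ := Set.nonempty_of_ncard_ne_zero (show (fixedBy Ω (x * y)).ncard ≠ 0 by
        rw [D.card_line hm]; norm_num)
      refine hxy (D.free_unique hx hy (c := c) ?_)
      have h : x • y • c = c := by rw [← mul_smul]; exact hc'
      rw [← mul_left_cancel_iff (a := x)] at hxy
      conv_lhs => rw [← h, ← mul_smul, hx.1, one_smul]

theorem Sixteen.trans_normal : D.trans.Normal := ⟨fun x hx g => by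
  rcases hx with rfl | hx
  · exact Or.inl (by simp)
  · exact Or.inr (D.free_conj hx g)⟩

theorem Sixteen.trans_regular (c d : Ω) : ∃! x : G, x ∈ D.trans ∧ x • c = d := by
  have hfree : ∀ x ∈ D.trans, x • c = c → x = 1 := fun x hx hxc =>
    hx.resolve_right fun h => D.free_fix h c hxc
  have hex : ∃ x, x ∈ D.trans ∧ x • c = d := by
    by_cases hcd : c = d
    · exact ⟨1, Or.inl rfl, by rw [one_smul, hcd]⟩
    · obtain ⟨x, hx, hxc⟩ := D.free_exists hcd
      exact ⟨x, Or.inr hx, hxc⟩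
  obtain ⟨x, hx, hxc⟩ := hex
  refine ⟨x, ⟨hx, hxc⟩, fun y hy => ?_⟩
  exact (inv_mul_eq_one.mp (hfree _ (mul_mem (inv_mem hx) hy.1)
    (by rw [mul_smul, hy.2, ← hxc, inv_smul_smul]))).symm

end CfsgLib.StabAlt4
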