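import Cfsg.Agent.Lib.StabAlt4.Setting
import Cfsg.Agent.Lib.Perm.AutAltGen

/-!
The elements interchanging the two points: the set-wise stabiliser is `S₄` or `A₄ × C₂`.
-/

set_option autoImplicit false
set_option linter.unusedSectionVars false
set_option linter.style.haveILetI false
set_option maxRecDepth 100000

namespace CfsgLib.StabAlt4

open MulAction CfsgLib.StabAlt5 Equiv

universe u v

local notation "A4" => alternatingGroup (Fin 4)
local notation "S4" => Perm (Fin 4)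

theorem s4_three : ∀ σ : S4, Perm.sign σ = 1 → σ ^ 3 = 1 → σ ≠ 1 → σ.support.card = 3 := by decide +kernel

theorem s4_odd_count :
    (Finset.univ.filter fun p : S4 => Perm.sign p = -1 ∧ p * p = 1).card = 6 := by decide +kernel

theorem s4_odd_conj : ∀ p : S4, Perm.sign p = -1 → p * p = 1 → ∀ q : S4, Perm.sign q = -1 → q * q = 1 →
    ∃ u : A4, (u : S4) * p * (u : S4)⁻¹ = q := by decide +kernel

theorem s4_outer : ∀ x : A4, x * x = 1 → x ≠ 1 → ∃ p : S4, Perm.sign p = -1 ∧ p * p = 1 ∧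
    p * (x : S4) = (x : S4) * p ∧ ∃ v : A4, v * x = x * v ∧ p * (v : S4) ≠ (v : S4) * p := by decide +kernel

theorem a4_center : ∀ x : A4, (∀ y : A4, x * y = y * x) → x = 1 := by decide +kernel

variable {G : Type u} [Group G] [Finite G] {Ω : Type v} [Finite Ω] [MulAction G Ω] [FaithfulSMul G Ω]

/-- The elements interchanging the two points. -/
def Swaps (x : G) (a b : Ω) : Prop := x • a = b ∧ x • b = a

variable {a b : Ω}

theorem Swaps.inv_smul {x : G} (h : Swaps x a b) : x⁻¹ • a = b ∧ x⁻¹ • b = a :=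
  ⟨by rw [inv_smul_eq_iff, h.2], by rw [inv_smul_eq_iff, h.1]⟩

theorem Swaps.conj_mem {x : G} (h : Swaps x a b) {y : G} (hy : y ∈ pairStab G a b) :
    x * y * x⁻¹ ∈ pairStab G a b :=
  ⟨by show (x * y * x⁻¹) • a = a; rw [mul_smul, h.inv_smul.1, mul_smul, show y • b = b from hy.2, h.2],
   by show (x * y * x⁻¹) • b = b; rw [mul_smul, h.inv_smul.2, mul_smul, show y • a = a from hy.1, h.1]⟩

theorem Swaps.conj_mem' {x : G} (h : Swaps x a b) {y : G} (hy : y ∈ pairStab G a b) :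
    x⁻¹ * y * x ∈ pairStab G a b := by
  simpa using Swaps.conj_mem (x := x⁻¹) ⟨h.inv_smul.1, h.inv_smul.2⟩ hy

theorem Swaps.mul_mem {x y : G} (h : Swaps x a b) (hy : Swaps y a b) : x * y ∈ pairStab G a b :=
  ⟨by show (x * y) • a = a; rw [mul_smul, hy.1, h.2], by show (x * y) • b = b; rw [mul_smul, hy.2, h.1]⟩

theorem Swaps.mul_right {x u : G} (h : Swaps x a b) (hu : u ∈ pairStab G a b) : Swaps (x * u) a b :=
  ⟨by rw [mul_smul, show u • a = a from hu.1, h.1], by rw [mul_smul, show u • b = b from hu.2, h.2]⟩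

theorem Swaps.div_mem {x y : G} (h : Swaps x a b) (hy : Swaps y a b) : x⁻¹ * y ∈ pairStab G a b :=
  ⟨by show (x⁻¹ * y) • a = a; rw [mul_smul, hy.1, h.inv_smul.2],
   by show (x⁻¹ * y) • b = b; rw [mul_smul, hy.2, h.inv_smul.1]⟩

/-- The automorphism of the two-point stabiliser induced by a swapping element. -/
def Swaps.aut {x : G} (h : Swaps x a b) : MulAut ↥(pairStab G a b) where
  toFun y := ⟨x * y * x⁻¹, h.conj_mem y.2⟩
  invFun y := ⟨x⁻¹ * y * x, h.conj_mem' y.2⟩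
  left_inv y := Subtype.ext (by simp [mul_assoc])
  right_inv y := Subtype.ext (by simp [mul_assoc])
  map_mul' y z := Subtype.ext (by simp [mul_assoc])

/-- The first case: some swapping element centralises the two-point stabiliser. -/
def CentralSwap (G : Type u) {Ω : Type v} [Group G] [MulAction G Ω] (a b : Ω) : Prop :=
  ∃ z : G, Swaps z a b ∧ z * z = 1 ∧ ∀ y ∈ pairStab G a b, z * y = y * z

/-- The second case: the involutions interchanging the two points form one class, like transpositions. -/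
def OuterSwap (G : Type u) {Ω : Type v} [Group G] [MulAction G Ω] (a b : Ω) : Prop :=
  {x : G | x * x = 1 ∧ Swaps x a b}.ncard = 6 ∧
    (∀ x y : G, x * x = 1 → Swaps x a b → y * y = 1 → Swaps y a b →
      ∃ u ∈ pairStab G a b, u * x * u⁻¹ = y) ∧
    ∀ t : G, InvIn t a b → ∃ τ : G, Swaps τ a b ∧ τ * τ = 1 ∧ τ * t = t * τ ∧
      ∃ v ∈ four t a b, τ * v ≠ v * τ

theorem central_or_outer (H : Hyp G a b) : CentralSwap G a b ∨ OuterSwap G a b := by
  obtain ⟨e⟩ := H.iso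
  obtain ⟨g, hga, hgb⟩ := H.two a b b a H.ne H.ne.symm
  have hg : Swaps g a b := ⟨hga, hgb⟩
  obtain ⟨σ, hσ⟩ := CfsgLib.AutAltGen.exists_conjNormal 4 (by norm_num) (MulAut.congr e hg.aut) fun u hu => by
    have h1 : u ^ 3 = 1 := by
      refine Subtype.ext ?_
      rw [Subgroup.coe_pow, ← hu.orderOf]
      exact pow_orderOf_eq_one _
    have h2 : u ≠ 1 := fun e' => by
      rw [e', OneMemClass.coe_one] at hu
      exact hu.ne_one rfl
    refine card_support_eq_three_iff.mp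
      (s4_three _ (Perm.mem_alternatingGroup.mp (MulAut.congr e hg.aut u).2) ?_ ?_)
    · rw [← Subgroup.coe_pow, ← map_pow, h1, map_one]; rfl
    · intro e'
      exact h2 ((MulAut.congr e hg.aut).injective (by rw [map_one]; exact Subtype.ext e'))
  have hkey : ∀ y : ↥(pairStab G a b), ((e (hg.aut y) : A4) : S4) = σ * (e y : S4) * σ⁻¹ := by
    intro y
    have h : MulAut.conjNormal σ (e y) = MulAut.congr e hg.aut (e y) := by rw [hσ]
    have h' : MulAut.congr e hg.aut (e y) = e (hg.aut (e.symm (e y))) := rfl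
    rw [h', e.symm_apply_apply] at h
    rw [← h, MulAut.conjNormal_apply]
  rcases Int.units_eq_one_or (Perm.sign σ) with hs | hs
  · refine Or.inl ?_
    set u : ↥(pairStab G a b) := e.symm ⟨σ, Perm.mem_alternatingGroup.mpr hs⟩ with hu
    have hc : ∀ y ∈ pairStab G a b, g * y * g⁻¹ = (u : G) * y * (u : G)⁻¹ := fun y hy => by
      have h := hkey ⟨y, hy⟩
      have h2 : e (hg.aut ⟨y, hy⟩) = e u * e ⟨y, hy⟩ * (e u)⁻¹ := Subtype.ext (by
        rw [h, hu, e.apply_symm_apply]; rfl)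
      rw [← map_inv, ← map_mul, ← map_mul] at h2
      exact congrArg Subtype.val (e.injective h2)
    have hz : Swaps ((u : G)⁻¹ * g) a b := by
      have h1 := inv_mem u.2
      exact ⟨by rw [mul_smul, hga]; exact h1.2, by rw [mul_smul, hgb]; exact h1.1⟩
    have hcomm : ∀ y ∈ pairStab G a b, (u : G)⁻¹ * g * y = y * ((u : G)⁻¹ * g) := fun y hy => by
      calc (u : G)⁻¹ * g * y = (u : G)⁻¹ * (g * y * g⁻¹) * g := by group
        _ = (u : G)⁻¹ * ((u : G) * y * (u : G)⁻¹) * g := by rw [hc y hy]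
        _ = y * ((u : G)⁻¹ * g) := by group
    refine ⟨_, hz, ?_, hcomm⟩
    have hm := hz.mul_mem hz
    have hcen : ∀ y : A4, e ⟨_, hm⟩ * y = y * e ⟨_, hm⟩ := fun y => by
      obtain ⟨w, rfl⟩ := e.surjective y
      rw [← map_mul, ← map_mul]
      refine congrArg e (Subtype.ext ?_)
      show (u : G)⁻¹ * g * ((u : G)⁻¹ * g) * w = w * ((u : G)⁻¹ * g * ((u : G)⁻¹ * g))
      rw [mul_assoc, hcomm w w.2, ← mul_assoc, hcomm w w.2, mul_assoc]
    exact congrArg Subtype.val (e.map_eq_one_iff.mp (a4_center _ hcen))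
  · refine Or.inr ?_
    -- the swapping elements correspond to the odd permutations
    let ψ : ∀ x : G, Swaps x a b → S4 := fun x hx => σ * (e ⟨g⁻¹ * x, hg.div_mem hx⟩ : S4)
    have hψs : ∀ (x : G) (hx : Swaps x a b), Perm.sign (ψ x hx) = -1 := fun x hx => by
      rw [map_mul, hs, Perm.mem_alternatingGroup.mp (e _).2, mul_one]
    have hψinj : ∀ (x y : G) (hx : Swaps x a b) (hy : Swaps y a b), ψ x hx = ψ y hy → x = y := by
      intro x y hx hy h
      have h' : e ⟨g⁻¹ * x, hg.div_mem hx⟩ = e ⟨g⁻¹ * y, hg.div_mem hy⟩ := Subtype.ext (mul_left_cancel h)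
      exact mul_left_cancel (congrArg Subtype.val (e.injective h'))
    have hψsurj : ∀ p : S4, Perm.sign p = -1 → ∃ (x : G) (hx : Swaps x a b), ψ x hx = p := by
      intro p hp
      have hm : σ⁻¹ * p ∈ A4 := by
        rw [Perm.mem_alternatingGroup, map_mul, map_inv, hs, hp]; decide
      have hxs : Swaps (g * (e.symm ⟨_, hm⟩ : ↥(pairStab G a b))) a b := hg.mul_right (e.symm _).2
      refine ⟨_, hxs, ?_⟩
      have : (⟨g⁻¹ * (g * (e.symm ⟨_, hm⟩ : ↥(pairStab G a b))), hg.div_mem hxs⟩ : ↥(pairStab G a b)) =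
          e.symm ⟨_, hm⟩ := Subtype.ext (by simp)
      show σ * _ = p
      rw [this, e.apply_symm_apply]
      simp
    have hψconj : ∀ (x : G) (hx : Swaps x a b) (y : ↥(pairStab G a b)),
        ((e ⟨x * y * x⁻¹, hx.conj_mem y.2⟩ : A4) : S4) = ψ x hx * (e y : S4) * (ψ x hx)⁻¹ := by
      intro x hx y
      have h := hkey (⟨g⁻¹ * x, hg.div_mem hx⟩ * y * (⟨g⁻¹ * x, hg.div_mem hx⟩)⁻¹)
      have e1 : hg.aut (⟨g⁻¹ * x, hg.div_mem hx⟩ * y * (⟨g⁻¹ * x, hg.div_mem hx⟩)⁻¹) =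
          ⟨x * y * x⁻¹, hx.conj_mem y.2⟩ := Subtype.ext (by
        show g * (g⁻¹ * x * y * (g⁻¹ * x)⁻¹) * g⁻¹ = x * y * x⁻¹
        group)
      rw [e1, map_mul, map_mul, map_inv] at h
      rw [h]
      simp only [ψ, Subgroup.coe_mul, Subgroup.coe_inv]
      group
    have hψmul : ∀ (x y : G) (hx : Swaps x a b) (hy : Swaps y a b),
        ((e ⟨x * y, hx.mul_mem hy⟩ : A4) : S4) = ψ x hx * ψ y hy := by
      intro x y hx hy
      refine eq_of_mul_inv_eq_one ?_
      have hsg : Perm.sign ((e ⟨x * y, hx.mul_mem hy⟩ : S4) * (ψ x hx * ψ y hy)⁻¹) = 1 := by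
        rw [map_mul, map_inv, map_mul, hψs x hx, hψs y hy, Perm.mem_alternatingGroup.mp (e _).2]; decide
      have hc : ∀ w : A4, (⟨_, Perm.mem_alternatingGroup.mpr hsg⟩ : A4) * w =
          w * ⟨_, Perm.mem_alternatingGroup.mpr hsg⟩ := by
        intro w
        obtain ⟨z, hz⟩ : ∃ z, e z = w := ⟨_, e.apply_symm_apply w⟩
        -- two descriptions of the conjugation by `x * y` at the preimage
        obtain ⟨c, rfl⟩ : ∃ c : ↥(pairStab G a b), z = ⟨x * (y * c * y⁻¹) * x⁻¹, hx.conj_mem (hy.conj_mem c.2)⟩ :=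
          ⟨⟨y⁻¹ * (x⁻¹ * z * x) * y, hy.conj_mem' (hx.conj_mem' z.2)⟩, Subtype.ext (by group)⟩
        have h1 := hψconj x hx ⟨y * c * y⁻¹, hy.conj_mem c.2⟩
        rw [hψconj y hy c] at h1
        have h2 : (⟨x * (y * c * y⁻¹) * x⁻¹, hx.conj_mem (hy.conj_mem c.2)⟩ : ↥(pairStab G a b)) =
            ⟨x * y, hx.mul_mem hy⟩ * c * (⟨x * y, hx.mul_mem hy⟩)⁻¹ := Subtype.ext (by
          show x * (y * c * y⁻¹) * x⁻¹ = x * y * c * (x * y)⁻¹
          group)
        have h3 : ((e ⟨x * (y * c * y⁻¹) * x⁻¹, hx.conj_mem (hy.conj_mem c.2)⟩ : A4) : S4) =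
            (e ⟨x * y, hx.mul_mem hy⟩ : S4) * (e c : S4) * (e ⟨x * y, hx.mul_mem hy⟩ : S4)⁻¹ := by
          rw [h2, map_mul, map_mul, map_inv]; rfl
        refine Subtype.ext ?_
        rw [Subgroup.coe_mul, Subgroup.coe_mul, ← hz]
        nth_rewrite 1 [h1]
        rw [h3]
        group
      exact congrArg Subtype.val (a4_center _ hc)
    have hψsq : ∀ (x : G) (hx : Swaps x a b), x * x = 1 ↔ ψ x hx * ψ x hx = 1 := by
      intro x hx
      rw [← hψmul x x hx hx]
      refine ⟨fun h => ?_, fun h => congrArg Subtype.val (e.map_eq_one_iff.mp (Subtype.ext h))⟩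
      rw [show (⟨x * x, hx.mul_mem hx⟩ : ↥(pairStab G a b)) = 1 from Subtype.ext h, map_one]
      rfl
    refine ⟨?_, fun x y x2 hx y2 hy => ?_, fun t T => ?_⟩
    · rw [← s4_odd_count, ← Set.ncard_coe_finset]
      refine Set.ncard_congr (fun x hx => ψ x hx.2) (fun x hx => ?_) (fun x y hx hy h => hψinj x y hx.2 hy.2 h)
        fun p hp => ?_
      · simpa using ⟨hψs x hx.2, (hψsq x hx.2).mp hx.1⟩
      · simp only [Finset.coe_filter, Finset.mem_univ, true_and, Set.mem_ofPred_eq] at hp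
        obtain ⟨x, hx, rfl⟩ := hψsurj p hp.1
        exact ⟨x, ⟨(hψsq x hx).mpr hp.2, hx⟩, rfl⟩
    · obtain ⟨u, hu⟩ := s4_odd_conj _ (hψs x hx) ((hψsq x hx).mp x2) _ (hψs y hy) ((hψsq y hy).mp y2)
      obtain ⟨c, rfl⟩ := e.surjective u
      refine ⟨c, c.2, ?_⟩
      have hd : Swaps ((c : G) * x * (c : G)⁻¹) a b := by
        have h1 := c.2
        have h2 := inv_mem c.2
        exact ⟨by rw [mul_smul, mul_smul, show (c : G)⁻¹ • a = a from h2.1, hx.1]; exact h1.2,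
          by rw [mul_smul, mul_smul, show (c : G)⁻¹ • b = b from h2.2, hx.2]; exact h1.1⟩
      refine hψinj _ _ hd hy (mul_right_cancel (b := (ψ x hx)⁻¹) ?_)
      have h1 := hψmul _ _ hd ⟨hx.inv_smul.1, hx.inv_smul.2⟩
      have hxinv : ψ x⁻¹ ⟨hx.inv_smul.1, hx.inv_smul.2⟩ = (ψ x hx)⁻¹ := by
        refine eq_inv_of_mul_eq_one_right ?_
        rw [← hψmul x x⁻¹ hx ⟨hx.inv_smul.1, hx.inv_smul.2⟩]
        simp only [mul_inv_cancel]
        exact congrArg Subtype.val e.map_one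
      rw [hxinv] at h1
      rw [← h1, ← hu]
      have h4 : (⟨(c : G) * x * (c : G)⁻¹ * x⁻¹, hd.mul_mem ⟨hx.inv_smul.1, hx.inv_smul.2⟩⟩ :
          ↥(pairStab G a b)) = c * ⟨x * (c : G)⁻¹ * x⁻¹, hx.conj_mem (inv_mem c.2)⟩ := Subtype.ext (by
        show (c : G) * x * (c : G)⁻¹ * x⁻¹ = (c : G) * (x * (c : G)⁻¹ * x⁻¹)
        group)
      rw [h4, map_mul, Subgroup.coe_mul, show (⟨x * (c : G)⁻¹ * x⁻¹, hx.conj_mem (inv_mem c.2)⟩ :
        ↥(pairStab G a b)) = ⟨x * ((c⁻¹ : ↥(pairStab G a b)) : G) * x⁻¹, hx.conj_mem (c⁻¹).2⟩ from rfl,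
        hψconj x hx c⁻¹, map_inv, Subgroup.coe_inv]
      group
    · obtain ⟨ht1, ht2⟩ := sq_map e T.mem T.sq T.ne_one
      obtain ⟨p, hp, hp2, hpt, v, hvt, hpv⟩ := s4_outer _ ht1 ht2
      obtain ⟨τ, hτ, rfl⟩ := hψsurj p hp
      have key : ∀ y : ↥(pairStab G a b), ψ τ hτ * (e y : S4) = (e y : S4) * ψ τ hτ ↔ τ * y = y * τ := by
        intro y
        rw [← mul_inv_eq_iff_eq_mul, ← hψconj τ hτ y, Subtype.coe_inj, e.injective.eq_iff, Subtype.ext_iff,
          mul_inv_eq_iff_eq_mul]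
      refine ⟨τ, hτ, (hψsq τ hτ).mpr hp2, (key ⟨t, T.mem⟩).mp hpt, (e.symm v : ↥(pairStab G a b)),
        mem_four.mpr ⟨(e.symm v).2, ?_⟩, fun h => hpv ?_⟩
      · refine (comm_map e T.mem (e.symm v).2).mp ?_
        simpa using hvt
      · simpa using (key (e.symm v)).mpr h

end CfsgLib.StabAlt4
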